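import Mathlib.RingTheory.PolynomialLaw.Basic
import Mathlib.RingTheory.MvPolynomial.Basic
import Mathlib.LinearAlgebra.DirectSum.Finsupp
import Mathlib.RingTheory.Flat.Basic

/-!
Polynomial laws through their values on polynomial rings; coefficients.
-/

universe u v w x

open scoped TensorProduct

open MvPolynomial

namespace Groth.Agent.PolLaw95

variable {A : Type u} [CommRing A] {M : Type v} [AddCommGroup M] [Module A M]
  {N : Type w} [AddCommGroup N] [Module A N]

/-- Base change of elements along an algebra map of coefficient rings. -/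
noncomputable def rT {S : Type u} [CommSemiring S] [Algebra A S] {S' : Type u} [CommSemiring S']
    [Algebra A S'] (φ : S →ₐ[A] S') (M : Type v) [AddCommGroup M] [Module A M] :
    S ⊗[A] M →ₗ[A] S' ⊗[A] M :=
  φ.toLinearMap.rTensor M

@[simp]
theorem rT_tmul {S : Type u} [CommSemiring S] [Algebra A S] {S' : Type u} [CommSemiring S']
    [Algebra A S'] (φ : S →ₐ[A] S') (s : S) (m : M) : rT φ M (s ⊗ₜ m) = φ s ⊗ₜ m := rfl

theorem rT_rT {S S' S'' : Type u} [CommSemiring S] [Algebra A S] [CommSemiring S'] [Algebra A S']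
    [CommSemiring S''] [Algebra A S''] (φ : S →ₐ[A] S') (ψ : S' →ₐ[A] S'') (x : S ⊗[A] M) :
    rT ψ M (rT φ M x) = rT (ψ.comp φ) M x :=
  by simp only [rT, ← LinearMap.comp_apply, ← LinearMap.rTensor_comp, ← AlgHom.comp_toLinearMap]

theorem compat (F : M →ₚₗ[A] N) {S : Type u} [CommSemiring S] [Algebra A S] {S' : Type u}
    [CommSemiring S'] [Algebra A S'] (φ : S →ₐ[A] S') (x : S ⊗[A] M) :
    rT φ N (F.toFun' S x) = F.toFun' S' (rT φ M x) :=
  congrFun (F.isCompat' φ) x

variable (A) in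
/-- The universal element `Σ Xⱼ ⊗ bⱼ`. -/
noncomputable def uni {σ : Type} [Fintype σ] (b : σ → M) : MvPolynomial σ A ⊗[A] M :=
  ∑ j, X j ⊗ₜ[A] b j

theorem rT_aeval_uni {σ : Type} [Fintype σ] (b : σ → M) {S : Type u} [CommSemiring S] [Algebra A S]
    (s : σ → S) : rT (aeval s) M (uni A b) = ∑ j, s j ⊗ₜ[A] b j := by
  simp [uni]

theorem exists_eq_sum {S : Type u} [CommSemiring S] [Algebra A S] (x : S ⊗[A] M) :
    ∃ (n : ℕ) (s : Fin n → S) (b : Fin n → M), x = ∑ j, s j ⊗ₜ[A] b j := by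
  obtain ⟨T, hT⟩ := TensorProduct.exists_multiset x
  refine ⟨T.toList.length, fun j => (T.toList.get j).1, fun j => (T.toList.get j).2, ?_⟩
  subst hT
  conv_lhs => rw [← T.coe_toList, Multiset.map_coe, Multiset.sum_coe, ← Fin.sum_univ_getElem]
  exact Fintype.sum_equiv (finCongr (by simp)) _ _ fun i => by simp [List.get_eq_getElem]

open Classical in
/-- Coefficients of an element of `A[σ] ⊗ N`. -/
noncomputable def coefL {σ : Type x} : MvPolynomial σ A ⊗[A] N ≃ₗ[A] ((σ →₀ ℕ) →₀ N) :=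
  (basisMonomials σ A).repr.rTensor N ≪≫ₗ TensorProduct.finsuppScalarLeft A N (σ →₀ ℕ)

open Classical in
@[simp]
theorem coefL_tmul {σ : Type x} (p : MvPolynomial σ A) (n : N) (α : σ →₀ ℕ) :
    coefL (p ⊗ₜ[A] n) α = coeff α p • n := by
  rw [coefL, LinearEquiv.trans_apply, LinearEquiv.rTensor_tmul,
    TensorProduct.finsuppScalarLeft_apply_tmul_apply]
  rfl

theorem coefL_symm_single {σ : Type x} (α : σ →₀ ℕ) (n : N) :
    coefL.symm (Finsupp.single α n) = monomial α (1 : A) ⊗ₜ[A] n := by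
  classical
  rw [LinearEquiv.symm_apply_eq]
  ext β
  simp [Finsupp.single_apply, coeff_monomial]

theorem eq_sum_coef {σ : Type x} (z : MvPolynomial σ A ⊗[A] N) :
    z = ∑ α ∈ (coefL z).support, monomial α (1 : A) ⊗ₜ[A] coefL z α := by
  conv_lhs => rw [← coefL.symm_apply_apply z, ← Finsupp.sum_single (coefL z)]
  rw [Finsupp.sum, map_sum]
  exact Finset.sum_congr rfl fun α _ => coefL_symm_single α _

/-- The coefficient of `Xᵅ` in the value of a law at `Σ Xⱼ ⊗ bⱼ`. -/
noncomputable def coef (F : M →ₚₗ[A] N) {σ : Type} [Fintype σ] (b : σ → M) (α : σ →₀ ℕ) : N :=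
  coefL (F.toFun' (MvPolynomial σ A) (uni A b)) α

theorem toFun'_sum (F : M →ₚₗ[A] N) {σ : Type} [Fintype σ] (b : σ → M) {S : Type u} [CommSemiring S]
    [Algebra A S] (s : σ → S) :
    F.toFun' S (∑ j, s j ⊗ₜ[A] b j) =
      ∑ α ∈ (coefL (F.toFun' (MvPolynomial σ A) (uni A b))).support,
        (α.prod fun j e => s j ^ e) ⊗ₜ[A] coef F b α := by
  rw [← rT_aeval_uni b s, ← compat]
  conv_lhs => rw [eq_sum_coef (F.toFun' (MvPolynomial σ A) (uni A b))]
  rw [map_sum]
  refine Finset.sum_congr rfl fun α _ => ?_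
  rw [rT_tmul, aeval_monomial, map_one, one_mul]
  rfl

/-- Laws agreeing on finite polynomial rings are equal. -/
theorem law_ext {F G : M →ₚₗ[A] N}
    (h : ∀ (n : ℕ) (z : MvPolynomial (Fin n) A ⊗[A] M),
      F.toFun' (MvPolynomial (Fin n) A) z = G.toFun' (MvPolynomial (Fin n) A) z) : F = G := by
  ext S _ _ x
  obtain ⟨n, s, b, rfl⟩ := exists_eq_sum x
  have : rT (aeval s) M (∑ j, (X j : MvPolynomial (Fin n) A) ⊗ₜ[A] b j) = ∑ j, s j ⊗ₜ[A] b j := by simp
  rw [← this, ← compat, ← compat, h]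

section OfPoly

variable (T : ∀ n : ℕ, MvPolynomial (Fin n) A ⊗[A] M → MvPolynomial (Fin n) A ⊗[A] N)
  (hT : ∀ (n m : ℕ) (φ : MvPolynomial (Fin n) A →ₐ[A] MvPolynomial (Fin m) A),
    φ.toLinearMap.rTensor N ∘ T n = T m ∘ φ.toLinearMap.rTensor M)

include hT in
theorem wellDefined_aux {n : ℕ} {S : Type u} [CommSemiring S] [Algebra A S]
    (φ : MvPolynomial (Fin n) A →ₐ[A] S) (hφ : Function.Surjective φ)
    (z z' : MvPolynomial (Fin n) A ⊗[A] M) (h : rT φ M z = rT φ M z') :
    rT φ N (T n z) = rT φ N (T n z') := by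
  let _ : AddCommGroup S := Module.addCommMonoidToAddCommGroup A
  obtain ⟨y, hy⟩ : ∃ y, (LinearMap.ker φ.toLinearMap).subtype.rTensor M y = z - z' := by
    refine ((rTensor_exact M (g := φ.toLinearMap) ?_ hφ) (z - z')).mp ?_
    · exact LinearMap.exact_subtype_ker_map φ.toLinearMap
    · rw [map_sub, sub_eq_zero]; exact h
  obtain ⟨L, hL⟩ := TensorProduct.exists_multiset y
  set l := L.toList
  let incl : MvPolynomial (Fin n) A →ₐ[A] MvPolynomial (Fin (n + l.length)) A :=
    rename (Fin.castAdd l.length)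
  let ev : (Fin l.length → MvPolynomial (Fin n) A) → MvPolynomial (Fin (n + l.length)) A →ₐ[A] MvPolynomial (Fin n) A :=
    fun g => aeval (Fin.append X g)
  set U := rT incl M z' + ∑ i, X (Fin.natAdd n i) ⊗ₜ[A] (l.get i).2 with hU
  have hev : ∀ g, (ev g).comp incl = AlgHom.id A _ := fun g => algHom_ext fun i => by
    simp [ev, incl]
  have h1 : rT (ev fun i => ((l.get i).1 : MvPolynomial (Fin n) A)) M U = z := by
    rw [hU, map_add, rT_rT, hev, map_sum]
    simp only [rT_tmul, ev, aeval_X, Fin.append_right]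
    rw [← sub_add_cancel z z', ← hy, hL, map_multiset_sum, Multiset.map_map, add_comm]
    congr 1
    · rw [← Multiset.coe_toList L, Multiset.map_coe, Multiset.sum_coe, ← Fin.sum_univ_getElem]
      refine Fintype.sum_equiv (finCongr (by simp [l])) _ _ fun i => ?_
      simp [l]
    · simp [rT]
  have h2 : rT (ev 0) M U = z' := by
    rw [hU, map_add, rT_rT, hev, map_sum]
    simp [ev, rT]
  have e1 : T n z = rT (ev fun i => ((l.get i).1 : MvPolynomial (Fin n) A)) N (T _ U) := by
    conv_lhs => rw [← h1]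
    exact (congrFun (hT _ _ (ev _)) U).symm
  have e2 : T n z' = rT (ev 0) N (T _ U) := by
    conv_lhs => rw [← h2]
    exact (congrFun (hT _ _ (ev _)) U).symm
  rw [e1, e2, rT_rT, rT_rT]
  congr 2
  refine algHom_ext fun i => ?_
  cases i using Fin.addCases with
  | left i => simp [ev]
  | right i =>
    simp only [ev, AlgHom.comp_apply, aeval_X, Fin.append_right, Pi.zero_apply, map_zero]
    exact LinearMap.mem_ker.mp (l.get i).1.2

include hT in
theorem wellDefined {n m : ℕ} {S : Type u} [CommSemiring S] [Algebra A S]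
    (φ : MvPolynomial (Fin n) A →ₐ[A] S) (ψ : MvPolynomial (Fin m) A →ₐ[A] S)
    (z : MvPolynomial (Fin n) A ⊗[A] M) (w : MvPolynomial (Fin m) A ⊗[A] M)
    (h : rT φ M z = rT ψ M w) : rT φ N (T n z) = rT ψ N (T m w) := by
  let χ : MvPolynomial (Fin (n + m)) A →ₐ[A] S :=
    aeval (Fin.append (fun i => φ (X i)) fun i => ψ (X i))
  let i1 : MvPolynomial (Fin n) A →ₐ[A] MvPolynomial (Fin (n + m)) A := rename (Fin.castAdd m)
  let i2 : MvPolynomial (Fin m) A →ₐ[A] MvPolynomial (Fin (n + m)) A := rename (Fin.natAdd n)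
  have c1 : χ.comp i1 = φ := algHom_ext fun i => by simp [χ, i1]
  have c2 : χ.comp i2 = ψ := algHom_ext fun i => by simp [χ, i2]
  have hr : χ.range.FG := by
    rw [← Algebra.map_top]
    exact Algebra.FiniteType.out.map _
  set u := rT χ.rangeRestrict M (rT i1 M z)
  set u' := rT χ.rangeRestrict M (rT i2 M w)
  have huu' : χ.range.val.toLinearMap.rTensor M u = χ.range.val.toLinearMap.rTensor M u' := by
    change rT χ.range.val M u = rT χ.range.val M u'
    simp only [u, u', rT_rT, χ.val_comp_rangeRestrict, ← AlgHom.comp_assoc, c1, c2, h]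
  obtain ⟨B, hAB, hA'B, ⟨t, ht⟩, heq⟩ := TensorProduct.Algebra.eq_of_fg_of_subtype_eq' (R := A) hr hr huu'
  let π : MvPolynomial (Fin t.card) A →ₐ[A] S := aeval fun i => (t.equivFin.symm i : S)
  have hπ : π.range = B := by
    rw [← ht, ← Algebra.adjoin_range_eq_range_aeval]
    congr 1
    rw [← Function.comp_def, Set.range_comp]
    simp
  have hle : ∀ i, χ (X i) ∈ π.range := fun i => hπ ▸ hAB ⟨_, rfl⟩
  choose g hg using hle
  let θ : MvPolynomial (Fin (n + m)) A →ₐ[A] MvPolynomial (Fin t.card) A := aeval g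
  have cθ : π.comp θ = χ := algHom_ext fun i => by
    simp only [θ, AlgHom.comp_apply, aeval_X]; exact hg i
  have hb : (π.rangeRestrict).comp θ = (Subalgebra.inclusion (hπ ▸ hAB : χ.range ≤ π.range)).comp χ.rangeRestrict :=
    AlgHom.ext fun p => Subtype.ext (by
      simp only [AlgHom.comp_apply]
      exact DFunLike.congr_fun cθ p)
  have key : rT π.rangeRestrict M (rT θ M (rT i1 M z)) = rT π.rangeRestrict M (rT θ M (rT i2 M w)) := by
    rw [rT_rT θ, rT_rT θ, hb, ← rT_rT, ← rT_rT]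
    subst hπ
    exact heq
  have e := congrArg (rT π.range.val N) (wellDefined_aux T hT π.rangeRestrict π.rangeRestrict_surjective _ _ key)
  rw [rT_rT π.rangeRestrict, rT_rT π.rangeRestrict, π.val_comp_rangeRestrict] at e
  have t1 : T _ (rT θ M (rT i1 M z)) = rT θ N (rT i1 N (T n z)) := by
    rw [show rT θ M (rT i1 M z) = rT (θ.comp i1) M z from rT_rT _ _ _, rT_rT]
    exact (congrFun (hT _ _ (θ.comp i1)) z).symm
  have t2 : T _ (rT θ M (rT i2 M w)) = rT θ N (rT i2 N (T m w)) := by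
    rw [show rT θ M (rT i2 M w) = rT (θ.comp i2) M w from rT_rT _ _ _, rT_rT]
    exact (congrFun (hT _ _ (θ.comp i2)) w).symm
  rw [t1, t2, rT_rT θ, rT_rT θ, cθ, rT_rT, rT_rT, c1, c2] at e
  exact e

theorem exists_lift {S : Type u} [CommSemiring S] [Algebra A S] (x : S ⊗[A] M) :
    ∃ p : Σ n, (MvPolynomial (Fin n) A →ₐ[A] S) × (MvPolynomial (Fin n) A ⊗[A] M), rT p.2.1 M p.2.2 = x := by
  obtain ⟨n, s, b, rfl⟩ := exists_eq_sum x
  exact ⟨⟨n, aeval s, ∑ j, X j ⊗ₜ[A] b j⟩, by simp⟩

/-- The law determined by a compatible family on finite polynomial rings. -/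
noncomputable def ofPoly : M →ₚₗ[A] N where
  toFun' S _ _ x := rT (exists_lift x).choose.2.1 N (T _ (exists_lift x).choose.2.2)
  isCompat' {S _ _ S' _ _} φ := by
    funext x
    simp only [Function.comp_apply]
    change rT φ N _ = _
    rw [rT_rT]
    refine wellDefined T hT _ _ _ _ ?_
    rw [(exists_lift (φ.toLinearMap.rTensor M x)).choose_spec, ← rT_rT, (exists_lift x).choose_spec]
    rfl

theorem ofPoly_eval {S : Type u} [CommSemiring S] [Algebra A S] {n : ℕ}
    (φ : MvPolynomial (Fin n) A →ₐ[A] S) (z : MvPolynomial (Fin n) A ⊗[A] M) :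
    (ofPoly T hT).toFun' S (rT φ M z) = rT φ N (T n z) :=
  wellDefined T hT _ _ _ _ (exists_lift (rT φ M z)).choose_spec

theorem ofPoly_poly (n : ℕ) : (ofPoly T hT).toFun' (MvPolynomial (Fin n) A) = T n := by
  funext z
  have := ofPoly_eval T hT (AlgHom.id A (MvPolynomial (Fin n) A)) z
  simpa [rT] using this

end OfPoly

end Groth.Agent.PolLaw95
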