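import Groth.Prelude.Def_PolLaw
import Groth.Agent.PolLaw95.Poly

/-!
Multiplicative laws: reduction to polynomial rings, the subalgebra of coefficients, generation of divided powers.
-/

set_option linter.unusedSectionVars false

universe u v w

open scoped TensorProduct

open MvPolynomial

namespace Groth.Agent.PolLaw95

section Gen

variable {A : Type u} [CommRing A] {M : Type v} [AddCommGroup M] [Module A M]
  {N : Type w} [AddCommGroup N] [Module A N]

/-- The submodule generated by the coefficients of a law. -/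
def coefSpan (F : M →ₚₗ[A] N) : Submodule A N :=
  Submodule.span A {c | ∃ (n : ℕ) (b : Fin n → M) (α : Fin n →₀ ℕ), coef F b α = c}

theorem coef_mem_coefSpan (F : M →ₚₗ[A] N) {n : ℕ} (b : Fin n → M) (α : Fin n →₀ ℕ) :
    coef F b α ∈ coefSpan F :=
  Submodule.subset_span ⟨n, b, α, rfl⟩

theorem coefL_toFun'_mem (F : M →ₚₗ[A] N) {σ : Type} (hσ : MvPolynomial σ A ⊗[A] M) (α : σ →₀ ℕ) :
    coefL (F.toFun' (MvPolynomial σ A) hσ) α ∈ coefSpan F := by
  obtain ⟨n, s, b, rfl⟩ := exists_eq_sum hσ
  rw [toFun'_sum, map_sum, Finsupp.finsetSum_apply]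
  refine sum_mem fun β _ => ?_
  rw [coefL_tmul]
  exact Submodule.smul_mem _ _ (coef_mem_coefSpan F b β)

/-- Linear maps agreeing after composition with a law agree on its coefficients. -/
theorem eq_on_coefSpan {P : Type*} [AddCommGroup P] [Module A P] (F : M →ₚₗ[A] N) {g h : N →ₗ[A] P}
    (e : ∀ (n : ℕ) (z : MvPolynomial (Fin n) A ⊗[A] M),
      g.lTensor _ (F.toFun' _ z) = h.lTensor _ (F.toFun' _ z)) :
    ∀ c ∈ coefSpan F, g c = h c := by
  intro c hc
  refine LinearMap.eqOn_span ?_ hc
  rintro _ ⟨n, b, α, rfl⟩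
  have key : ∀ (f : N →ₗ[A] P) (z : MvPolynomial (Fin n) A ⊗[A] N),
      coefL (f.lTensor _ z) α = f (coefL z α) := fun f z => by
    induction z using TensorProduct.induction_on with
    | zero => simp
    | tmul p m => simp
    | add x y hx hy => simp [map_add, hx, hy]
  rw [coef, ← key, ← key, e]

theorem exists_restrict (F : M →ₚₗ[A] N) (P : Submodule A N) (hP : coefSpan F ≤ P) :
    ∃ G : M →ₚₗ[A] P, ∀ (S : Type u) [CommSemiring S] [Algebra A S] (x : S ⊗[A] M),
      P.subtype.lTensor S (G.toFun' S x) = F.toFun' S x := by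
  classical
  let T : ∀ n : ℕ, MvPolynomial (Fin n) A ⊗[A] M → MvPolynomial (Fin n) A ⊗[A] P := fun n z =>
    ∑ α ∈ (coefL (F.toFun' _ z)).support,
      monomial α (1 : A) ⊗ₜ[A] (⟨coefL (F.toFun' _ z) α, hP (coefL_toFun'_mem F z α)⟩ : P)
  have hsub : ∀ n z, P.subtype.lTensor _ (T n z) = F.toFun' _ z := fun n z => by
    conv_rhs => rw [eq_sum_coef (F.toFun' (MvPolynomial (Fin n) A) z)]
    simp only [T, map_sum, LinearMap.lTensor_tmul, Submodule.subtype_apply]
  have hT : ∀ (n m : ℕ) (φ : MvPolynomial (Fin n) A →ₐ[A] MvPolynomial (Fin m) A),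
      φ.toLinearMap.rTensor P ∘ T n = T m ∘ φ.toLinearMap.rTensor M := fun n m φ => by
    funext z
    apply Module.Flat.lTensor_preserves_injective_linearMap (M := MvPolynomial (Fin m) A) P.subtype
      P.subtype_injective
    simp only [Function.comp_apply, hsub]
    rw [← LinearMap.comp_apply, LinearMap.lTensor_comp_rTensor, ← LinearMap.rTensor_comp_lTensor,
      LinearMap.comp_apply, hsub]
    exact congrFun (F.isCompat' φ) z
  refine ⟨ofPoly T hT, fun S _ _ x => ?_⟩
  obtain ⟨n, s, b, rfl⟩ := exists_eq_sum x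
  rw [show (∑ j, s j ⊗ₜ[A] b j) = rT (aeval s) M (uni A b) from (rT_aeval_uni b s).symm, ofPoly_eval,
    ← compat, ← hsub, rT, rT, ← LinearMap.comp_apply, LinearMap.lTensor_comp_rTensor,
    ← LinearMap.rTensor_comp_lTensor, LinearMap.comp_apply]

end Gen

section Mult

variable {A : Type u} [CommRing A] {B : Type v} [CommRing B] [Algebra A B]
  {C : Type w} [CommRing C] [Algebra A C]

/-- Base change along an algebra map as an algebra map. -/
noncomputable def rTA {S : Type u} [CommSemiring S] [Algebra A S] {S' : Type u} [CommSemiring S']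
    [Algebra A S'] (φ : S →ₐ[A] S') (B : Type v) [CommRing B] [Algebra A B] :
    S ⊗[A] B →ₐ[A] S' ⊗[A] B :=
  Algebra.TensorProduct.map φ (AlgHom.id A B)

theorem rT_eq_rTA {S : Type u} [CommSemiring S] [Algebra A S] {S' : Type u} [CommSemiring S']
    [Algebra A S'] (φ : S →ₐ[A] S') (x : S ⊗[A] B) : rT φ B x = rTA φ B x := by
  induction x using TensorProduct.induction_on with
  | zero => simp
  | tmul s b => rfl
  | add x y hx hy => simp [hx, hy]

theorem exists_common_poly {S : Type u} [CommSemiring S] [Algebra A S] (x y : S ⊗[A] B) :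
    ∃ (n : ℕ) (φ : MvPolynomial (Fin n) A →ₐ[A] S) (u v : MvPolynomial (Fin n) A ⊗[A] B),
      rT φ B u = x ∧ rT φ B v = y := by
  obtain ⟨n, s, b, rfl⟩ := exists_eq_sum x
  obtain ⟨m, t, c, rfl⟩ := exists_eq_sum y
  exact ⟨n + m, aeval (Fin.append s t), ∑ i, X (Fin.castAdd m i) ⊗ₜ b i, ∑ i, X (Fin.natAdd n i) ⊗ₜ c i,
    by simp, by simp⟩

theorem mult_of_poly (F : B →ₚₗ[A] C)
    (h1 : ∀ n : ℕ, F.toFun' (MvPolynomial (Fin n) A) 1 = 1)
    (hmul : ∀ (n : ℕ) (x y : MvPolynomial (Fin n) A ⊗[A] B), F.toFun' (MvPolynomial (Fin n) A) (x * y) =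
      F.toFun' (MvPolynomial (Fin n) A) x * F.toFun' (MvPolynomial (Fin n) A) y)
    (S : Type u) [CommSemiring S] [Algebra A S] :
    F.toFun' S 1 = 1 ∧ ∀ x y : S ⊗[A] B, F.toFun' S (x * y) = F.toFun' S x * F.toFun' S y := by
  refine ⟨?_, fun x y => ?_⟩
  · have h := compat F (aeval (R := A) (Fin.elim0 : Fin 0 → S)) 1
    rw [h1, rT_eq_rTA, map_one, rT_eq_rTA, map_one] at h
    exact h.symm
  · obtain ⟨n, φ, u, v, rfl, rfl⟩ := exists_common_poly x y
    rw [rT_eq_rTA, rT_eq_rTA, ← map_mul, ← rT_eq_rTA, ← rT_eq_rTA, ← rT_eq_rTA, ← compat, hmul,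
      ← compat, ← compat, rT_eq_rTA, rT_eq_rTA, rT_eq_rTA, map_mul]

end Mult

section MulLaw

variable {A : Type u} [CommRing A] {B C : Type u} [CommRing B] [Algebra A B] [CommRing C] [Algebra A C]
  {d : ℕ} (F : PolLaw.MulLaw A B C d)

theorem one_mem_coefSpan : (1 : C) ∈ coefSpan F.law := by
  have h := coefL_toFun'_mem F.law (σ := Fin 0) 1 0
  rw [(F.mult _).1, Algebra.TensorProduct.one_def, coefL_tmul] at h
  simpa using h

theorem mul_mem_coefSpan {x y : C} (hx : x ∈ coefSpan F.law) (hy : y ∈ coefSpan F.law) :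
    x * y ∈ coefSpan F.law := by
  classical
  induction hx using Submodule.span_induction with
  | mem x hx =>
    induction hy using Submodule.span_induction with
    | mem y hy =>
      obtain ⟨n, b, α, rfl⟩ := hx
      obtain ⟨m, c, β, rfl⟩ := hy
      let i1 : MvPolynomial (Fin n) A →ₐ[A] MvPolynomial (Fin (n + m)) A := rename (Fin.castAdd m)
      let i2 : MvPolynomial (Fin m) A →ₐ[A] MvPolynomial (Fin (n + m)) A := rename (Fin.natAdd n)
      set p := rT i1 B (uni A b)
      set q := rT i2 B (uni A c)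
      have key := coefL_toFun'_mem F.law (p * q)
        (α.mapDomain (Fin.castAdd m) + β.mapDomain (Fin.natAdd n))
      rw [(F.mult _).2, ← compat, ← compat,
        eq_sum_coef (F.law.toFun' _ (uni A b)), eq_sum_coef (F.law.toFun' _ (uni A c))] at key
      simp only [map_sum, rT_tmul, i1, i2, rename_monomial, Finset.sum_mul, Finset.mul_sum,
        Algebra.TensorProduct.tmul_mul_tmul, monomial_mul, mul_one, Finsupp.finsetSum_apply, coefL_tmul,
        coeff_monomial] at key
      have hinj : ∀ (a : Fin n →₀ ℕ) (a' : Fin m →₀ ℕ),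
          a.mapDomain (Fin.castAdd m) + a'.mapDomain (Fin.natAdd n) =
            α.mapDomain (Fin.castAdd m) + β.mapDomain (Fin.natAdd n) → a = α ∧ a' = β := by
        intro a a' h
        have hne : ∀ (i : Fin n) (j : Fin m), Fin.castAdd m i ≠ Fin.natAdd n j := fun i j e => by
          have := congrArg Fin.val e; simp at this; omega
        refine ⟨Finsupp.ext fun i => ?_, Finsupp.ext fun j => ?_⟩
        · have := DFunLike.congr_fun h (Fin.castAdd m i)
          simpa [Finsupp.mapDomain_apply (Fin.castAdd_injective n m),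
            Finsupp.mapDomain_of_notMem_range _ _ (fun ⟨j, e⟩ => hne i j e.symm)] using this
        · have := DFunLike.congr_fun h (Fin.natAdd n j)
          simpa [Finsupp.mapDomain_apply (Fin.natAdd_injective m n),
            Finsupp.mapDomain_of_notMem_range _ _ (fun ⟨i, e⟩ => hne i j e)] using this
      rw [Finset.sum_eq_single β, Finset.sum_eq_single α, if_pos rfl, one_smul] at key
      · exact key
      · intro a _ ha
        rw [if_neg fun e => ha (hinj a β e).1, zero_smul]
      · intro ha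
        rw [Finsupp.notMem_support_iff.mp ha]; simp
      · intro a' _ ha'
        exact Finset.sum_eq_zero fun a _ => by rw [if_neg fun e => ha' (hinj a a' e).2, zero_smul]
      · intro ha'
        exact Finset.sum_eq_zero fun a _ => by rw [Finsupp.notMem_support_iff.mp ha']; simp
    | zero => simp
    | add a b _ _ ha hb => rw [mul_add]; exact add_mem ha hb
    | smul r a _ ha => rw [mul_smul_comm]; exact Submodule.smul_mem _ r ha
  | zero => simp
  | add a b _ _ ha hb => rw [add_mul]; exact add_mem ha hb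
  | smul r a _ ha => rw [smul_mul_assoc]; exact Submodule.smul_mem _ r ha

/-- The subalgebra of coefficients. -/
def coefAlg : Subalgebra A C :=
  (coefSpan F.law).toSubalgebra (one_mem_coefSpan F) fun _ _ => mul_mem_coefSpan F

theorem lTensor_val_injective_poly (D : Subalgebra A C) (n : ℕ) :
    Function.Injective (D.val.toLinearMap.lTensor (MvPolynomial (Fin n) A)) :=
  Module.Flat.lTensor_preserves_injective_linearMap _ Subtype.val_injective

theorem exists_restrict_mulLaw (D : Subalgebra A C) (hD : coefSpan F.law ≤ D.toSubmodule) :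
    ∃ G : PolLaw.MulLaw A B D d, PolLaw.postcomp D.val.toLinearMap G.law = F.law := by
  obtain ⟨G₀, hG⟩ := exists_restrict F.law D.toSubmodule hD
  let G : B →ₚₗ[A] D := G₀
  have hG' : ∀ (S : Type u) [CommSemiring S] [Algebra A S] (x : S ⊗[A] B),
      D.val.toLinearMap.lTensor S (G.toFun' S x) = F.law.toFun' S x := hG
  refine ⟨⟨G, fun S _ _ s x => ?_, fun S _ _ => mult_of_poly G (fun n => ?_) (fun n x y => ?_) S⟩,
    law_ext fun n z => hG' _ z⟩
  · obtain ⟨n, t, b, rfl⟩ := exists_eq_sum x
    let ψ : MvPolynomial (Fin (n + 1)) A →ₐ[A] S := aeval (Fin.snoc t s)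
    let z : MvPolynomial (Fin (n + 1)) A ⊗[A] B := ∑ i, X (Fin.castSucc i) ⊗ₜ b i
    have hz : rT ψ B z = ∑ i, t i ⊗ₜ[A] b i := by simp [ψ, z]
    have e : G.toFun' _ ((X (Fin.last n) : MvPolynomial (Fin (n + 1)) A) • z) =
        (X (Fin.last n) : MvPolynomial (Fin (n + 1)) A) ^ d • G.toFun' _ z := by
      apply lTensor_val_injective_poly D
      rw [hG', F.homog, ← hG', PolLaw.lTensor_algHom_apply, PolLaw.lTensor_algHom_apply, map_smul]
    have rs : ∀ {P : Type u} [AddCommGroup P] [Module A P] (c : MvPolynomial (Fin (n + 1)) A)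
        (u : MvPolynomial (Fin (n + 1)) A ⊗[A] P), rT ψ P (c • u) = ψ c • rT ψ P u := by
      intro P _ _ c u
      induction u using TensorProduct.induction_on with
      | zero => simp
      | tmul q m => simp [TensorProduct.smul_tmul']
      | add a b ha hb => simp [smul_add, ha, hb]
    have e' := congrArg (rT ψ D) e
    rw [compat, rs, rs, compat, hz, map_pow, show ψ (X (Fin.last n)) = s by simp [ψ]] at e'
    exact e'
  · apply lTensor_val_injective_poly D
    rw [hG', (F.mult _).1, PolLaw.lTensor_algHom_apply, map_one]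
  · apply lTensor_val_injective_poly D
    rw [hG', (F.mult _).2, PolLaw.lTensor_algHom_apply, map_mul, ← PolLaw.lTensor_algHom_apply,
      ← PolLaw.lTensor_algHom_apply, hG', hG']

theorem postcomp_postcomp {D E : Type u} [CommRing D] [Algebra A D] [CommRing E] [Algebra A E]
    (g : D →ₐ[A] E) (f : C →ₐ[A] D) :
    PolLaw.postcomp (g.comp f).toLinearMap F.law =
      PolLaw.postcomp g.toLinearMap (PolLaw.postcomp f.toLinearMap F.law) := by
  refine law_ext fun n z => ?_
  change (g.comp f).toLinearMap.lTensor _ (F.law.toFun' _ z) =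
    g.toLinearMap.lTensor _ (f.toLinearMap.lTensor _ (F.law.toFun' _ z))
  rw [AlgHom.comp_toLinearMap, LinearMap.lTensor_comp, LinearMap.comp_apply]

/-- The coefficients of a universal law generate. -/
theorem coefSpan_eq_top (hF : PolLaw.IsGammaD F) : coefSpan F.law = ⊤ := by
  obtain ⟨G, hG⟩ := exists_restrict_mulLaw F (coefAlg F) le_rfl
  obtain ⟨f, hf, -⟩ := hF (coefAlg F) G
  have h : (coefAlg F).val.comp f = AlgHom.id A C := by
    refine (hF C F).unique ?_ ?_
    · rw [postcomp_postcomp, hf, hG]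
    · refine law_ext fun n z => ?_
      exact DFunLike.congr_fun (LinearMap.lTensor_id (MvPolynomial (Fin n) A) C) _
  refine eq_top_iff.mpr fun c _ => ?_
  rw [show c = (coefAlg F).val (f c) from (DFunLike.congr_fun h c).symm]
  exact (f c).2

end MulLaw

end Groth.Agent.PolLaw95
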