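import Groth.Agent.PolLaw95.Free
import Mathlib.LinearAlgebra.Basis.VectorSpace
import Mathlib.RingTheory.LocalRing.ResidueField.Ideal

/-!
Base change of multiplicative laws and reducedness of tensor powers.
-/

set_option linter.unusedSectionVars false

universe u

open scoped TensorProduct

open MvPolynomial

namespace Groth.Agent.PolLaw95

variable {A B C : Type u} [CommRing A] [CommRing B] [Algebra A B] [CommRing C] [Algebra A C]
  {K : Type u} [CommRing K] [Algebra A K]

/-- Cancelling the base change. -/
noncomputable def cbc (S : Type u) [CommSemiring S] [Algebra A S] [Algebra K S] [IsScalarTower A K S]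
    (B : Type u) [CommRing B] [Algebra A B] : S ⊗[K] (K ⊗[A] B) ≃ₐ[S] S ⊗[A] B :=
  Algebra.TensorProduct.cancelBaseChange A K S S B

theorem cbc_rT {S S' : Type u} [CommSemiring S] [Algebra A S] [Algebra K S] [IsScalarTower A K S]
    [CommSemiring S'] [Algebra A S'] [Algebra K S'] [IsScalarTower A K S'] (φ : S →ₐ[K] S')
    (x : S ⊗[K] (K ⊗[A] B)) : cbc S' B (rT φ _ x) = rT (φ.restrictScalars A) B (cbc S B x) := by
  induction x using TensorProduct.induction_on with
  | zero => simp
  | tmul s z =>
    induction z using TensorProduct.induction_on with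
    | zero => simp
    | tmul k b => simp [cbc, map_smul]
    | add a b ha hb => simp only [TensorProduct.tmul_add, map_add, ha, hb]
  | add a b ha hb => simp only [map_add, ha, hb]

theorem cbc_rT_symm {S S' : Type u} [CommSemiring S] [Algebra A S] [Algebra K S] [IsScalarTower A K S]
    [CommSemiring S'] [Algebra A S'] [Algebra K S'] [IsScalarTower A K S'] (φ : S →ₐ[K] S')
    (x : S ⊗[A] B) : rT φ _ ((cbc (K := K) S B).symm x) = ((cbc (K := K) S' B).symm (rT (φ.restrictScalars A) B x)) := by
  apply (cbc (A := A) (K := K) S' B).injective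
  rw [AlgEquiv.apply_symm_apply, cbc_rT, AlgEquiv.apply_symm_apply]

/-- The value of the base-changed law. -/
noncomputable def bcFun {d : ℕ} (F : PolLaw.MulLaw A B C d) (S : Type u) [CommSemiring S] [Algebra K S]
    (x : S ⊗[K] (K ⊗[A] B)) : S ⊗[K] (K ⊗[A] C) :=
  letI : Algebra A S := Algebra.compHom S (algebraMap A K)
  haveI : IsScalarTower A K S := IsScalarTower.of_algebraMap_eq fun _ => rfl
  (cbc (K := K) S C).symm (F.law.toFun' S (cbc (K := K) S B x))

/-- The base change of a multiplicative law. -/
noncomputable def bcLaw {d : ℕ} (F : PolLaw.MulLaw A B C d) (K : Type u) [CommRing K] [Algebra A K] :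
    PolLaw.MulLaw K (K ⊗[A] B) (K ⊗[A] C) d where
  law :=
    { toFun' := fun S _ _ => bcFun F S
      isCompat' := fun {S} _ _ {S'} _ _ φ => by
        letI : Algebra A S := Algebra.compHom S (algebraMap A K)
        haveI : IsScalarTower A K S := IsScalarTower.of_algebraMap_eq fun _ => rfl
        letI : Algebra A S' := Algebra.compHom S' (algebraMap A K)
        haveI : IsScalarTower A K S' := IsScalarTower.of_algebraMap_eq fun _ => rfl
        funext x
        change rT φ _ ((cbc (K := K) S C).symm (F.law.toFun' S (cbc (K := K) S B x))) =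
          (cbc (K := K) S' C).symm (F.law.toFun' S' (cbc (K := K) S' B (rT φ _ x)))
        rw [cbc_rT_symm, compat, cbc_rT] }
  homog S _ _ s x := by
    letI : Algebra A S := Algebra.compHom S (algebraMap A K)
    haveI : IsScalarTower A K S := IsScalarTower.of_algebraMap_eq fun _ => rfl
    change (cbc (K := K) S C).symm (F.law.toFun' S (cbc (K := K) S B (s • x))) = s ^ d • (cbc (K := K) S C).symm (F.law.toFun' S (cbc (K := K) S B x))
    rw [map_smul, F.homog, map_smul]
  mult S _ _ := by
    letI : Algebra A S := Algebra.compHom S (algebraMap A K)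
    haveI : IsScalarTower A K S := IsScalarTower.of_algebraMap_eq fun _ => rfl
    refine ⟨?_, fun x y => ?_⟩
    · change (cbc (K := K) S C).symm (F.law.toFun' S (cbc (K := K) S B 1)) = 1
      rw [map_one, (F.mult S).1, map_one]
    · change (cbc (K := K) S C).symm (F.law.toFun' S (cbc (K := K) S B (x * y))) =
        (cbc (K := K) S C).symm (F.law.toFun' S (cbc (K := K) S B x)) * (cbc (K := K) S C).symm (F.law.toFun' S (cbc (K := K) S B y))
      rw [map_mul, (F.mult S).2, map_mul]

theorem bcLaw_apply {d : ℕ} (F : PolLaw.MulLaw A B C d) (S : Type u) [CommSemiring S] [Algebra A S] [Algebra K S]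
    [IsScalarTower A K S] (x : S ⊗[K] (K ⊗[A] B)) :
    (bcLaw F K).law.toFun' S x = (cbc (K := K) S C).symm (F.law.toFun' S (cbc (K := K) S B x)) := by
  have h : ‹Algebra A S› = Algebra.compHom S (algebraMap A K) :=
    Algebra.algebra_ext _ _ fun r => IsScalarTower.algebraMap_apply A K S r
  subst h
  rfl

theorem coef_bcLaw {d : ℕ} (F : PolLaw.MulLaw A B C d) {n : ℕ} (b : Fin n → B) (β : Fin n →₀ ℕ) :
    coef (bcLaw F K).law (fun j => (1 : K) ⊗ₜ[A] b j) β = (1 : K) ⊗ₜ[A] coef F.law b β := by
  rw [coef, bcLaw_apply]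
  have h : cbc (K := K) (MvPolynomial (Fin n) K) B (uni K fun j => (1 : K) ⊗ₜ[A] b j) =
      rT (aeval X) B (uni A b) := by
    rw [rT_aeval_uni, uni, map_sum]
    simp [cbc]
  rw [h, ← compat, coef, eq_sum_coef (F.law.toFun' (MvPolynomial (Fin n) A) (uni A b))]
  simp only [map_sum, rT_tmul, Finsupp.finsetSum_apply, coefL_tmul]
  have hm : ∀ (α : Fin n →₀ ℕ) (c : C),
      coefL ((cbc (K := K) (MvPolynomial (Fin n) K) C).symm ((aeval X (monomial α (1 : A)) : MvPolynomial (Fin n) K) ⊗ₜ[A] c)) β =
        (if α = β then (1 : K) else 0) ⊗ₜ[A] c := by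
    intro α c
    classical
    have e : (aeval X (monomial α (1 : A)) : MvPolynomial (Fin n) K) = monomial α (1 : K) := by
      rw [aeval_monomial, map_one, one_mul, monomial_eq]
      simp
    rw [e, cbc, Algebra.TensorProduct.cancelBaseChange_symm_tmul, coefL_tmul, coeff_monomial,
      TensorProduct.smul_tmul', smul_eq_mul, mul_one]
  simp only [hm]
  classical
  rw [TensorProduct.tmul_sum]
  refine Finset.sum_congr rfl fun α _ => ?_
  rw [coeff_monomial]
  split_ifs <;> simp

section Reduced

variable {k : Type u} [Field k] {R : Type u} [CommRing R] [Algebra k R]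

theorem isReduced_tensor (S : Type u) [CommRing S] [Algebra k S] [IsReduced R]
    (hS : ∀ (L : Type u) [Field L] [Algebra k L], IsReduced (L ⊗[k] S)) : IsReduced (R ⊗[k] S) := by
  refine ⟨fun x hx => ?_⟩
  let e := Module.Free.chooseBasis k S
  let E := e.baseChange R
  refine E.ext_elem fun j => ?_
  rw [map_zero, Finsupp.zero_apply]
  refine IsReduced.eq_zero _ (nilpotent_iff_mem_prime.mpr fun P hP => ?_)
  have : P.IsPrime := hP
  have := hS P.ResidueField
  let Φ : R ⊗[k] S →ₐ[k] P.ResidueField ⊗[k] S :=
    Algebra.TensorProduct.map (IsScalarTower.toAlgHom k R P.ResidueField) (AlgHom.id k S)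
  have h0 : Φ x = 0 := IsReduced.eq_zero _ (hx.map Φ)
  have key : ∀ y, (e.baseChange P.ResidueField).repr (Φ y) j = algebraMap R P.ResidueField (E.repr y j) := by
    intro y
    induction y using TensorProduct.induction_on with
    | zero => simp
    | tmul r s => simp [Φ, E, Algebra.smul_def, IsScalarTower.algebraMap_apply k R P.ResidueField]
    | add a b ha hb => simp only [map_add, Finsupp.add_apply, ha, hb]
  have h1 := key x
  rw [h0, map_zero, Finsupp.zero_apply] at h1
  exact Ideal.algebraMap_residueField_eq_zero.mp h1.symm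

theorem isReduced_tensorPower (S : Type u) [CommRing S] [Algebra k S]
    (hS : ∀ (L : Type u) [Field L] [Algebra k L], IsReduced (L ⊗[k] S)) (d : ℕ) :
    IsReduced (⨂[k] _ : Fin d, S) := by
  induction d with
  | zero =>
    refine ⟨fun x hx => ?_⟩
    have hx1 : ∀ x : ⨂[k] _ : Fin 0, S, ∃ c : k, x = c • 1 := by
      intro x
      induction x using PiTensorProduct.induction_on with
      | smul_tprod r v =>
        exact ⟨r, by rw [PiTensorProduct.one_def, show v = 1 from funext fun i => i.elim0]⟩
      | add a b ha hb =>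
        obtain ⟨c, rfl⟩ := ha
        obtain ⟨c', rfl⟩ := hb
        exact ⟨c + c', (add_smul c c' 1).symm⟩
    specialize hx1 x
    obtain ⟨c, rfl⟩ := hx1
    rcases eq_or_ne c 0 with rfl | hc
    · exact zero_smul _ _
    · have : Subsingleton (⨂[k] _ : Fin 0, S) :=
        not_nontrivial_iff_subsingleton.mp fun _ => hx.elim fun n hn => not_isUnit_zero (hn ▸ ((isUnit_one).smul (Units.mk0 c hc)).pow n)
      exact Subsingleton.elim _ _
  | succ d ih =>
    have := isReduced_tensor (R := ⨂[k] _ : Fin d, S) S hS
    let μ : MultilinearMap k (fun _ : Fin (d + 1) => S) ((⨂[k] _ : Fin d, S) ⊗[k] S) :=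
      MultilinearMap.mk' (fun v => PiTensorProduct.tprod k (Fin.init v) ⊗ₜ[k] v (Fin.last d))
        (fun v i x y => by
          refine Fin.lastCases ?_ (fun j => ?_) i
          · simp [Fin.init_update_last, TensorProduct.tmul_add]
          · simp [Fin.init_update_castSucc, TensorProduct.add_tmul, Function.update_of_ne (Fin.castSucc_lt_last j).ne'])
        (fun v i c x => by
          refine Fin.lastCases ?_ (fun j => ?_) i
          · simp [Fin.init_update_last]
          · simp [Fin.init_update_castSucc, TensorProduct.smul_tmul', Function.update_of_ne (Fin.castSucc_lt_last j).ne'])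
    let Ψ : (⨂[k] _ : Fin (d + 1), S) →ₐ[k] (⨂[k] _ : Fin d, S) ⊗[k] S :=
      PiTensorProduct.liftAlgHom μ (by simp [μ, Algebra.TensorProduct.one_def, PiTensorProduct.one_def, Fin.init_def]; rfl)
        (fun x y => by simp [μ, PiTensorProduct.tprod_mul_tprod, Fin.init_def]; rfl)
    refine isReduced_of_injective Ψ ?_
    let e := Module.Free.chooseBasis k S
    let b1 := Basis.piTensorProduct fun _ : Fin (d + 1) => e
    let b2 := (Basis.piTensorProduct fun _ : Fin d => e).tensorProduct e
    have h : Ψ.toLinearMap = (b1.equiv b2 ((Fin.snocEquiv fun _ => Module.Free.ChooseBasisIndex k S).symm.trans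
        (Equiv.prodComm _ _))).toLinearMap := by
      refine b1.ext fun c => ?_
      rw [LinearEquiv.coe_coe, Module.Basis.equiv_apply]
      simp [b1, b2, Ψ, μ, Basis.piTensorProduct_apply, Fin.snocEquiv, Fin.init_def]
    intro x y hxy
    exact (b1.equiv b2 _).injective ((DFunLike.congr_fun h x).symm.trans (hxy.trans (DFunLike.congr_fun h y)))

end Reduced

end Groth.Agent.PolLaw95
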