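import Groth.Agent.PolLaw95.General
import Mathlib.RingTheory.AdjoinRoot
import Mathlib.RingTheory.PolynomialAlgebra
import Mathlib.RingTheory.IntegralClosure.IsIntegral.Basic
import Mathlib.RingTheory.IntegralClosure.Algebra.Basic

/-!
Cayley–Hamilton for multiplicative laws, integrality of images.
-/

set_option linter.unusedSectionVars false

universe u

open scoped TensorProduct

open Polynomial

namespace Groth.Agent.PolLaw95

variable {A B C : Type u} [CommRing A] [CommRing B] [Algebra A B] [CommRing C] [Algebra A C] {d : ℕ}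

/-- Over a free algebra a law is the image of the symmetric law. -/
theorem exists_algHom_sym {P : Type u} [CommRing P] [Algebra A P] {ι : Type u} (e : Module.Basis ι A P)
    (F : PolLaw.MulLaw A P C d) :
    ∃ φ : SymTen.TS A P d →ₐ[A] C, ∀ (S : Type u) [CommSemiring S] [Algebra A S] (x : S ⊗[A] P),
      φ.toLinearMap.lTensor S ((sym A P d).law.toFun' S x) = F.law.toFun' S x := by
  obtain ⟨φ, hφ, -⟩ := isGammaD_sym e C F
  exact ⟨φ, fun S _ _ x => congrFun (congrArg (fun L : P →ₚₗ[A] C => L.toFun' S) hφ) x⟩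

theorem rTA_lTensor_poly {P : Type u} [CommRing P] [Algebra A P] (π : P →ₐ[A] B) {S S' : Type u}
    [CommRing S] [Algebra A S] [CommRing S'] [Algebra A S'] (ψ : S →ₐ[A] S') (y : S ⊗[A] P) :
    rTA ψ B (π.toLinearMap.lTensor S y) = π.toLinearMap.lTensor S' (rTA ψ P y) := by
  induction y using TensorProduct.induction_on with
  | zero => simp
  | tmul s b => rfl
  | add x y hx hy => simp [hx, hy]

theorem algHom_prod {S S' : Type u} [CommRing S] [Algebra A S] [CommRing S'] [Algebra A S'] {ι : Type} [Fintype ι]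
    (Θ : S →ₐ[A] S') (f : ι → S) : Θ (∏ i, f i) = ∏ i, Θ (f i) :=
  map_prod Θ f _

section CH

variable {P : Type u} [CommRing P] [Algebra A P] (φ : SymTen.TS A P d →ₐ[A] A) (x : P)

/-- The generic characteristic element `Σ cₖ ⊗ xᵏ`. -/
noncomputable def genChar : SymTen.TS A P d ⊗[A] P :=
  Algebra.TensorProduct.comm A P (SymTen.TS A P d)
    (rTA (Polynomial.aeval x) (SymTen.TS A P d)
      ((sym A P d).law.toFun' A[X] ((1 : A[X]) ⊗ₜ[A] x - (Polynomial.X : A[X]) ⊗ₜ[A] (1 : P))))

theorem slot_genChar (i : Fin d) :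
    Algebra.TensorProduct.lift (SymTen.TS A P d).val (PiTensorProduct.singleAlgHom (R := A) (A := fun _ : Fin d => P) i)
      (fun _ _ => Commute.all _ _) (genChar x) = 0 := by
  set T := ⨂[A] _ : Fin d, P
  let s : P →ₐ[A] T := PiTensorProduct.singleAlgHom (R := A) (A := fun _ : Fin d => P) i
  let Ψ : A[X] ⊗[A] T →ₐ[A] T :=
    Algebra.TensorProduct.lift (Polynomial.aeval (s x)) (AlgHom.id A T) fun _ _ => Commute.all _ _
  have key : ∀ z : A[X] ⊗[A] SymTen.TS A P d,
      Algebra.TensorProduct.lift (SymTen.TS A P d).val s (fun _ _ => Commute.all _ _)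
        (Algebra.TensorProduct.comm A P (SymTen.TS A P d) (rTA (Polynomial.aeval x) (SymTen.TS A P d) z)) =
      Ψ ((SymTen.TS A P d).val.toLinearMap.lTensor _ z) := by
    intro z
    induction z using TensorProduct.induction_on with
    | zero => simp
    | add a b ha hb => simp only [map_add, ha, hb]
    | tmul p c =>
      simp [rTA, Ψ, Polynomial.aeval_algHom_apply, mul_comm]
  refine (key _).trans ?_
  rw [val_sym]
  change Ψ (∏ j : Fin d, _) = 0
  rw [map_prod]
  refine Finset.prod_eq_zero (Finset.mem_univ i) ?_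
  change Ψ (s.toLinearMap.lTensor _ ((1 : A[X]) ⊗ₜ[A] x - (Polynomial.X : A[X]) ⊗ₜ[A] (1 : P))) = 0
  simp only [map_sub, LinearMap.lTensor_tmul, AlgHom.toLinearMap_apply, Ψ, Algebra.TensorProduct.lift_tmul,
    map_one, Polynomial.aeval_X, one_mul, mul_one, AlgHom.coe_id, id, sub_self]

variable {R : Type u} [CommRing R] [Algebra A R]

set_option synthInstance.maxHeartbeats 200000 in
set_option maxHeartbeats 1000000 in
theorem sym_add_genChar [Module.Flat A R] (u w : R ⊗[A] P) :
    Algebra.TensorProduct.lift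
      ((AlgHom.id A (R ⊗[A] SymTen.TS A P d)))
      (Algebra.TensorProduct.includeRight : SymTen.TS A P d →ₐ[A] R ⊗[A] SymTen.TS A P d)
      (fun _ _ => Commute.all _ _)
      ((sym A P d).law.toFun' (R ⊗[A] SymTen.TS A P d)
        (rTA (Algebra.TensorProduct.includeLeft : R →ₐ[A] R ⊗[A] SymTen.TS A P d) P u +
          rTA (Algebra.TensorProduct.includeLeft : R →ₐ[A] R ⊗[A] SymTen.TS A P d) P w *
            rTA (Algebra.TensorProduct.includeRight : SymTen.TS A P d →ₐ[A] R ⊗[A] SymTen.TS A P d) P (genChar x))) =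
      (sym A P d).law.toFun' R u := by
  set T := ⨂[A] _ : Fin d, P
  set TS := SymTen.TS A P d
  let Θ : (R ⊗[A] TS) ⊗[A] T →ₐ[A] R ⊗[A] T :=
    Algebra.TensorProduct.lift (Algebra.TensorProduct.map (AlgHom.id A R) TS.val)
      (Algebra.TensorProduct.includeRight : T →ₐ[A] R ⊗[A] T) fun _ _ => Commute.all _ _
  apply Module.Flat.lTensor_preserves_injective_linearMap TS.val.toLinearMap Subtype.val_injective (M := R)
  rw [val_sym]
  have hΘ : ∀ z : (R ⊗[A] TS) ⊗[A] TS,
      TS.val.toLinearMap.lTensor R (Algebra.TensorProduct.lift (AlgHom.id A (R ⊗[A] TS))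
        (Algebra.TensorProduct.includeRight : TS →ₐ[A] R ⊗[A] TS) (fun _ _ => Commute.all _ _) z) =
      Θ (TS.val.toLinearMap.lTensor _ z) := by
    intro z
    induction z using TensorProduct.induction_on with
    | zero => simp
    | add a b ha hb => simp only [map_add, ha, hb]
    | tmul p c =>
      rw [PolLaw.lTensor_algHom_apply]
      induction p using TensorProduct.induction_on with
      | zero => simp
      | tmul r t => simp [Θ]
      | add a b ha hb => simp only [TensorProduct.add_tmul, map_add, ha, hb]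
  rw [hΘ, val_sym]
  change Θ (∏ i : Fin d, _) = ∏ i : Fin d, _
  refine (algHom_prod (A := A) (S := (R ⊗[A] TS) ⊗[A] T) (S' := R ⊗[A] T) (ι := Fin d) Θ _).trans ?_
  refine Finset.prod_congr rfl fun i _ => ?_
  let s : P →ₐ[A] T := PiTensorProduct.singleAlgHom (R := A) (A := fun _ : Fin d => P) i
  change Θ (s.toLinearMap.lTensor _ _) = s.toLinearMap.lTensor _ _
  simp only [PolLaw.lTensor_algHom_apply, map_add, map_mul]
  have h1 : ∀ z : R ⊗[A] P, Θ (Algebra.TensorProduct.map (AlgHom.id (R ⊗[A] TS) (R ⊗[A] TS)) s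
      (rTA (Algebra.TensorProduct.includeLeft : R →ₐ[A] R ⊗[A] TS) P z)) =
      Algebra.TensorProduct.map (AlgHom.id R R) s z := fun z => by
    induction z using TensorProduct.induction_on with
    | zero => simp
    | tmul r p => simp [rTA, Θ]
    | add a b ha hb => simp only [map_add, ha, hb]
  have h2 : ∀ z : TS ⊗[A] P, Θ (Algebra.TensorProduct.map (AlgHom.id (R ⊗[A] TS) (R ⊗[A] TS)) s
      (rTA (Algebra.TensorProduct.includeRight : TS →ₐ[A] R ⊗[A] TS) P z)) =
      (1 : R) ⊗ₜ[A] Algebra.TensorProduct.lift TS.val s (fun _ _ => Commute.all _ _) z := fun z => by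
    induction z using TensorProduct.induction_on with
    | zero => simp
    | tmul c p => simp [rTA, Θ]
    | add a b ha hb => simp only [map_add, TensorProduct.tmul_add, ha, hb]
  rw [h1, h1, h2, slot_genChar, TensorProduct.tmul_zero, mul_zero, add_zero]

end CH

/-- Cayley–Hamilton: `χ_b(b)` is in the kernel. -/
theorem aeval_charPoly_mem_ker (F : PolLaw.MulLaw A B A d) (b : B) :
    Polynomial.aeval b (TensorProduct.rid A A[X]
      (F.law.toFun' A[X] ((1 : A[X]) ⊗ₜ[A] b - (Polynomial.X : A[X]) ⊗ₜ[A] (1 : B)))) ∈ PolLaw.ker F.law := by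
  let P := MvPolynomial B A
  let π : P →ₐ[A] B := MvPolynomial.aeval id
  have hπ : Function.Surjective π := fun b => ⟨MvPolynomial.X b, MvPolynomial.aeval_X _ _⟩
  let x : P := MvPolynomial.X b
  have hx : π x = b := MvPolynomial.aeval_X _ _
  obtain ⟨φ, hφ⟩ := exists_algHom_sym (d := d) (MvPolynomial.basisMonomials B A) (F.precomp π)
  have hF : ∀ (S : Type u) [CommSemiring S] [Algebra A S] (y : S ⊗[A] P),
      φ.toLinearMap.lTensor S ((sym A P d).law.toFun' S y) = F.law.toFun' S (π.toLinearMap.lTensor S y) :=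
    fun S _ _ y => hφ S y
  let TS := SymTen.TS A P d
  let ev : TS ⊗[A] P →ₐ[A] B :=
    Algebra.TensorProduct.lift ((Algebra.ofId A B).comp φ) π fun _ _ => Commute.all _ _
  have hq : Polynomial.aeval b (TensorProduct.rid A A[X]
      (F.law.toFun' A[X] ((1 : A[X]) ⊗ₜ[A] b - (Polynomial.X : A[X]) ⊗ₜ[A] (1 : B)))) = ev (genChar x) := by
    have e1 : (1 : A[X]) ⊗ₜ[A] b - (Polynomial.X : A[X]) ⊗ₜ[A] (1 : B) =
        π.toLinearMap.lTensor _ ((1 : A[X]) ⊗ₜ[A] x - (Polynomial.X : A[X]) ⊗ₜ[A] (1 : P)) := by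
      simp [hx]
    rw [e1, ← hF, genChar]
    generalize (sym A P d).law.toFun' A[X] _ = z
    induction z using TensorProduct.induction_on with
    | zero => simp
    | add a c ha hc => simp only [map_add, ha, hc]
    | tmul p c =>
      simp [ev, rTA, Algebra.smul_def, map_mul, ← hx, Polynomial.aeval_algHom_apply]
  rw [hq, mem_ker_iff_poly]
  intro n u v
  obtain ⟨u', rfl⟩ := LinearMap.lTensor_surjective (g := π.toLinearMap) _ hπ u
  obtain ⟨v', rfl⟩ := LinearMap.lTensor_surjective (g := π.toLinearMap) _ hπ v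
  set R := MvPolynomial (Fin n) A
  have key := congrArg (φ.toLinearMap.lTensor R) (sym_add_genChar (d := d) x u' v')
  rw [hF R u'] at key
  refine Eq.trans ?_ key
  let ψ : R ⊗[A] TS →ₐ[A] R :=
    (Algebra.TensorProduct.rid A A R).toAlgHom.comp (Algebra.TensorProduct.map (AlgHom.id A R) φ)
  have hμ : ∀ z : (R ⊗[A] TS) ⊗[A] TS, φ.toLinearMap.lTensor R (Algebra.TensorProduct.lift (AlgHom.id A (R ⊗[A] TS))
      (Algebra.TensorProduct.includeRight : TS →ₐ[A] R ⊗[A] TS) (fun _ _ => Commute.all _ _) z) =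
      φ.toLinearMap.lTensor R (rTA ψ TS z) := fun z => by
    induction z using TensorProduct.induction_on with
    | zero => simp
    | add a c ha hc => simp only [map_add, ha, hc]
    | tmul p c =>
      induction p using TensorProduct.induction_on with
      | zero => simp
      | add a c' ha hc => simp only [TensorProduct.add_tmul, map_add, ha, hc]
      | tmul r t =>
        simp only [Algebra.TensorProduct.lift_tmul, AlgHom.coe_id, id, Algebra.TensorProduct.includeRight_apply,
          Algebra.TensorProduct.tmul_mul_tmul, mul_one, LinearMap.lTensor_tmul, AlgHom.toLinearMap_apply, map_mul,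
          rTA, Algebra.TensorProduct.map_tmul, ψ, AlgHom.comp_apply, AlgEquiv.coe_toAlgHom,
          Algebra.TensorProduct.rid_tmul]
        rw [← smul_eq_mul, TensorProduct.tmul_smul, TensorProduct.smul_tmul']
  rw [hμ, ← rT_eq_rTA, compat, rT_eq_rTA, hF]
  congr 1
  have i1 : ψ.comp (Algebra.TensorProduct.includeLeft : R →ₐ[A] R ⊗[A] TS) = AlgHom.id A R :=
    AlgHom.ext fun r => by simp [ψ]
  rw [← rTA_lTensor_poly π ψ]
  simp only [PolLaw.lTensor_algHom_apply, map_add, map_mul]
  have h1 : ∀ z : R ⊗[A] P, rTA ψ B (Algebra.TensorProduct.map (AlgHom.id (R ⊗[A] TS) (R ⊗[A] TS)) π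
      (rTA (Algebra.TensorProduct.includeLeft : R →ₐ[A] R ⊗[A] TS) P z)) =
      Algebra.TensorProduct.map (AlgHom.id R R) π z := fun z => by
    induction z using TensorProduct.induction_on with
    | zero => simp
    | tmul r p => simp [rTA, ψ]
    | add a c ha hc => simp only [map_add, ha, hc]
  have h2 : ∀ z : TS ⊗[A] P, rTA ψ B (Algebra.TensorProduct.map (AlgHom.id (R ⊗[A] TS) (R ⊗[A] TS)) π
      (rTA (Algebra.TensorProduct.includeRight : TS →ₐ[A] R ⊗[A] TS) P z)) = (1 : R) ⊗ₜ[A] ev z := fun z => by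
    induction z using TensorProduct.induction_on with
    | zero => simp
    | tmul c p =>
      simp [rTA, ψ, ev, TensorProduct.smul_tmul, ← Algebra.smul_def]
    | add a c ha hc => simp only [map_add, TensorProduct.tmul_add, ha, hc]
  rw [h1, h1, h2]

theorem charPoly_monic (F : PolLaw.MulLaw A B A d) (b : B) :
    ∃ q : A[X], q.Monic ∧ TensorProduct.rid A A[X]
      (F.law.toFun' A[X] ((1 : A[X]) ⊗ₜ[A] b - (Polynomial.X : A[X]) ⊗ₜ[A] (1 : B))) = Polynomial.C ((-1) ^ d) * q := by
  classical
  let bv : Fin 2 → B := ![b, 1]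
  have e1 : (1 : A[X]) ⊗ₜ[A] b - (Polynomial.X : A[X]) ⊗ₜ[A] (1 : B) =
      ∑ j, (![1, -Polynomial.X] : Fin 2 → A[X]) j ⊗ₜ[A] bv j := by
    simp [bv, Fin.sum_univ_two, sub_eq_add_neg, TensorProduct.neg_tmul]
  set α : Fin 2 →₀ ℕ := Finsupp.single 1 d
  have hα : coef F.law bv α = 1 := by
    have h := coef_mapDomain F.law (fun _ : Fin 1 => (1 : Fin 2)) (fun _ _ _ => Subsingleton.elim _ _) bv
      (Finsupp.single 0 d)
    rw [Finsupp.mapDomain_single] at h
    refine h.trans ?_
    have h2 : uni A (bv ∘ fun _ : Fin 1 => (1 : Fin 2)) = (MvPolynomial.X 0 : MvPolynomial (Fin 1) A) • 1 := by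
      simp [uni, bv, Algebra.TensorProduct.one_def, TensorProduct.smul_tmul']
    rw [coef, h2, F.homog, (F.mult _).1, Algebra.TensorProduct.one_def, TensorProduct.smul_tmul', coefL_tmul,
      smul_eq_mul, mul_one, MvPolynomial.X_pow_eq_monomial]
    simp [smul_eq_mul, MvPolynomial.coeff_monomial]
  set supp := (coefL (F.law.toFun' (MvPolynomial (Fin 2) A) (uni A bv))).support
  have hmain : TensorProduct.rid A A[X]
      (F.law.toFun' A[X] ((1 : A[X]) ⊗ₜ[A] b - (Polynomial.X : A[X]) ⊗ₜ[A] (1 : B))) =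
      ∑ β ∈ supp, Polynomial.C (coef F.law bv β) * (-Polynomial.X) ^ β 1 := by
    rw [e1, toFun'_sum, map_sum]
    refine Finset.sum_congr rfl fun β _ => ?_
    rw [TensorProduct.rid_tmul, Algebra.smul_def, Finsupp.prod_fintype _ _ (by simp), Fin.prod_univ_two,
      Polynomial.algebraMap_eq]
    simp
  rw [hmain]
  by_cases hA : Subsingleton A
  · exact ⟨1, Polynomial.monic_one, Subsingleton.elim _ _⟩
  have hmem : α ∈ supp := Finsupp.mem_support_iff.mpr (by
    rw [show coefL (F.law.toFun' _ (uni A bv)) α = 1 from hα]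
    have := not_subsingleton_iff_nontrivial.mp hA
    exact one_ne_zero)
  rw [← Finset.add_sum_erase _ _ hmem, hα, Polynomial.C_1, one_mul, show α 1 = d by simp [α]]
  refine ⟨Polynomial.X ^ d + Polynomial.C ((-1) ^ d) * ∑ β ∈ supp.erase α, Polynomial.C (coef F.law bv β) * (-Polynomial.X) ^ β 1,
    Polynomial.monic_X_pow_add ?_, ?_⟩
  · refine (Polynomial.degree_mul_le _ _).trans_lt ?_
    refine lt_of_le_of_lt (add_le_add Polynomial.degree_C_le le_rfl) ?_
    rw [zero_add, Polynomial.degree_lt_iff_coeff_zero]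
    intro m hm
    rw [Polynomial.finsetSum_coeff]
    refine Finset.sum_eq_zero fun β hβ => ?_
    obtain ⟨hne, hβs⟩ := Finset.mem_erase.mp hβ
    have hd := degree_eq_of_coef_ne_zero F bv β (Finsupp.mem_support_iff.mp hβs)
    rw [Finsupp.sum_fintype _ _ (by simp), Fin.sum_univ_two] at hd
    have : β 1 < d := lt_of_le_of_ne (by omega) fun h => hne (Finsupp.ext fun i => by fin_cases i <;> simp [α] <;> omega)
    rw [neg_pow, Polynomial.coeff_C_mul, ← Polynomial.C_1, ← Polynomial.C_neg, ← Polynomial.C_pow,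
      Polynomial.coeff_C_mul_X_pow, if_neg (by omega), mul_zero]
  · rw [mul_add, ← mul_assoc, ← Polynomial.C_mul, ← mul_pow, neg_one_mul, neg_neg, one_pow, Polynomial.C_1, one_mul,
      neg_pow, Polynomial.C_pow, Polynomial.C_neg, Polynomial.C_1]

theorem isIntegral_image (F : PolLaw.MulLaw A B A d) : Algebra.IsIntegral A (PolLaw.image F.law) := by
  refine ⟨fun z => ?_⟩
  obtain ⟨b, rfl⟩ := Ideal.Quotient.mk_surjective z
  obtain ⟨q, hq, e⟩ := charPoly_monic F b
  refine ⟨q, hq, ?_⟩
  have h := Ideal.Quotient.eq_zero_iff_mem.mpr (aeval_charPoly_mem_ker F b)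
  rw [e, map_mul, Polynomial.aeval_C, map_mul] at h
  rw [← Polynomial.aeval_def, ← Ideal.Quotient.mkₐ_eq_mk A, Polynomial.aeval_algHom_apply, Ideal.Quotient.mkₐ_eq_mk]
  have hu : IsUnit ((Ideal.Quotient.mk (PolLaw.ker F.law)) (algebraMap A B ((-1) ^ d))) := by
    simp only [map_pow, map_neg, map_one]
    exact (isUnit_one.neg).pow d
  exact hu.mul_right_eq_zero.mp h

theorem isIntegral_of_isGammaD (γ : PolLaw.MulLaw A B C d) (hγ : PolLaw.IsGammaD γ) [Algebra.IsIntegral A B] :
    Algebra.IsIntegral A C := by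
  classical
  refine ⟨fun c => ?_⟩
  have hc : c ∈ coefSpan γ.law := (coefSpan_eq_top γ hγ).symm ▸ Submodule.mem_top
  induction hc using Submodule.span_induction with
  | zero => exact isIntegral_zero
  | add a b _ _ ha hb => exact ha.add hb
  | smul r a _ ha => exact ha.smul r
  | mem c hc =>
    obtain ⟨n, b, β, rfl⟩ := hc
    choose p hpm hp using fun i => Algebra.IsIntegral.isIntegral (R := A) (b i)
    let Q : Fin n → Type u := fun i => AdjoinRoot (p i)
    let e : ∀ i, Module.Basis (Fin (AdjoinRoot.powerBasis' (hpm i)).dim) A (Q i) := fun i =>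
      (AdjoinRoot.powerBasis' (hpm i)).basis
    have : Module.Finite A (⨂[A] i, Q i) := Module.Finite.of_basis (Basis.piTensorProduct e)
    let E : Module.Basis _ A (⨂[A] i, Q i) := (Basis.piTensorProduct e).reindex (Equiv.ulift.{u}.symm)
    let π : (⨂[A] i, Q i) →ₐ[A] B := PiTensorProduct.liftAlgHom
      ((MultilinearMap.mkPiAlgebra A (Fin n) B).compLinearMap fun i =>
        (AdjoinRoot.liftAlgHom (p i) (Algebra.ofId A B) (b i) (hp i)).toLinearMap)
      (by simp) (by intro x y; simp [Finset.prod_mul_distrib])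
    have hb : ∀ i, ∃ x, π x = b i := fun i => ⟨PiTensorProduct.singleAlgHom (R := A) (A := Q) i (AdjoinRoot.root (p i)), by
      change π (PiTensorProduct.tprod A (Pi.mulSingle i (AdjoinRoot.root (p i)))) = b i
      simp only [π, PiTensorProduct.liftAlgHom_apply, PiTensorProduct.lift.tprod, MultilinearMap.compLinearMap_apply,
        MultilinearMap.mkPiAlgebra_apply, AlgHom.toLinearMap_apply]
      rw [Finset.prod_eq_single i]
      · simp [Q]
      · intro j _ hj
        rw [Pi.mulSingle_eq_of_ne hj, map_one]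
      · simp⟩
    obtain ⟨φ, hφ⟩ := exists_algHom_sym E (γ.precomp π)
    have hfin : Module.Finite A (SymTen.TS A (⨂[A] i, Q i) d) := finite_of_isGammaD _ (isGammaD_sym E)
    choose x hx using hb
    have key : coef γ.law b β = φ (coef (sym A (⨂[A] i, Q i) d).law x β) := by
      rw [coef, coef, ← AlgHom.toLinearMap_apply, ← coefL_lTensor, hφ]
      congr 2
      change _ = γ.law.toFun' _ (π.toLinearMap.lTensor _ (uni A x))
      simp [uni, hx]
    rw [key]
    exact (Algebra.IsIntegral.isIntegral _).map φ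

end Groth.Agent.PolLaw95
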