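import Groth.Agent.PolLaw95.KerBC

/-!
The characteristic polynomial of a law over every test ring, and Cayley–Hamilton there.
-/

set_option linter.unusedSectionVars false

universe u

open scoped TensorProduct

namespace Groth.Agent.PolLaw95

variable {A B : Type u} [CommRing A] [CommRing B] [Algebra A B] {d : ℕ}

/-- The inclusion of scalars in polynomials, over `A`. -/
noncomputable abbrev cR (A : Type u) [CommRing A] (R : Type u) [CommRing R] [Algebra A R] : R →ₐ[A] Polynomial R :=
  IsScalarTower.toAlgHom A R (Polynomial R)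

/-- `F(x - X)` over `R[X]`. -/
noncomputable def chiBC (F : PolLaw.MulLaw A B A d) {R : Type u} [CommRing R] [Algebra A R] (x : R ⊗[A] B) :
    Polynomial R :=
  TensorProduct.rid A (Polynomial R)
    (F.law.toFun' (Polynomial R) (rTA (cR A R) B x - (Polynomial.X : Polynomial R) • 1))

/-- `χ_x(x)`. -/
noncomputable def chiEval (F : PolLaw.MulLaw A B A d) {R : Type u} [CommRing R] [Algebra A R] (x : R ⊗[A] B) :
    R ⊗[A] B :=
  Polynomial.aevalTower (Algebra.TensorProduct.includeLeft : R →ₐ[A] R ⊗[A] B) x (chiBC F x)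

theorem chiBC_rTA (F : PolLaw.MulLaw A B A d) {R R' : Type u} [CommRing R] [Algebra A R] [CommRing R'] [Algebra A R']
    (ψ : R →ₐ[A] R') (x : R ⊗[A] B) : chiBC F (rTA ψ B x) = Polynomial.mapAlgHom ψ (chiBC F x) := by
  rw [chiBC, chiBC]
  set y := rTA (cR A R) B x - (Polynomial.X : Polynomial R) • 1
  have h : rTA (cR A R') B (rTA ψ B x) - (Polynomial.X : Polynomial R') • 1 = rTA (Polynomial.mapAlgHom ψ) B y := by
    rw [map_sub, rTA_smul, map_one, rTA_rTA, rTA_rTA]
    congr 2
    · congr 1
      exact AlgHom.ext fun r => by simp [cR]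
    · simp
  rw [h, ← rT_eq_rTA, ← compat]
  generalize F.law.toFun' (Polynomial R) y = z
  induction z using TensorProduct.induction_on with
  | zero => simp
  | tmul p a => simp
  | add a b ha hb => simp only [map_add, ha, hb]

theorem chiEval_rTA (F : PolLaw.MulLaw A B A d) {R R' : Type u} [CommRing R] [Algebra A R] [CommRing R'] [Algebra A R']
    (ψ : R →ₐ[A] R') (x : R ⊗[A] B) : chiEval F (rTA ψ B x) = rTA ψ B (chiEval F x) := by
  rw [chiEval, chiEval, chiBC_rTA]
  generalize chiBC F x = p
  induction p using Polynomial.induction_on' with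
  | add p q hp hq => simp only [map_add, hp, hq]
  | monomial k r =>
    simp [← Polynomial.C_mul_X_pow_eq_monomial, rTA]

theorem chiBC_eq_of_mem_kerBC (F : PolLaw.MulLaw A B A d) {R : Type u} [CommRing R] [Algebra A R] {x : R ⊗[A] B}
    (hx : x ∈ PolLaw.kerBC F.law R) : chiBC F x = (-Polynomial.X) ^ d := by
  have h := (mem_kerBC_iff F.law x).mp hx (Polynomial R) (cR A R) ((-Polynomial.X : Polynomial R) • 1) 1
  rw [chiBC, show rTA (cR A R) B x - (Polynomial.X : Polynomial R) • 1 =
    (-Polynomial.X : Polynomial R) • 1 + 1 * rTA (cR A R) B x by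
      refine sub_eq_iff_eq_add.mpr ?_
      rw [one_mul, add_right_comm, ← add_smul, neg_add_cancel, zero_smul, zero_add],
    h, F.homog, (F.mult _).1, Algebra.TensorProduct.one_def, TensorProduct.smul_tmul', smul_eq_mul, mul_one]
  simp

theorem algHom_pow {S S' : Type u} [CommRing S] [Algebra A S] [CommRing S'] [Algebra A S']
    (Θ : S →ₐ[A] S') (x : S) (k : ℕ) : Θ (x ^ k) = Θ x ^ k :=
  map_pow Θ x k

section Gen

variable {P : Type u} [CommRing P] [Algebra A P] {R : Type u} [CommRing R] [Algebra A R] (x : R ⊗[A] P)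

/-- The inclusion `R → R ⊗ TS`. -/
noncomputable abbrev inlTS (d : ℕ) : R →ₐ[A] R ⊗[A] SymTen.TS A P d := Algebra.TensorProduct.includeLeft

/-- The generic value of `χ_x(x)`. -/
noncomputable def genCharBC (d : ℕ) : (R ⊗[A] SymTen.TS A P d) ⊗[A] P :=
  Algebra.TensorProduct.lift
    (Polynomial.aevalTower
      ((Algebra.TensorProduct.includeLeft :
        R ⊗[A] SymTen.TS A P d →ₐ[A] (R ⊗[A] SymTen.TS A P d) ⊗[A] P).comp (inlTS d))
      (rTA (inlTS d) P x))
    ((Algebra.TensorProduct.includeLeft :
        R ⊗[A] SymTen.TS A P d →ₐ[A] (R ⊗[A] SymTen.TS A P d) ⊗[A] P).comp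
      (Algebra.TensorProduct.includeRight : SymTen.TS A P d →ₐ[A] R ⊗[A] SymTen.TS A P d))
    (fun _ _ => Commute.all _ _)
    ((sym A P d).law.toFun' (Polynomial R) (rTA (cR A R) P x - (Polynomial.X : Polynomial R) • 1))

set_option synthInstance.maxHeartbeats 200000 in
set_option maxHeartbeats 1000000 in
theorem sym_add_genCharBC [Module.Flat A R] (u w : R ⊗[A] P) :
    Algebra.TensorProduct.lift
      ((AlgHom.id A (R ⊗[A] SymTen.TS A P d)))
      (Algebra.TensorProduct.includeRight : SymTen.TS A P d →ₐ[A] R ⊗[A] SymTen.TS A P d)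
      (fun _ _ => Commute.all _ _)
      ((sym A P d).law.toFun' (R ⊗[A] SymTen.TS A P d)
        (rTA (inlTS d) P u + rTA (inlTS d) P w * genCharBC x d)) =
      (sym A P d).law.toFun' R u := by
  set T := ⨂[A] _ : Fin d, P
  set TS := SymTen.TS A P d
  let Θ : (R ⊗[A] TS) ⊗[A] T →ₐ[A] R ⊗[A] T :=
    Algebra.TensorProduct.lift (Algebra.TensorProduct.map (AlgHom.id A R) TS.val)
      (Algebra.TensorProduct.includeRight : T →ₐ[A] R ⊗[A] T) fun _ _ => Commute.all _ _
  apply Module.Flat.lTensor_preserves_injective_linearMap TS.val.toLinearMap Subtype.val_injective (M := R)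
  rw [val_sym]
  have hΘ : ∀ z : (R ⊗[A] TS) ⊗[A] TS,
      TS.val.toLinearMap.lTensor R (Algebra.TensorProduct.lift (AlgHom.id A (R ⊗[A] TS))
        (Algebra.TensorProduct.includeRight : TS →ₐ[A] R ⊗[A] TS) (fun _ _ => Commute.all _ _) z) =
      Θ (TS.val.toLinearMap.lTensor _ z) := by
    intro z
    induction z using TensorProduct.induction_on with
    | zero => simp
    | add a b ha hb => simp only [map_add, ha, hb]
    | tmul p c =>
      rw [PolLaw.lTensor_algHom_apply]
      induction p using TensorProduct.induction_on with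
      | zero => simp
      | tmul r t => simp [Θ]
      | add a b ha hb => simp only [TensorProduct.add_tmul, map_add, ha, hb]
  rw [hΘ, val_sym]
  change Θ (∏ i : Fin d, _) = ∏ i : Fin d, _
  refine (algHom_prod (A := A) (S := (R ⊗[A] TS) ⊗[A] T) (S' := R ⊗[A] T) (ι := Fin d) Θ _).trans ?_
  refine Finset.prod_congr rfl fun i _ => ?_
  let s : P →ₐ[A] T := PiTensorProduct.singleAlgHom (R := A) (A := fun _ : Fin d => P) i
  change Θ (s.toLinearMap.lTensor _ _) = s.toLinearMap.lTensor _ _
  simp only [PolLaw.lTensor_algHom_apply, map_add, map_mul]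
  let L : (R ⊗[A] TS) ⊗[A] P →ₐ[A] R ⊗[A] T :=
    Algebra.TensorProduct.lift (Algebra.TensorProduct.map (AlgHom.id A R) TS.val)
      ((Algebra.TensorProduct.includeRight : T →ₐ[A] R ⊗[A] T).comp s) fun _ _ => Commute.all _ _
  have h0 : ∀ z : (R ⊗[A] TS) ⊗[A] P,
      Θ (Algebra.TensorProduct.map (AlgHom.id (R ⊗[A] TS) (R ⊗[A] TS)) s z) = L z := fun z => by
    induction z using TensorProduct.induction_on with
    | zero => simp
    | tmul r p => simp [Θ, L]
    | add a b ha hb => simp only [map_add, ha, hb]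
  have h1 : ∀ z : R ⊗[A] P, L (rTA (inlTS d) P z) = Algebra.TensorProduct.map (AlgHom.id R R) s z := fun z => by
    induction z using TensorProduct.induction_on with
    | zero => simp
    | tmul r p => simp [rTA, L]
    | add a b ha hb => simp only [map_add, ha, hb]
  -- the slot of the generic value vanishes
  let xi : R ⊗[A] T := Algebra.TensorProduct.map (AlgHom.id R R) s x
  let Ψ : Polynomial R ⊗[A] T →ₐ[A] R ⊗[A] T :=
    Algebra.TensorProduct.lift (Polynomial.aevalTower (Algebra.TensorProduct.includeLeft : R →ₐ[A] R ⊗[A] T) xi)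
      (Algebra.TensorProduct.includeRight : T →ₐ[A] R ⊗[A] T) fun _ _ => Commute.all _ _
  have h2 : L (genCharBC x d) = 0 := by
    have key : ∀ z : Polynomial R ⊗[A] TS,
        L (Algebra.TensorProduct.lift
          (Polynomial.aevalTower ((Algebra.TensorProduct.includeLeft :
            R ⊗[A] TS →ₐ[A] (R ⊗[A] TS) ⊗[A] P).comp (inlTS d)) (rTA (inlTS d) P x))
          ((Algebra.TensorProduct.includeLeft : R ⊗[A] TS →ₐ[A] (R ⊗[A] TS) ⊗[A] P).comp
            (Algebra.TensorProduct.includeRight : TS →ₐ[A] R ⊗[A] TS)) (fun _ _ => Commute.all _ _) z) =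
        Ψ (TS.val.toLinearMap.lTensor _ z) := by
      intro z
      induction z using TensorProduct.induction_on with
      | zero => simp
      | add a b ha hb => simp only [map_add, ha, hb]
      | tmul p c =>
        induction p using Polynomial.induction_on' with
        | add p q hp hq => simp only [TensorProduct.add_tmul, map_add, hp, hq]
        | monomial k r =>
          rw [← Polynomial.C_mul_X_pow_eq_monomial]
          simp only [Algebra.TensorProduct.lift_tmul, map_mul, map_pow, Polynomial.aevalTower_C, Polynomial.aevalTower_X,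
            AlgHom.comp_apply, LinearMap.lTensor_tmul, AlgHom.toLinearMap_apply, h1, Ψ]
          simp [L, xi, ← h1 x]
          rw [algHom_pow (A := A) (S := (R ⊗[A] TS) ⊗[A] P) (S' := R ⊗[A] T)]
    rw [genCharBC, key, val_sym]
    change Ψ (∏ j : Fin d, _) = 0
    rw [algHom_prod (A := A) (S := Polynomial R ⊗[A] T) (S' := R ⊗[A] T) (ι := Fin d) Ψ]
    refine Finset.prod_eq_zero (Finset.mem_univ i) ?_
    change Ψ (s.toLinearMap.lTensor _ _) = 0
    have hc : ∀ z : R ⊗[A] P, Ψ (s.toLinearMap.lTensor _ (rTA (cR A R) P z)) = Algebra.TensorProduct.map (AlgHom.id R R) s z :=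
      fun z => by
      induction z using TensorProduct.induction_on with
      | zero => simp
      | tmul r p => simp [rTA, Ψ, cR]
      | add a b ha hb => simp only [map_add, ha, hb]
    rw [map_sub, map_sub, hc, Algebra.TensorProduct.one_def, TensorProduct.smul_tmul', smul_eq_mul, mul_one]
    simp [Ψ, xi, ← Algebra.TensorProduct.one_def]
  rw [h0, h0, h0, h1, h1, h2, mul_zero, add_zero]

end Gen

/-- Cayley–Hamilton over every test ring. -/
theorem chiEval_mem_kerBC (F : PolLaw.MulLaw A B A d) {S : Type u} [CommRing S] [Algebra A S] (y : S ⊗[A] B) :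
    chiEval F y ∈ PolLaw.kerBC F.law S := by
  rw [mem_kerBC_iff]
  intro R' _ _ σ u0 w0
  let _ : Ring R' := Algebra.semiringToRing A
  let _ : CommRing R' := { (inferInstance : Ring R'), (inferInstance : CommSemiring R') with }
  rw [← chiEval_rTA]
  obtain ⟨n, ρ, x, u, w, hx, hu, hw⟩ := exists_common_poly3 (rTA σ B y) u0 w0
  rw [← hx, ← hu, ← hw, chiEval_rTA]
  suffices key : F.law.toFun' _ (u + w * chiEval F x) = F.law.toFun' _ u by
    have := congrArg (rT ρ A) key
    rw [compat, compat] at this
    simpa only [rT_eq_rTA, map_add, map_mul] using this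
  let P := MvPolynomial B A
  let π : P →ₐ[A] B := MvPolynomial.aeval id
  have hπ : Function.Surjective π := fun b => ⟨MvPolynomial.X b, MvPolynomial.aeval_X _ _⟩
  obtain ⟨φ, hφ⟩ := exists_algHom_sym (d := d) (MvPolynomial.basisMonomials B A) (F.precomp π)
  have hF : ∀ (S : Type u) [CommSemiring S] [Algebra A S] (y : S ⊗[A] P),
      φ.toLinearMap.lTensor S ((sym A P d).law.toFun' S y) = F.law.toFun' S (π.toLinearMap.lTensor S y) :=
    fun S _ _ y => hφ S y
  obtain ⟨x', rfl⟩ := LinearMap.lTensor_surjective (g := π.toLinearMap) _ hπ x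
  obtain ⟨u', rfl⟩ := LinearMap.lTensor_surjective (g := π.toLinearMap) _ hπ u
  obtain ⟨w', rfl⟩ := LinearMap.lTensor_surjective (g := π.toLinearMap) _ hπ w
  set R := MvPolynomial (Fin n) A
  let TS := SymTen.TS A P d
  let ψ : R ⊗[A] TS →ₐ[A] R :=
    (Algebra.TensorProduct.rid A A R).toAlgHom.comp (Algebra.TensorProduct.map (AlgHom.id A R) φ)
  have hid : ∀ z : R ⊗[A] P, π.toLinearMap.lTensor R z = π.toLinearMap.lTensor R (rTA ψ P (rTA (inlTS d) P z)) := by
    intro z
    rw [rTA_rTA, show ψ.comp (inlTS d) = AlgHom.id A R from AlgHom.ext fun r => by simp [ψ]]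
    congr 1
    exact (DFunLike.congr_fun Algebra.TensorProduct.map_id z).symm
  have hq : chiEval F (π.toLinearMap.lTensor R x') = π.toLinearMap.lTensor R (rTA ψ P (genCharBC x' d)) := by
    rw [chiEval, chiBC, genCharBC]
    have e1 : rTA (cR A R) B (π.toLinearMap.lTensor R x') - (Polynomial.X : Polynomial R) • 1 =
        π.toLinearMap.lTensor _ (rTA (cR A R) P x' - (Polynomial.X : Polynomial R) • 1) := by
      rw [rTA_lTensor_poly, PolLaw.lTensor_algHom_apply π (Polynomial R) (_ - _), map_sub, map_smul, map_one,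
        ← PolLaw.lTensor_algHom_apply]
    rw [e1, ← hF]
    generalize (sym A P d).law.toFun' (Polynomial R) _ = z
    induction z using TensorProduct.induction_on with
    | zero => simp
    | add a c ha hc => simp only [map_add, ha, hc]
    | tmul p c =>
      induction p using Polynomial.induction_on' with
      | add p q hp hq => simp only [TensorProduct.add_tmul, map_add, hp, hq]
      | monomial k r =>
        rw [LinearMap.lTensor_tmul, TensorProduct.rid_tmul, ← Polynomial.C_mul_X_pow_eq_monomial,
          Algebra.TensorProduct.lift_tmul]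
        rw [PolLaw.lTensor_algHom_apply π R (rTA ψ P _)]
        simp only [map_smul, map_mul, map_pow, Polynomial.aevalTower_C, Polynomial.aevalTower_X]
        have hid' : Algebra.TensorProduct.map (AlgHom.id R R) π (rTA ψ P (rTA (inlTS d) P x')) =
            π.toLinearMap.lTensor R x' := by
          rw [← PolLaw.lTensor_algHom_apply, ← hid]
        rw [hid']
        simp [rTA, ψ]
        rw [← TensorProduct.smul_tmul', mul_smul_comm, ← Algebra.TensorProduct.one_def, mul_one]
  have key := congrArg (φ.toLinearMap.lTensor R) (sym_add_genCharBC (d := d) x' u' w')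
  rw [hF R u'] at key
  refine Eq.trans ?_ key
  have hμ : ∀ z : (R ⊗[A] TS) ⊗[A] TS, φ.toLinearMap.lTensor R (Algebra.TensorProduct.lift (AlgHom.id A (R ⊗[A] TS))
      (Algebra.TensorProduct.includeRight : TS →ₐ[A] R ⊗[A] TS) (fun _ _ => Commute.all _ _) z) =
      φ.toLinearMap.lTensor R (rTA ψ TS z) := fun z => by
    induction z using TensorProduct.induction_on with
    | zero => simp
    | add a c ha hc => simp only [map_add, ha, hc]
    | tmul p c =>
      induction p using TensorProduct.induction_on with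
      | zero => simp
      | add a c' ha hc => simp only [TensorProduct.add_tmul, map_add, ha, hc]
      | tmul r t =>
        simp only [Algebra.TensorProduct.lift_tmul, AlgHom.coe_id, id, Algebra.TensorProduct.includeRight_apply,
          Algebra.TensorProduct.tmul_mul_tmul, mul_one, LinearMap.lTensor_tmul, AlgHom.toLinearMap_apply, map_mul,
          rTA, Algebra.TensorProduct.map_tmul, ψ, AlgHom.comp_apply, AlgEquiv.coe_toAlgHom,
          Algebra.TensorProduct.rid_tmul]
        rw [← smul_eq_mul, TensorProduct.tmul_smul, TensorProduct.smul_tmul']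
  rw [hμ, ← rT_eq_rTA, compat, rT_eq_rTA, hF]
  congr 1
  rw [map_add, map_mul, PolLaw.lTensor_algHom_apply π R (_ + _), map_add, map_mul,
    ← PolLaw.lTensor_algHom_apply, ← PolLaw.lTensor_algHom_apply, ← PolLaw.lTensor_algHom_apply, ← hid, ← hid, hq]

theorem radical_kerBC (F : PolLaw.MulLaw A B A d) (A' : Type u) [CommRing A'] [Algebra A A'] :
    (PolLaw.kerBC F.law A').radical =
      ((PolLaw.ker F.law).map (Algebra.TensorProduct.includeRight : B →ₐ[A] A' ⊗[A] B)).radical := by
  refine le_antisymm ?_ (Ideal.radical_mono (map_ker_le_kerBC F.law A'))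
  refine Ideal.radical_le_radical_iff.mpr fun x hx => ⟨d, ?_⟩
  obtain ⟨n, s, b, rfl⟩ := exists_eq_sum x
  let ψ : MvPolynomial (Fin n) A →ₐ[A] A' := MvPolynomial.aeval s
  have e : rTA ψ B (uni A b) = ∑ j, s j ⊗ₜ[A] b j := by rw [← rT_eq_rTA]; exact rT_aeval_uni b s
  have h1 : chiEval F (∑ j, s j ⊗ₜ[A] b j) ∈
      (PolLaw.ker F.law).map (Algebra.TensorProduct.includeRight : B →ₐ[A] A' ⊗[A] B) := by
    rw [← e, chiEval_rTA]
    exact rTA_map_ker_le _ ψ (by rw [← kerBC_mvPolynomial]; exact chiEval_mem_kerBC F _)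
  rw [chiEval, chiBC_eq_of_mem_kerBC F hx, map_pow, map_neg, Polynomial.aevalTower_X, neg_pow] at h1
  exact (Ideal.unit_mul_mem_iff_mem _ (IsUnit.pow d isUnit_one.neg)).mp h1

theorem radical_ker_precomp {B' : Type u} [CommRing B'] [Algebra A B'] (F : PolLaw.MulLaw A B A d) (φ : B' →ₐ[A] B) :
    (PolLaw.ker (F.precomp φ).law).radical = ((PolLaw.ker F.law).comap φ).radical := by
  refine le_antisymm (Ideal.radical_le_radical_iff.mpr fun b hb => ⟨d, ?_⟩) (Ideal.radical_mono fun b hb => ?_)
  · rw [Ideal.mem_comap, map_pow]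
    have h := aeval_charPoly_mem_ker F (φ b)
    have hb' := hb (Polynomial A) ((-Polynomial.X : Polynomial A) • 1) 1
    change F.law.toFun' _ (φ.toLinearMap.lTensor _ _) = F.law.toFun' _ (φ.toLinearMap.lTensor _ _) at hb'
    simp only [PolLaw.lTensor_algHom_apply, map_add, map_mul, map_smul, map_one, one_mul,
      Algebra.TensorProduct.map_tmul] at hb'
    rw [show (1 : Polynomial A) ⊗ₜ[A] φ b - (Polynomial.X : Polynomial A) ⊗ₜ[A] (1 : B) =
        (-Polynomial.X : Polynomial A) • 1 + (1 : Polynomial A) ⊗ₜ[A] φ b by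
      rw [Algebra.TensorProduct.one_def, TensorProduct.smul_tmul', smul_eq_mul, mul_one, TensorProduct.neg_tmul]
      abel, hb', F.homog, (F.mult _).1, Algebra.TensorProduct.one_def, TensorProduct.smul_tmul', smul_eq_mul,
      mul_one, TensorProduct.rid_tmul, one_smul, map_pow, map_neg, Polynomial.aeval_X, neg_pow] at h
    exact (Ideal.unit_mul_mem_iff_mem _ (IsUnit.pow d isUnit_one.neg)).mp h
  · intro S _ _ x w
    change F.law.toFun' S (φ.toLinearMap.lTensor S _) = F.law.toFun' S (φ.toLinearMap.lTensor S _)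
    rw [PolLaw.lTensor_algHom_apply, map_add, map_mul, Algebra.TensorProduct.map_tmul, map_one,
      ← PolLaw.lTensor_algHom_apply]
    exact hb S _ _

end Groth.Agent.PolLaw95
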