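import Groth.Agent.PolLaw95.Polar
import Mathlib.Data.Finsupp.Multiset
import Mathlib.Logic.Equiv.Basic

/-!
Maps `Fin d → τ` and their counting exponents.
-/

namespace Groth.Agent.PolLaw95

theorem counts_apply {σ τ : Type} [Fintype σ] [DecidableEq τ] (c : σ → τ) (t : τ) :
    counts c t = (Finset.univ.filter fun i => c i = t).card := by
  classical
  rw [counts, Finsupp.mapDomain, Finsupp.sum_apply, Finsupp.sum_fintype _ _ (by simp)]
  simp [onesE, Finsupp.single_apply, Finset.sum_boole]

theorem counts_comp_perm {d : ℕ} {τ : Type} (c : Fin d → τ) (σ : Equiv.Perm (Fin d)) : counts (c ∘ σ) = counts c := by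
  classical
  ext t
  rw [counts_apply, counts_apply]
  refine Finset.card_bij (fun i _ => σ i) (fun i hi => by simpa using hi) (fun a _ b _ h => σ.injective h)
    fun b hb => ⟨σ.symm b, by simpa using hb, by simp⟩

theorem exists_perm_of_counts_eq {d : ℕ} {τ : Type} {c c' : Fin d → τ} (h : counts c = counts c') :
    ∃ σ : Equiv.Perm (Fin d), c' = c ∘ σ := by
  classical
  have he : ∀ t, Nonempty ({i // c' i = t} ≃ {i // c i = t}) := fun t => by
    refine ⟨Fintype.equivOfCardEq ?_⟩
    have h1 := DFunLike.congr_fun h t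
    rw [counts_apply, counts_apply] at h1
    rw [Fintype.card_subtype, Fintype.card_subtype, h1]
  refine ⟨Equiv.ofFiberEquiv fun t => (he t).some, funext fun i => ?_⟩
  exact (Equiv.ofFiberEquiv_map (fun t => (he t).some) i).symm

theorem exists_counts {d n : ℕ} (β : Fin n →₀ ℕ) (h : β.sum (fun _ e => e) = d) :
    ∃ c : Fin d → Fin n, counts c = β := by
  classical
  let e : (Σ j : Fin n, Fin (β j)) ≃ Fin d := Fintype.equivFinOfCardEq (by
    rw [Fintype.card_sigma]
    simp only [Fintype.card_fin]
    rw [← h, Finsupp.sum_fintype _ _ (fun _ => rfl)])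
  refine ⟨fun i => (e.symm i).1, Finsupp.ext fun j => ?_⟩
  rw [counts_apply, ← Fintype.card_subtype]
  calc Fintype.card {i // (e.symm i).1 = j} = Fintype.card {p : Σ j : Fin n, Fin (β j) // p.1 = j} :=
        Fintype.card_congr (e.symm.subtypeEquiv fun _ => Iff.rfl)
    _ = _ := by
      rw [Fintype.card_congr (Equiv.sigmaSubtype j), Fintype.card_fin]

end Groth.Agent.PolLaw95
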