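import Groth.Agent.PolLaw95.CayleyHamilton
import Mathlib.LinearAlgebra.TensorProduct.RightExactness

/-!
Coefficients with respect to spanning sets and descent of laws along surjections.
-/

set_option linter.unusedSectionVars false
set_option autoImplicit false

universe u

open scoped TensorProduct
open MvPolynomial

namespace Groth.Agent.PolLaw95

variable {A P B C : Type u} [CommRing A] [CommRing P] [Algebra A P] [CommRing B] [Algebra A B]
  [CommRing C] [Algebra A C] {d : ℕ}

theorem coef_postcomp_law {C' : Type u} [CommRing C'] [Algebra A C'] (f : C →ₐ[A] C') (F : B →ₚₗ[A] C)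
    {n : ℕ} (b : Fin n → B) (α : Fin n →₀ ℕ) :
    coef (PolLaw.postcomp f.toLinearMap F) b α = f (coef F b α) := by
  show coefL (f.toLinearMap.lTensor _ (F.toFun' _ (uni A b))) α = _
  rw [coefL_lTensor]
  rfl

theorem coef_precomp (G : PolLaw.MulLaw A B C d) (π : P →ₐ[A] B) {n : ℕ} (b : Fin n → P) (α : Fin n →₀ ℕ) :
    coef (G.precomp π).law b α = coef G.law (fun i => π (b i)) α := by
  show coefL (G.law.toFun' _ (π.toLinearMap.lTensor _ (uni A b))) α = _
  rw [coef]
  congr 3
  simp [uni]

theorem exists_span_sum {S : Type u} [CommSemiring S] [Algebra A S] (W : Set P) {q : P}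
    (hq : q ∈ Submodule.span A W) (s : S) :
    ∃ (n : ℕ) (t : Fin n → S) (b : Fin n → P), (∀ j, b j ∈ W) ∧ s ⊗ₜ[A] q = ∑ j, t j ⊗ₜ[A] b j := by
  induction hq using Submodule.span_induction generalizing s with
  | mem q hq => exact ⟨1, fun _ => s, fun _ => q, fun _ => hq, by simp⟩
  | zero => exact ⟨0, Fin.elim0, Fin.elim0, fun j => j.elim0, by simp⟩
  | add x y _ _ hx hy =>
    obtain ⟨n, t, b, hb, e⟩ := hx s
    obtain ⟨m, t', b', hb', e'⟩ := hy s
    refine ⟨n + m, Fin.append t t', Fin.append b b', fun j => ?_, ?_⟩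
    · induction j using Fin.addCases <;> simp [hb, hb']
    · simp [TensorProduct.tmul_add, Fin.sum_univ_add, e, e']
  | smul r x _ hx =>
    obtain ⟨n, t, b, hb, e⟩ := hx (r • s)
    exact ⟨n, t, b, hb, by rw [TensorProduct.tmul_smul, TensorProduct.smul_tmul', e]⟩

theorem exists_span_sum' {S : Type u} [CommSemiring S] [Algebra A S] (W : Set P) (p : Submodule A P)
    (hp : p ≤ Submodule.span A W) (x : S ⊗[A] p) :
    ∃ (n : ℕ) (t : Fin n → S) (b : Fin n → P),
      (∀ j, b j ∈ W) ∧ p.subtype.lTensor S x = ∑ j, t j ⊗ₜ[A] b j := by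
  induction x using TensorProduct.induction_on with
  | zero => exact ⟨0, Fin.elim0, Fin.elim0, fun j => j.elim0, by simp⟩
  | tmul s q => exact exists_span_sum W (hp q.2) s
  | add x y hx hy =>
    obtain ⟨n, t, b, hb, e⟩ := hx
    obtain ⟨m, t', b', hb', e'⟩ := hy
    refine ⟨n + m, Fin.append t t', Fin.append b b', fun j => ?_, ?_⟩
    · induction j using Fin.addCases <;> simp [hb, hb']
    · simp [map_add, Fin.sum_univ_add, e, e']

theorem exists_span_sum_top {S : Type u} [CommSemiring S] [Algebra A S] (W : Set P)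
    (hW : Submodule.span A W = ⊤) (x : S ⊗[A] P) :
    ∃ (n : ℕ) (t : Fin n → S) (b : Fin n → P), (∀ j, b j ∈ W) ∧ x = ∑ j, t j ⊗ₜ[A] b j := by
  induction x using TensorProduct.induction_on with
  | zero => exact ⟨0, Fin.elim0, Fin.elim0, fun j => j.elim0, by simp⟩
  | tmul s q => exact exists_span_sum W (hW ▸ Submodule.mem_top) s
  | add x y hx hy =>
    obtain ⟨n, t, b, hb, e⟩ := hx
    obtain ⟨m, t', b', hb', e'⟩ := hy
    refine ⟨n + m, Fin.append t t', Fin.append b b', fun j => ?_, ?_⟩
    · induction j using Fin.addCases <;> simp [hb, hb']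
    · simp [Fin.sum_univ_add, e, e']

/-- The coefficients at tuples from a spanning set span all coefficients. -/
theorem coefSpan_le_of_span (F : B →ₚₗ[A] C) (W : Set B) (hW : Submodule.span A W = ⊤) :
    coefSpan F ≤ Submodule.span A
      {c | ∃ (n : ℕ) (b : Fin n → B) (α : Fin n →₀ ℕ), (∀ j, b j ∈ W) ∧ coef F b α = c} := by
  refine Submodule.span_le.mpr ?_
  rintro _ ⟨m, c, β, rfl⟩
  obtain ⟨n, t, b, hb, e⟩ := exists_span_sum_top W hW (uni A c)
  rw [SetLike.mem_coe, coef, e, toFun'_sum, map_sum, Finsupp.finsetSum_apply]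
  refine sum_mem fun α _ => ?_
  rw [coefL_tmul]
  exact Submodule.smul_mem _ _ (Submodule.subset_span ⟨n, b, α, hb, rfl⟩)

/-- A coefficient involving a zero entry vanishes. -/
theorem coef_eq_zero_of_entry_zero (F : B →ₚₗ[A] C) {n : ℕ} (b : Fin n → B) (β : Fin n →₀ ℕ) (i : Fin n)
    (hi : β i ≠ 0) (hb : b i = 0) : coef F b β = 0 := by
  classical
  let φ : MvPolynomial (Fin n) A →ₐ[A] MvPolynomial (Fin n) A :=
    aeval fun j => if j = i then 0 else X j
  have h : uni A b = rT φ B (uni A b) := by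
    simp only [uni, map_sum, rT_tmul]
    refine Finset.sum_congr rfl fun j _ => ?_
    by_cases hj : j = i
    · subst hj; rw [hb, TensorProduct.tmul_zero, TensorProduct.tmul_zero]
    · simp [φ, hj]
  rw [coef, h, ← compat, eq_sum_coef (F.toFun' _ (uni A b))]
  simp only [map_sum, rT_tmul, Finsupp.finsetSum_apply, coefL_tmul]
  refine Finset.sum_eq_zero fun α _ => ?_
  suffices h0 : coeff β (φ (monomial α (1 : A))) = 0 by rw [h0, zero_smul]
  have hφ : φ (monomial α (1 : A)) = if α i = 0 then monomial α 1 else 0 := by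
    simp only [φ, aeval_monomial, map_one, one_mul, Finsupp.prod]
    split_ifs with hα
    · rw [monomial_eq, map_one, one_mul, Finsupp.prod]
      refine Finset.prod_congr rfl fun j hj => ?_
      rw [if_neg]
      rintro rfl
      exact Finsupp.mem_support_iff.mp hj hα
    · exact Finset.prod_eq_zero (Finsupp.mem_support_iff.mpr hα) (by simp [hα])
  rw [hφ]
  split_ifs with hα
  · rw [coeff_monomial, if_neg]
    rintro rfl
    exact hi hα
  · exact coeff_zero _

/-- A law descends along a surjection once the coefficients involving the kernel vanish. -/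
theorem exists_descend (F : PolLaw.MulLaw A P C d) (π : P →ₐ[A] B) (hπ : Function.Surjective π)
    (W V : Set P) (hW : Submodule.span A W = ⊤) (hVW : V ⊆ W)
    (hV : LinearMap.ker π.toLinearMap ≤ Submodule.span A V)
    (hvan : ∀ (n : ℕ) (b : Fin n → P) (β : Fin n →₀ ℕ), (∀ j, b j ∈ W) →
      (∃ j, β j ≠ 0 ∧ b j ∈ V) → coef F.law b β = 0) :
    ∃ G : PolLaw.MulLaw A B C d, (G.precomp π).law = F.law := by
  classical
  have hlift : ∀ (S : Type u) [CommSemiring S] [Algebra A S] (z : S ⊗[A] B),
      ∃ u, π.toLinearMap.lTensor S u = z := fun S _ _ => LinearMap.lTensor_surjective _ hπ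
  have hwd : ∀ (k : ℕ) (u u' : MvPolynomial (Fin k) A ⊗[A] P),
      π.toLinearMap.lTensor _ u = π.toLinearMap.lTensor _ u' → F.law.toFun' _ u' = F.law.toFun' _ u := by
    intro k u u' h
    obtain ⟨x, hx⟩ := (lTensor_exact (MvPolynomial (Fin k) A) (LinearMap.exact_subtype_ker_map π.toLinearMap) hπ
      (u' - u)).mp (by rw [map_sub, h, sub_self])
    obtain ⟨m, q, v, hv, hxv⟩ := exists_span_sum' V _ hV x
    obtain ⟨n, s, w, hw, hu⟩ := exists_span_sum_top W hW u
    have hu' : u' = ∑ j, Fin.append s q j ⊗ₜ[A] Fin.append w v j := by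
      rw [← sub_add_cancel u' u, ← hx, hxv, hu, Fin.sum_univ_add, add_comm]
      simp
    have hu0 : u = ∑ j, Fin.append s (0 : Fin m → _) j ⊗ₜ[A] Fin.append w v j := by
      rw [hu, Fin.sum_univ_add]
      simp
    rw [hu', hu0, toFun'_sum, toFun'_sum]
    refine Finset.sum_congr rfl fun α _ => ?_
    by_cases hα : ∃ i, α (Fin.natAdd n i) ≠ 0
    · obtain ⟨i, hi⟩ := hα
      rw [show coef F.law (Fin.append w v) α = 0 from hvan _ _ _
        (fun j => by induction j using Fin.addCases <;> simp [hw, hVW (hv _)])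
        ⟨Fin.natAdd n i, hi, by simp [hv]⟩, TensorProduct.tmul_zero, TensorProduct.tmul_zero]
    · push Not at hα
      congr 1
      refine Finset.prod_congr rfl fun j _ => ?_
      induction j using Fin.addCases with
      | left i => simp
      | right i => simp [hα i]
  choose u hu using fun k => hlift (MvPolynomial (Fin k) A)
  let T : ∀ k : ℕ, MvPolynomial (Fin k) A ⊗[A] B → MvPolynomial (Fin k) A ⊗[A] C :=
    fun k z => F.law.toFun' _ (u k z)
  have hT : ∀ (k l : ℕ) (φ : MvPolynomial (Fin k) A →ₐ[A] MvPolynomial (Fin l) A),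
      φ.toLinearMap.rTensor C ∘ T k = T l ∘ φ.toLinearMap.rTensor B := fun k l φ => by
    funext z
    refine (congrFun (F.law.isCompat' φ) (u k z)).trans (hwd l _ _ ?_)
    rw [hu]
    rw [← LinearMap.comp_apply, LinearMap.lTensor_comp_rTensor, ← LinearMap.rTensor_comp_lTensor,
      LinearMap.comp_apply, hu]
  have key : PolLaw.precomp (ofPoly T hT) π.toLinearMap = F.law := law_ext fun k z => by
    show (ofPoly T hT).toFun' _ (π.toLinearMap.lTensor _ z) = _
    rw [ofPoly_poly]
    exact hwd k z _ (hu k _).symm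
  have key' : ∀ (S : Type u) [CommSemiring S] [Algebra A S] (x : S ⊗[A] P),
      (ofPoly T hT).toFun' S (π.toLinearMap.lTensor S x) = F.law.toFun' S x := fun S _ _ x =>
    congrFun (congrArg (fun L : P →ₚₗ[A] C => L.toFun' S) key) x
  refine ⟨⟨ofPoly T hT, fun S _ _ s x => ?_, fun S _ _ => ⟨?_, fun x y => ?_⟩⟩, key⟩
  · obtain ⟨x, rfl⟩ := hlift S x
    have e : s • π.toLinearMap.lTensor S x = π.toLinearMap.lTensor S (s • x) := by
      rw [PolLaw.lTensor_algHom_apply, PolLaw.lTensor_algHom_apply, map_smul]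
    rw [e, key', key', F.homog]
  · have e : (1 : S ⊗[A] B) = π.toLinearMap.lTensor S 1 := by rw [PolLaw.lTensor_algHom_apply, map_one]
    rw [e, key', (F.mult S).1]
  · obtain ⟨x, rfl⟩ := hlift S x
    obtain ⟨y, rfl⟩ := hlift S y
    have e : π.toLinearMap.lTensor S x * π.toLinearMap.lTensor S y = π.toLinearMap.lTensor S (x * y) := by
      rw [PolLaw.lTensor_algHom_apply, PolLaw.lTensor_algHom_apply, PolLaw.lTensor_algHom_apply, map_mul]
    rw [e, key', key', key', (F.mult S).2]

end Groth.Agent.PolLaw95
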