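import Groth.Prelude.Def_PolLaw2
import Groth.Agent.PolLaw95.Laws
import Mathlib.LinearAlgebra.Matrix.Charpoly.Eigs
import Mathlib.RingTheory.IntegralClosure.IntegrallyClosed
import Mathlib.FieldTheory.IsAlgClosed.AlgebraicClosure
import Mathlib.RingTheory.Localization.FractionRing
import Mathlib.RingTheory.Polynomial.UniqueFactorization
import Mathlib.Algebra.MvPolynomial.Eval
import Mathlib.FieldTheory.IsAlgClosed.Spectrum
import Mathlib.LinearAlgebra.Charpoly.BaseChange
import Mathlib.RingTheory.Polynomial.IsIntegral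
import Mathlib.RingTheory.MvPolynomial.Localization
import Mathlib.RingTheory.Localization.Algebra

/-!
The determinant law of a finite module over a normal domain.
-/

set_option linter.unusedSectionVars false
set_option autoImplicit false

universe u

open scoped TensorProduct

namespace Groth.Agent.PolLaw95

/-- The determinant of a matrix integral over `R` is integral over `R`. -/
theorem isIntegral_det_of_aeval_eq_zero {R L : Type u} [CommRing R] [Field L] [Algebra R L] {n : Type*} [Fintype n]
    [DecidableEq n] (N : Matrix n n L) (g : Polynomial R) (hg : g.Monic)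
    (h : Polynomial.aeval N (g.map (algebraMap R L)) = 0) : IsIntegral R N.det := by
  let K := AlgebraicClosure L
  let N' : Matrix n n K := N.map (algebraMap L K)
  suffices h' : IsIntegral R N'.det by
    rw [show N'.det = algebraMap L K N.det from (RingHom.map_det (algebraMap L K) N).symm] at h'
    exact (isIntegral_algebraMap_iff (algebraMap L K).injective).mp h'
  have hN' : Polynomial.aeval N' (g.map (algebraMap R L)) = 0 := by
    have : N' = (Algebra.ofId L K).mapMatrix N := rfl
    rw [this, Polynomial.aeval_algHom_apply, h, map_zero]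
  rw [Matrix.det_eq_prod_roots_charpoly]
  refine IsIntegral.multiset_prod fun lam hlam => ⟨g, hg, ?_⟩
  rcases isEmpty_or_nonempty n with hn | hn
  · simp at hlam
  have hlam' : lam ∈ spectrum K N' :=
    Matrix.mem_spectrum_iff_isRoot_charpoly.mpr (Polynomial.isRoot_of_mem_roots hlam)
  have hmem := spectrum.subset_polynomial_aeval N' (g.map (algebraMap R K)) ⟨lam, hlam', rfl⟩
  rw [IsScalarTower.algebraMap_eq R L K, ← Polynomial.map_map, Polynomial.aeval_map_algebraMap, hN',
    spectrum.zero_eq, Set.mem_singleton_iff] at hmem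
  rw [← Polynomial.eval_map, IsScalarTower.algebraMap_eq R L K, ← Polynomial.map_map]
  exact hmem

variable {A B M : Type u} [CommRing A] [CommRing B] [Algebra A B] [AddCommGroup M] [Module A M] [Module B M]
  [IsScalarTower A B M]

/-- Naturality of the determinant of the action for a free base change. -/
theorem detAct_map_free {R R' : Type u} [CommRing R] [Algebra A R] [CommRing R'] [Algebra A R'] (ψ : R →ₐ[A] R')
    [Module.Free R (R ⊗[A] M)] [Module.Finite R (R ⊗[A] M)] (x : R ⊗[A] B) :
    PolLaw.detAct M R' (Algebra.TensorProduct.map ψ (AlgHom.id A B) x) = ψ (PolLaw.detAct M R x) := by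
  letI : Algebra R R' := ψ.toRingHom.toAlgebra
  haveI : IsScalarTower A R R' := IsScalarTower.of_algebraMap_eq fun a => (ψ.commutes a).symm
  let e : R' ⊗[R] (R ⊗[A] M) ≃ₗ[R'] R' ⊗[A] M := TensorProduct.AlgebraTensorModule.cancelBaseChange A R R' R' M
  have key : PolLaw.actEnd M R' (Algebra.TensorProduct.map ψ (AlgHom.id A B) x) =
      e.toLinearMap.comp (((PolLaw.actEnd M R x : Module.End R (R ⊗[A] M)).baseChange R').comp e.symm.toLinearMap) := by
    refine LinearMap.ext fun z => ?_
    induction z using TensorProduct.induction_on with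
    | zero => simp
    | tmul s m =>
      simp only [LinearMap.comp_apply, LinearEquiv.coe_coe]
      rw [show e.symm (s ⊗ₜ[A] m) = s ⊗ₜ[R] ((1 : R) ⊗ₜ[A] m) from rfl, LinearMap.baseChange_tmul]
      induction x using TensorProduct.induction_on with
      | zero => simp
      | tmul r b =>
        simp [e, RingHom.algebraMap_toAlgebra, Algebra.smul_def, mul_comm]
      | add p q hp hq => simp only [map_add, LinearMap.add_apply, TensorProduct.tmul_add, hp, hq]
    | add p q hp hq => simp only [map_add, hp, hq]
  unfold PolLaw.detAct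
  rw [key, LinearMap.det_conj, LinearMap.det_baseChange]
  rfl

/-- A generic value lies in the base ring. -/
theorem exists_algebraMap_eq_detAct {R L : Type u} [CommRing R] [IsDomain R] [IsIntegrallyClosed R] [Algebra A R]
    [Field L] [Algebra R L] [IsFractionRing R L] [Algebra A L] [IsScalarTower A R L] [Module.Finite A M]
    (x : R ⊗[A] B) :
    ∃ r : R, algebraMap R L r =
      PolLaw.detAct M L (Algebra.TensorProduct.map (IsScalarTower.toAlgHom A R L) (AlgHom.id A B) x) := by
  classical
  obtain ⟨g, hg, hg0⟩ := LinearMap.exists_monic_and_aeval_eq_zero R (PolLaw.actEnd M R x : Module.End R (R ⊗[A] M))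
  set χ := IsScalarTower.toAlgHom A R L
  set x' := Algebra.TensorProduct.map χ (AlgHom.id A B) x
  let y : R ⊗[A] B := Polynomial.aeval x g
  have hy : PolLaw.actEnd M R y = 0 := by
    rw [← Polynomial.aeval_algHom_apply]
    exact hg0
  have hy' : (PolLaw.actEnd M L (Algebra.TensorProduct.map χ (AlgHom.id A B) y) : Module.End L (L ⊗[A] M)) = 0 := by
    refine LinearMap.ext fun z => ?_
    induction z using TensorProduct.induction_on with
    | zero => simp
    | tmul s m =>
      have h1 := PolLaw.rTensor_actEnd M χ y ((1 : R) ⊗ₜ[A] m)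
      rw [hy, LinearMap.zero_apply, map_zero, LinearMap.rTensor_tmul, AlgHom.toLinearMap_apply, map_one] at h1
      rw [show s ⊗ₜ[A] m = s • ((1 : L) ⊗ₜ[A] m) by simp [TensorProduct.smul_tmul'], map_smul, ← h1, smul_zero,
        LinearMap.zero_apply]
    | add p q hp hq => simp [map_add, hp, hq]
  let E : Module.End L (L ⊗[A] M) := PolLaw.actEnd M L x'
  have hE : Polynomial.aeval E (g.map (algebraMap R L)) = 0 := by
    rw [← hy', Polynomial.aeval_algHom_apply]
    congr 1
    show Polynomial.aeval x' (g.map (algebraMap R L)) = (Algebra.TensorProduct.map χ (AlgHom.id A B)).toRingHom (Polynomial.aeval x g)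
    rw [Polynomial.aeval_def, Polynomial.eval₂_map, Polynomial.aeval_def, Polynomial.hom_eval₂]
    congr 1
  let c := Module.Free.chooseBasis L (L ⊗[A] M)
  have hint : IsIntegral R (LinearMap.det E) := by
    rw [← LinearMap.det_toMatrix c]
    refine isIntegral_det_of_aeval_eq_zero _ g hg ?_
    show Polynomial.aeval (LinearMap.toMatrixAlgEquiv c E) _ = 0
    rw [Polynomial.aeval_algHom_apply, hE, map_zero]
  exact IsIntegrallyClosed.isIntegral_iff.mp hint

/-- Polynomial rings over a normal domain are normal. -/
theorem isIntegrallyClosed_mvPolynomial [IsDomain A] [IsIntegrallyClosed A] (n : ℕ) :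
    IsIntegrallyClosed (MvPolynomial (Fin n) A) := by
  induction n with
  | zero => exact .of_equiv (MvPolynomial.isEmptyAlgEquiv A (Fin 0)).symm.toRingEquiv
  | succ n ih =>
    haveI := ih
    exact .of_equiv (MvPolynomial.finSuccEquiv A n).symm.toRingEquiv

section Law

variable [IsDomain A]

local notation "K" => FractionRing A

/-- The inclusion of polynomial rings. -/
noncomputable def polyFrac (n : ℕ) : MvPolynomial (Fin n) A →ₐ[A] MvPolynomial (Fin n) K :=
  MvPolynomial.mapAlgHom (Algebra.ofId A K)

theorem polyFrac_injective (n : ℕ) : Function.Injective (polyFrac (A := A) n) :=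
  MvPolynomial.map_injective _ (IsFractionRing.injective A K)

theorem free_polyFrac [Module.Finite A M] (n : ℕ) :
    Module.Free (MvPolynomial (Fin n) K) (MvPolynomial (Fin n) K ⊗[A] M) ∧
      Module.Finite (MvPolynomial (Fin n) K) (MvPolynomial (Fin n) K ⊗[A] M) ∧
      Module.finrank (MvPolynomial (Fin n) K) (MvPolynomial (Fin n) K ⊗[A] M) =
        Module.finrank K (K ⊗[A] M) := by
  let e := TensorProduct.AlgebraTensorModule.cancelBaseChange A K (MvPolynomial (Fin n) K) (MvPolynomial (Fin n) K) M
  refine ⟨Module.Free.of_equiv e, inferInstance, ?_⟩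
  rw [← e.finrank_eq, Module.finrank_baseChange]

/-- The determinant over the generic point with polynomial variables. -/
noncomputable def genDet (n : ℕ) (z : MvPolynomial (Fin n) A ⊗[A] B) : MvPolynomial (Fin n) K :=
  PolLaw.detAct M (MvPolynomial (Fin n) K) (rTA (polyFrac n) B z)

theorem exists_fracLift (n : ℕ) :
    ∃ ψ : MvPolynomial (Fin n) K →ₐ[A] FractionRing (MvPolynomial (Fin n) A),
      Function.Injective ψ ∧
        ∀ p, ψ (polyFrac n p) = algebraMap (MvPolynomial (Fin n) A) (FractionRing (MvPolynomial (Fin n) A)) p := by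
  have hinj : Function.Injective (Algebra.ofId A (FractionRing (MvPolynomial (Fin n) A))) := by
    intro a b h
    change algebraMap A (FractionRing (MvPolynomial (Fin n) A)) a = algebraMap A _ b at h
    rw [IsScalarTower.algebraMap_apply A (MvPolynomial (Fin n) A) (FractionRing (MvPolynomial (Fin n) A)),
      IsScalarTower.algebraMap_apply A (MvPolynomial (Fin n) A) (FractionRing (MvPolynomial (Fin n) A))] at h
    exact MvPolynomial.C_injective _ _ (IsFractionRing.injective _ _ h)
  let g : K →ₐ[A] FractionRing (MvPolynomial (Fin n) A) := IsFractionRing.liftAlgHom hinj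
  let ψ₀ : MvPolynomial (Fin n) K →+* FractionRing (MvPolynomial (Fin n) A) :=
    MvPolynomial.eval₂Hom g.toRingHom fun i =>
      algebraMap (MvPolynomial (Fin n) A) (FractionRing (MvPolynomial (Fin n) A)) (MvPolynomial.X i)
  let ψ : MvPolynomial (Fin n) K →ₐ[A] FractionRing (MvPolynomial (Fin n) A) :=
    { ψ₀ with
      commutes' := fun a => by
        show ψ₀ (algebraMap A _ a) = _
        rw [IsScalarTower.algebraMap_apply A K (MvPolynomial (Fin n) K), MvPolynomial.algebraMap_eq]
        show MvPolynomial.eval₂Hom g.toRingHom _ (MvPolynomial.C _) = _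
        rw [MvPolynomial.eval₂Hom_C]
        exact g.commutes a }
  have hψ : ∀ p, ψ (polyFrac n p) =
      algebraMap (MvPolynomial (Fin n) A) (FractionRing (MvPolynomial (Fin n) A)) p := fun p => by
    have : ψ.comp (polyFrac n) =
        IsScalarTower.toAlgHom A (MvPolynomial (Fin n) A) (FractionRing (MvPolynomial (Fin n) A)) :=
      MvPolynomial.algHom_ext fun i => by
        show ψ₀ (polyFrac n (MvPolynomial.X i)) = _
        simp [polyFrac, ψ₀]
    exact DFunLike.congr_fun this p
  refine ⟨ψ, (injective_iff_map_eq_zero ψ).mpr fun q hq => ?_, hψ⟩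
  letI : Algebra (MvPolynomial (Fin n) A) (MvPolynomial (Fin n) K) := MvPolynomial.algebraMvPolynomial
  obtain ⟨⟨r, s⟩, hrs⟩ := IsLocalization.surj ((nonZeroDivisors A).map (MvPolynomial.C (σ := Fin n))) q
  change q * polyFrac n (s : MvPolynomial (Fin n) A) = polyFrac n r at hrs
  have hr : r = 0 := IsFractionRing.injective (MvPolynomial (Fin n) A) (FractionRing (MvPolynomial (Fin n) A)) <| by
    rw [← hψ, ← hrs, map_mul, hq, zero_mul, map_zero]
  rw [hr, map_zero] at hrs
  refine (mul_eq_zero.mp hrs).resolve_right fun h0 => ?_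
  obtain ⟨c, hc, hs⟩ := s.2
  have : (s : MvPolynomial (Fin n) A) = 0 := polyFrac_injective n (h0.trans (map_zero _).symm)
  rw [← hs, MvPolynomial.C_eq_zero] at this
  exact nonZeroDivisors.ne_zero hc this

theorem existsUnique_detLaw_normal [IsIntegrallyClosed A] [Module.Finite A M] (d : ℕ)
    (hd : Module.finrank (FractionRing A) (FractionRing A ⊗[A] M) = d) :
    ∃! N : PolLaw.MulLaw A B A d, ∀ (n : ℕ) (x : MvPolynomial (Fin n) A ⊗[A] B),
      algebraMap (MvPolynomial (Fin n) A) (FractionRing (MvPolynomial (Fin n) A))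
          (TensorProduct.rid A (MvPolynomial (Fin n) A) (N.law.toFun' (MvPolynomial (Fin n) A) x)) =
        LinearMap.det (PolLaw.actEnd M (FractionRing (MvPolynomial (Fin n) A))
          (Algebra.TensorProduct.map
            (IsScalarTower.toAlgHom A (MvPolynomial (Fin n) A) (FractionRing (MvPolynomial (Fin n) A)))
            (AlgHom.id A B) x)) := by
  classical
  have hval : ∀ (n : ℕ) (z : MvPolynomial (Fin n) A ⊗[A] B), ∃ r,
      polyFrac n r = genDet (M := M) n z ∧
        algebraMap (MvPolynomial (Fin n) A) (FractionRing (MvPolynomial (Fin n) A)) r =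
          PolLaw.detAct M (FractionRing (MvPolynomial (Fin n) A)) (Algebra.TensorProduct.map
            (IsScalarTower.toAlgHom A (MvPolynomial (Fin n) A) (FractionRing (MvPolynomial (Fin n) A)))
            (AlgHom.id A B) z) := by
    intro n z
    haveI := isIntegrallyClosed_mvPolynomial (A := A) n
    obtain ⟨r, hr⟩ := exists_algebraMap_eq_detAct (R := MvPolynomial (Fin n) A)
      (L := FractionRing (MvPolynomial (Fin n) A)) (M := M) z
    obtain ⟨ψ, hψi, hψ⟩ := exists_fracLift (A := A) n
    obtain ⟨h1, h2, -⟩ := free_polyFrac (A := A) (M := M) n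
    refine ⟨r, hψi ?_, hr⟩
    rw [hψ, hr, genDet, ← detAct_map_free ψ]
    congr 1
    show rTA _ B z = rTA ψ B (rTA (polyFrac n) B z)
    rw [← rT_eq_rTA, ← rT_eq_rTA, ← rT_eq_rTA, rT_rT,
      show ψ.comp (polyFrac n) = IsScalarTower.toAlgHom A (MvPolynomial (Fin n) A)
        (FractionRing (MvPolynomial (Fin n) A)) from AlgHom.ext hψ]
  choose val hval1 hval2 using hval
  let T : ∀ n : ℕ, MvPolynomial (Fin n) A ⊗[A] B → MvPolynomial (Fin n) A ⊗[A] A := fun n z => val n z ⊗ₜ[A] 1
  have hnat : ∀ (k l : ℕ) (φ : MvPolynomial (Fin k) A →ₐ[A] MvPolynomial (Fin l) A) z,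
      φ (val k z) = val l (rTA φ B z) := by
    intro k l φ z
    let φK : MvPolynomial (Fin k) K →ₐ[A] MvPolynomial (Fin l) K :=
      (MvPolynomial.aeval (R := K) fun i => polyFrac l (φ (MvPolynomial.X i))).restrictScalars A
    have hφK : φK.comp (polyFrac k) = (polyFrac l).comp φ := MvPolynomial.algHom_ext fun i => by
      simp [φK, polyFrac]
    obtain ⟨h1, h2, -⟩ := free_polyFrac (A := A) (M := M) k
    refine polyFrac_injective l ?_
    rw [hval1, ← AlgHom.comp_apply, ← hφK, AlgHom.comp_apply, hval1, genDet, genDet, ← detAct_map_free φK]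
    congr 1
    show rTA φK B (rTA (polyFrac k) B z) = rTA (polyFrac l) B (rTA φ B z)
    rw [← rT_eq_rTA, ← rT_eq_rTA, ← rT_eq_rTA, ← rT_eq_rTA, rT_rT, rT_rT, hφK]
  have hT : ∀ (k l : ℕ) (φ : MvPolynomial (Fin k) A →ₐ[A] MvPolynomial (Fin l) A),
      φ.toLinearMap.rTensor A ∘ T k = T l ∘ φ.toLinearMap.rTensor B := fun k l φ => by
    funext z
    show rT φ A (val k z ⊗ₜ[A] 1) = val l (rT φ B z) ⊗ₜ[A] 1
    rw [rT_tmul, hnat, rT_eq_rTA]
  let F : B →ₚₗ[A] A := ofPoly T hT
  have hF : ∀ n z, F.toFun' (MvPolynomial (Fin n) A) z = val n z ⊗ₜ[A] 1 := fun n z => by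
    show (ofPoly T hT).toFun' _ z = _
    rw [ofPoly_poly]
  have hone : ∀ n, val n 1 = 1 := fun n => polyFrac_injective n (by
    rw [hval1, genDet, map_one, PolLaw.detAct_one, map_one])
  have hmul : ∀ n x y, val n (x * y) = val n x * val n y := fun n x y => polyFrac_injective n (by
    rw [hval1, genDet, map_mul, PolLaw.detAct_mul, map_mul, hval1, hval1, genDet, genDet])
  have hsmul : ∀ n (c : MvPolynomial (Fin n) A) x, val n (c • x) = c ^ d * val n x := fun n c x => by
    refine polyFrac_injective n ?_
    obtain ⟨h1, h2, h3⟩ := free_polyFrac (A := A) (M := M) n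
    have e : rTA (polyFrac n) B (c • x) = polyFrac n c • rTA (polyFrac n) B x := by
      clear hT F hF
      induction x using TensorProduct.induction_on with
      | zero => simp
      | tmul s b => simp [rTA, TensorProduct.smul_tmul']
      | add a b ha hb => simp [smul_add, ha, hb]
    rw [hval1, genDet, e, map_mul, map_pow, hval1, genDet, PolLaw.detAct, PolLaw.detAct, map_smul,
      LinearMap.det_smul, h3, hd]
  have hhom : PolLaw.IsHomog F d := by
    intro S _ _ s x
    obtain ⟨n, t, b, rfl⟩ := exists_eq_sum x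
    let ψ : MvPolynomial (Fin (n + 1)) A →ₐ[A] S := MvPolynomial.aeval (Fin.snoc t s)
    let z : MvPolynomial (Fin (n + 1)) A ⊗[A] B := ∑ i, MvPolynomial.X (Fin.castSucc i) ⊗ₜ b i
    have hz : rT ψ B z = ∑ i, t i ⊗ₜ[A] b i := by simp [ψ, z]
    have e : F.toFun' _ ((MvPolynomial.X (Fin.last n) : MvPolynomial (Fin (n + 1)) A) • z) =
        (MvPolynomial.X (Fin.last n) : MvPolynomial (Fin (n + 1)) A) ^ d • F.toFun' _ z := by
      rw [hF, hF, hsmul, TensorProduct.smul_tmul', smul_eq_mul]
    have rs : ∀ {P : Type u} [AddCommGroup P] [Module A P] (c : MvPolynomial (Fin (n + 1)) A)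
        (u : MvPolynomial (Fin (n + 1)) A ⊗[A] P), rT ψ P (c • u) = ψ c • rT ψ P u := by
      intro P _ _ c u
      induction u using TensorProduct.induction_on with
      | zero => simp
      | tmul q m => simp [TensorProduct.smul_tmul']
      | add a b ha hb => simp [smul_add, ha, hb]
    have e' := congrArg (rT ψ A) e
    rw [compat, rs, rs, compat, hz, map_pow, show ψ (MvPolynomial.X (Fin.last n)) = s by simp [ψ]] at e'
    exact e'
  have hmult : PolLaw.IsMult F := fun S _ _ => mult_of_poly F
    (fun n => by rw [hF, hone]; rfl)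
    (fun n x y => by rw [hF, hF, hF, hmul, Algebra.TensorProduct.tmul_mul_tmul, one_mul]) S
  refine ⟨⟨F, hhom, hmult⟩, fun n x => ?_, fun N' hN' => ?_⟩
  · show algebraMap _ _ (TensorProduct.rid A _ (F.toFun' _ x)) = _
    rw [hF, TensorProduct.rid_tmul, one_smul]
    exact hval2 n x
  · refine PolLaw.MulLaw.ext (law_ext fun n x => ?_)
    show N'.law.toFun' _ x = F.toFun' _ x
    apply (TensorProduct.rid A (MvPolynomial (Fin n) A)).injective
    rw [hF, TensorProduct.rid_tmul, one_smul]
    exact IsFractionRing.injective (MvPolynomial (Fin n) A) (FractionRing (MvPolynomial (Fin n) A))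
      ((hN' n x).trans (hval2 n x).symm)

end Law

end Groth.Agent.PolLaw95
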