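import Groth.Agent.Alg99.DetLaw
import Mathlib.RingTheory.Spectrum.Prime.FreeLocus

/-!
The determinant law of a module that is finite projective of constant rank.
-/

set_option linter.unusedSectionVars false
set_option autoImplicit false

universe u

open scoped TensorProduct

namespace Groth.Agent.PolLaw95

open Groth.Agent.Alg99

variable {A B M : Type u} [CommRing A] [CommRing B] [Algebra A B] [AddCommGroup M] [Module A M] [Module B M]
  [IsScalarTower A B M] [Module.Finite A M] [Module.Projective A M]

theorem existsUnique_detLaw (d : ℕ) (hd : ∀ p : PrimeSpectrum A, Module.rankAtStalk M p = d) :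
    ∃! N : PolLaw.MulLaw A B A d, ∀ (S : Type u) [CommRing S] [IsLocalRing S] [Algebra A S] (x : S ⊗[A] B),
      N.law.toFun' S x = PolLaw.detAct M S x ⊗ₜ[A] (1 : A) := by
  obtain ⟨n, p, i, -, -, hpi⟩ := Module.Finite.exists_comp_eq_id_of_projective A M
  have hfree : ∀ (S : Type u) [CommRing S] [IsLocalRing S] [Algebra A S],
      Module.Free S (S ⊗[A] M) ∧ Module.finrank S (S ⊗[A] M) = d := by
    intro S _ _ _
    haveI : Module.Free S (S ⊗[A] M) := Module.free_of_flat_of_isLocalRing
    refine ⟨inferInstance, ?_⟩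
    have := congrFun (Module.rankAtStalk_eq_finrank_of_free (R := S) (M := S ⊗[A] M)) (IsLocalRing.closedPoint S)
    rw [Module.rankAtStalk_baseChange, hd] at this
    exact this.symm
  have hlocal : ∀ (S : Type u) [CommRing S] [IsLocalRing S] [Algebra A S] (x : S ⊗[A] B),
      DetLaw.D p i S x = PolLaw.detAct M S x := by
    intro S _ _ _ x
    haveI := (hfree S).1
    exact DetLaw.D_eq hpi S x
  have hsmul : ∀ (R : Type u) [CommRing R] [Algebra A R] (r : R) (x : R ⊗[A] B),
      DetLaw.D p i R (r • x) = r ^ d * DetLaw.D p i R x := by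
    intro R _ _ r x
    refine sub_eq_zero.mp (eq_zero_of_localization _ fun m hm => ?_)
    let L := Localization.AtPrime m
    let ψ : R →ₐ[A] L := IsScalarTower.toAlgHom A R L
    show ψ _ = 0
    rw [map_sub, map_mul, map_pow, ← DetLaw.D_map, ← DetLaw.D_map, sub_eq_zero]
    have e : Algebra.TensorProduct.map ψ (AlgHom.id A B) (r • x) =
        ψ r • Algebra.TensorProduct.map ψ (AlgHom.id A B) x := by
      clear hfree hlocal
      induction x using TensorProduct.induction_on with
      | zero => simp
      | tmul s b => simp [TensorProduct.smul_tmul']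
      | add a b ha hb => simp [smul_add, ha, hb]
    rw [e, hlocal, hlocal, PolLaw.detAct, PolLaw.detAct, map_smul]
    haveI := (hfree L).1
    rw [LinearMap.det_smul, (hfree L).2]
  have hhom : PolLaw.IsHomog (DetLaw.law (B := B) p i) d := by
    intro S _ _ s x
    have e : PolLaw.toRing A B S (s • x) = ((1 : A) ⊗ₜ[A] s) • PolLaw.toRing A B S x := by
      clear hfree hlocal hsmul
      induction x using TensorProduct.induction_on with
      | zero => simp
      | tmul t b => simp [TensorProduct.smul_tmul', Algebra.TensorProduct.map_tmul,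
          Algebra.TensorProduct.tmul_mul_tmul, Algebra.TensorProduct.lid_symm_apply]
      | add a b ha hb => simp [smul_add, ha, hb]
    show Algebra.TensorProduct.lid A S (DetLaw.D p i (A ⊗[A] S) (PolLaw.toRing A B S (s • x))) ⊗ₜ[A] (1 : A) =
      s ^ d • (Algebra.TensorProduct.lid A S (DetLaw.D p i (A ⊗[A] S) (PolLaw.toRing A B S x)) ⊗ₜ[A] (1 : A))
    rw [e, hsmul, map_mul, map_pow, TensorProduct.smul_tmul', smul_eq_mul]
    simp
  refine ⟨⟨DetLaw.law p i, hhom, DetLaw.law_isMult hpi⟩, fun S _ _ _ x => ?_, fun N' hN' => ?_⟩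
  · show (DetLaw.law p i).toFun' S x = _
    rw [DetLaw.law_apply, hlocal]
  · refine PolLaw.MulLaw.ext (DetLaw.unique _ _ fun S _ _ _ x => ?_)
    rw [hN' S x]
    show _ = (DetLaw.law p i).toFun' S x
    rw [DetLaw.law_apply, hlocal]

end Groth.Agent.PolLaw95
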