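import Groth.Prelude.Def_SymTen
import Mathlib.Algebra.Colimit.Module
import Mathlib.LinearAlgebra.PiTensorProduct
import Mathlib.Data.Fintype.Order

/-! Tensor powers and symmetric tensors commute with directed colimits of algebras. -/

set_option autoImplicit false
universe u
open scoped TensorProduct
open SymTen

namespace Groth.Agent.PolLaw95

variable {A : Type u} [CommRing A] {B : Type u} [CommRing B] [Algebra A B]
  {C : Type u} [CommRing C] [Algebra A C] {D : Type u} [CommRing D] [Algebra A D] {d : ℕ}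

theorem tmap_comp_apply' (g : C →ₐ[A] D) (f : B →ₐ[A] C) (y : ⨂[A] _ : Fin d, B) :
    tmap A d g (tmap A d f y) = tmap A d (g.comp f) y := by
  induction y using PiTensorProduct.induction_on with
  | smul_tprod r x => simp
  | add a b ha hb => simp [ha, hb]

theorem tmap_id_apply' (y : ⨂[A] _ : Fin d, B) : tmap A d (AlgHom.id A B) y = y := by
  induction y using PiTensorProduct.induction_on with
  | smul_tprod r x => simp
  | add a b ha hb => simp [ha, hb]

section

variable {ι : Type u} [Preorder ι] [IsDirected ι (fun i j => i ≤ j)] [Nonempty ι]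
    (Bi : ι → Type u) [∀ i, CommRing (Bi i)] [∀ i, Algebra A (Bi i)]
    (t : ∀ i j : ι, i ≤ j → (Bi i →ₐ[A] Bi j)) (φ : ∀ i : ι, Bi i →ₐ[A] B)
    (hcomp : ∀ (i j : ι) (h : i ≤ j), (φ j).comp (t i j h) = φ i)
    (hsurj : ∀ b : B, ∃ (i : ι) (x : Bi i), φ i x = b)
    (hzero : ∀ (i : ι) (x : Bi i), φ i x = 0 → ∃ (j : ι) (h : i ≤ j), t i j h x = 0)
    (hid : ∀ (i : ι) (h : i ≤ i), t i i h = AlgHom.id A (Bi i))
    (htrans : ∀ (i j k : ι) (hij : i ≤ j) (hjk : j ≤ k), (t j k hjk).comp (t i j hij) = t i k (hij.trans hjk))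

include hcomp hsurj in
/-- A tuple of elements lifts to a single stage above any given one. -/
theorem exists_tuple_lift {n : Type} [Finite n] (b : n → B) (i₀ : ι) :
    ∃ (k : ι) (_ : i₀ ≤ k) (x : n → Bi k), ∀ p, φ k (x p) = b p := by
  choose ix xx hx using fun p => hsurj (b p)
  obtain ⟨k₀, hk₀⟩ := Finite.exists_le ix
  obtain ⟨k, hk₁, hk₂⟩ := directed_of (fun i j : ι => i ≤ j) i₀ k₀
  refine ⟨k, hk₁, fun p => t (ix p) k ((hk₀ p).trans hk₂) (xx p), fun p => ?_⟩
  have := DFunLike.congr_fun (hcomp _ _ ((hk₀ p).trans hk₂)) (xx p)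
  exact this.trans (hx p)

include hzero htrans in
/-- Two tuples at one stage with the same image agree at some later stage. -/
theorem exists_tuple_eq {n : Type} [Finite n] {i : ι} (x y : n → Bi i)
    (h : ∀ p, φ i (x p) = φ i (y p)) :
    ∃ (k : ι) (hk : i ≤ k), ∀ p, t i k hk (x p) = t i k hk (y p) := by
  have h0 : ∀ p, ∃ (j : ι) (hj : i ≤ j), t i j hj (x p - y p) = 0 := fun p =>
    hzero i (x p - y p) (by rw [map_sub, h p, sub_self])
  choose j hij hj using h0
  obtain ⟨k₀, hk₀⟩ := Finite.exists_le j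
  obtain ⟨k, hk₁, hk₂⟩ := directed_of (fun i j : ι => i ≤ j) i k₀
  refine ⟨k, hk₁, fun p => sub_eq_zero.mp ?_⟩
  have := congrArg (t (j p) k ((hk₀ p).trans hk₂)) (hj p)
  rw [map_zero, ← AlgHom.comp_apply, htrans] at this
  rw [← map_sub]
  exact this

include hcomp hsurj in
/-- Every tensor comes from some stage. -/
theorem exists_tmap_eq (z : ⨂[A] _ : Fin d, B) :
    ∃ (i : ι) (y : ⨂[A] _ : Fin d, Bi i), tmap A d (φ i) y = z := by
  induction z using PiTensorProduct.induction_on with
  | smul_tprod r b =>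
      obtain ⟨k, -, x, hx⟩ := exists_tuple_lift Bi t φ hcomp hsurj b (Classical.arbitrary ι)
      refine ⟨k, r • PiTensorProduct.tprod A x, ?_⟩
      simp [hx]
  | add a b ha hb =>
      obtain ⟨i, y, rfl⟩ := ha
      obtain ⟨j, w, rfl⟩ := hb
      obtain ⟨k, hik, hjk⟩ := directed_of (fun i j : ι => i ≤ j) i j
      refine ⟨k, tmap A d (t i k hik) y + tmap A d (t j k hjk) w, ?_⟩
      rw [map_add, tmap_comp_apply', tmap_comp_apply', hcomp, hcomp]

include hcomp hsurj hzero hid htrans in
/-- A tensor vanishing in the limit vanishes at some stage. -/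
theorem exists_tmap_eq_zero {i : ι} {y : ⨂[A] _ : Fin d, Bi i} (hy : tmap A d (φ i) y = 0) :
    ∃ (j : ι) (h : i ≤ j), tmap A d (t i j h) y = 0 := by
  classical
  let G : ι → Type u := fun i => ⨂[A] _ : Fin d, Bi i
  let f : ∀ i j : ι, i ≤ j → G i →ₗ[A] G j := fun i j h => (tmap A d (t i j h)).toLinearMap
  haveI : DirectedSystem G fun i j h => f i j h :=
    ⟨fun i x => by
      show tmap A d (t i i le_rfl) x = x
      rw [hid, tmap_id_apply'],
     fun i j k hij hjk x => by
      show tmap A d (t _ _ hjk) (tmap A d (t _ _ hij) x) = tmap A d (t _ _ (hij.trans hjk)) x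
      rw [tmap_comp_apply', htrans]⟩
  let L := Module.DirectLimit G f
  let ev : ∀ i, (Fin d → Bi i) → L := fun i x =>
    Module.DirectLimit.of A ι G f i (PiTensorProduct.tprod A x)
  have ev_t : ∀ i j (h : i ≤ j) (x : Fin d → Bi i), ev j (fun p => t i j h (x p)) = ev i x := by
    intro i j h x
    show Module.DirectLimit.of A ι G f j _ = Module.DirectLimit.of A ι G f i _
    refine Eq.trans ?_ (Module.DirectLimit.of_f (R := A) (G := G) (f := f) (hij := h) (x := PiTensorProduct.tprod A x))
    congr 1
    exact (tmap_tprod A d (t i j h) x).symm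
  have ev_eq : ∀ i j (x : Fin d → Bi i) (y : Fin d → Bi j),
      (∀ p, φ i (x p) = φ j (y p)) → ev i x = ev j y := by
    intro i j x y h
    obtain ⟨k, hik, hjk⟩ := directed_of (fun i j : ι => i ≤ j) i j
    obtain ⟨l, hkl, hl⟩ := exists_tuple_eq Bi t φ hzero htrans
      (fun p => t i k hik (x p)) (fun p => t j k hjk (y p)) (fun p => by
        rw [← AlgHom.comp_apply, hcomp, ← AlgHom.comp_apply, hcomp, h p])
    rw [← ev_t i k hik x, ← ev_t j k hjk y, ← ev_t k l hkl, ← ev_t k l hkl]
    exact congrArg (ev l) (funext hl)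
  choose ki hki xi hxi using fun b : Fin d → B =>
    exists_tuple_lift Bi t φ hcomp hsurj b (Classical.arbitrary ι)
  let F : (Fin d → B) → L := fun b => ev (ki b) (xi b)
  have hF : ∀ j (w : Fin d → Bi j) (b : Fin d → B), (∀ p, φ j (w p) = b p) → F b = ev j w :=
    fun j w b h => ev_eq _ _ _ _ fun p => (hxi b p).trans (h p).symm
  let Φ : MultilinearMap A (fun _ : Fin d => B) L :=
    { toFun := F
      map_update_add' := by
        intro hde m p u v
        obtain ⟨k, -, x, hx⟩ := exists_tuple_lift Bi t φ hcomp hsurj m (Classical.arbitrary ι)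
        obtain ⟨l, hkl, w, hw⟩ := exists_tuple_lift Bi t φ hcomp hsurj ![u, v] k
        let x' : Fin d → Bi l := fun q => t k l hkl (x q)
        have hx' : ∀ q, φ l (x' q) = m q := fun q => by
          rw [← hx q, ← AlgHom.comp_apply, hcomp]
        have key : ∀ (a : B) (a' : Bi l), φ l a' = a →
            F (Function.update m p a) = ev l (Function.update x' p a') := by
          intro a a' ha
          refine hF l _ _ fun q => ?_
          rcases eq_or_ne q p with rfl | hq
          · simpa using ha
          · simpa [hq] using hx' q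
        rw [key u (w 0) (hw 0), key v (w 1) (hw 1),
          key (u + v) (w 0 + w 1) (by rw [map_add, hw 0, hw 1]; rfl)]
        show Module.DirectLimit.of A ι G f l _ = Module.DirectLimit.of A ι G f l _ +
          Module.DirectLimit.of A ι G f l _
        rw [← map_add]
        congr 1
        exact (PiTensorProduct.tprod A).map_update_add x' p (w 0) (w 1)
      map_update_smul' := by
        intro hde m p c u
        obtain ⟨k, -, x, hx⟩ := exists_tuple_lift Bi t φ hcomp hsurj m (Classical.arbitrary ι)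
        obtain ⟨l, hkl, w, hw⟩ := exists_tuple_lift Bi t φ hcomp hsurj ![u] k
        let x' : Fin d → Bi l := fun q => t k l hkl (x q)
        have hx' : ∀ q, φ l (x' q) = m q := fun q => by
          rw [← hx q, ← AlgHom.comp_apply, hcomp]
        have key : ∀ (a : B) (a' : Bi l), φ l a' = a →
            F (Function.update m p a) = ev l (Function.update x' p a') := by
          intro a a' ha
          refine hF l _ _ fun q => ?_
          rcases eq_or_ne q p with rfl | hq
          · simpa using ha
          · simpa [hq] using hx' q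
        rw [key u (w 0) (hw 0), key (c • u) (c • w 0) (by rw [map_smul, hw 0]; rfl)]
        show Module.DirectLimit.of A ι G f l _ = c • Module.DirectLimit.of A ι G f l _
        rw [← map_smul]
        congr 1
        exact (PiTensorProduct.tprod A).map_update_smul x' p c (w 0) }
  have hΨ : ∀ w : G i, PiTensorProduct.lift Φ (tmap A d (φ i) w) =
      Module.DirectLimit.of A ι G f i w := by
    intro w
    induction w using PiTensorProduct.induction_on with
    | smul_tprod r x =>
        rw [map_smul, map_smul, tmap_tprod, PiTensorProduct.lift.tprod, map_smul]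
        exact congrArg (r • ·) (hF i x _ fun p => rfl)
    | add a b ha hb => simp only [map_add, ha, hb]
  have h0 : Module.DirectLimit.of A ι G f i y = 0 := by rw [← hΨ, hy, map_zero]
  obtain ⟨j, hij, hj⟩ := Module.DirectLimit.of.zero_exact h0
  exact ⟨j, hij, hj⟩

include hcomp hsurj hzero hid htrans in
/-- Symmetric tensors commute with directed colimits. -/
theorem symTen_TS_isDirectLimit :
    (∀ z : SymTen.TS A B d, ∃ (i : ι) (y : SymTen.TS A (Bi i) d), SymTen.TSmap A d (φ i) y = z) ∧
      ∀ (i : ι) (y : SymTen.TS A (Bi i) d), SymTen.TSmap A d (φ i) y = 0 →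
        ∃ (j : ι) (h : i ≤ j), SymTen.TSmap A d (t i j h) y = 0 := by
  refine ⟨fun z => ?_, fun i y hy => ?_⟩
  · obtain ⟨i, y, hy⟩ := exists_tmap_eq Bi t φ hcomp hsurj (z : ⨂[A] _ : Fin d, B)
    have hz : ∀ σ : Equiv.Perm (Fin d), ∃ (j : ι) (h : i ≤ j),
        tmap A d (t i j h) (PiTensorProduct.reindex A (fun _ : Fin d => Bi i) σ y - y) = 0 := by
      intro σ
      refine exists_tmap_eq_zero Bi t φ hcomp hsurj hzero hid htrans ?_
      rw [map_sub, tmap_reindex, hy, z.2 σ, sub_self]
    choose j hij hj using hz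
    obtain ⟨k₀, hk₀⟩ := Finite.exists_le j
    obtain ⟨k, hk₁, hk₂⟩ := directed_of (fun i j : ι => i ≤ j) i k₀
    refine ⟨k, ⟨tmap A d (t i k hk₁) y, fun σ => ?_⟩, Subtype.ext ?_⟩
    · rw [← tmap_reindex, ← sub_eq_zero, ← map_sub]
      have := congrArg (tmap A d (t (j σ) k ((hk₀ σ).trans hk₂))) (hj σ)
      rwa [map_zero, tmap_comp_apply', htrans] at this
    · show tmap A d (φ k) (tmap A d (t i k hk₁) y) = z
      rw [tmap_comp_apply', hcomp, hy]
  · obtain ⟨j, hij, hj⟩ := exists_tmap_eq_zero Bi t φ hcomp hsurj hzero hid htrans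
      (congrArg Subtype.val hy : tmap A d (φ i) (y : ⨂[A] _ : Fin d, Bi i) = 0)
    exact ⟨j, hij, Subtype.ext hj⟩

end

end Groth.Agent.PolLaw95
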