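import Groth.Agent.PolLaw95.ChiBase
import Mathlib.Algebra.Ring.GeomSum
import Mathlib.RingTheory.Ideal.GoingUp
import Mathlib.RingTheory.IntegralClosure.Algebra.Basic
import Mathlib.RingTheory.Nilpotent.Lemmas
import Mathlib.RingTheory.LocalRing.ResidueField.Ideal
import Mathlib.RingTheory.Spectrum.Prime.Topology
import Mathlib.LinearAlgebra.TensorProduct.RightExactness
import Mathlib.RingTheory.Ideal.Quotient.Operations
import Mathlib.Algebra.MvPolynomial.Funext
import Mathlib.Algebra.MvPolynomial.CommRing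

/-!
Fibres of the image of a multiplicative law: finiteness, openness, generalizations.
-/

set_option linter.unusedSectionVars false

universe u

open scoped TensorProduct

namespace Groth.Agent.PolLaw95

variable {A B : Type u} [CommRing A] [CommRing B] [Algebra A B] {d : ℕ} (F : PolLaw.MulLaw A B A d)

/-- The projection to the base change of the image. -/
noncomputable def mkI (R : Type u) [CommRing R] [Algebra A R] : R ⊗[A] B →ₐ[A] R ⊗[A] PolLaw.image F.law :=
  Algebra.TensorProduct.map (AlgHom.id A R) (Ideal.Quotient.mkₐ A (PolLaw.ker F.law))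

theorem mkI_surjective (R : Type u) [CommRing R] [Algebra A R] : Function.Surjective (mkI F R) := fun y => by
  induction y using TensorProduct.induction_on with
  | zero => exact ⟨0, map_zero _⟩
  | tmul r b =>
    obtain ⟨b', rfl⟩ := Ideal.Quotient.mk_surjective b
    exact ⟨r ⊗ₜ b', rfl⟩
  | add x y hx hy =>
    obtain ⟨a, rfl⟩ := hx
    obtain ⟨b, rfl⟩ := hy
    exact ⟨a + b, map_add _ _ _⟩

theorem ker_mkI (R : Type u) [CommRing R] [Algebra A R] :
    RingHom.ker (mkI F R) = (PolLaw.ker F.law).map (Algebra.TensorProduct.includeRight : B →ₐ[A] R ⊗[A] B) := by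
  rw [mkI, Algebra.TensorProduct.lTensor_ker _ (Ideal.Quotient.mkₐ_surjective A _)]
  congr 1
  exact Ideal.Quotient.mkₐ_ker A _

theorem mkI_rTA {R R' : Type u} [CommRing R] [Algebra A R] [CommRing R'] [Algebra A R'] (ψ : R →ₐ[A] R')
    (z : R ⊗[A] B) : mkI F R' (rTA ψ B z) = rTA ψ (PolLaw.image F.law) (mkI F R z) := by
  induction z using TensorProduct.induction_on with
  | zero => simp
  | tmul r b => rfl
  | add x y hx hy => simp [hx, hy]

theorem chiBC_monic {R : Type u} [CommRing R] [Algebra A R] [Nontrivial R] (x : R ⊗[A] B) :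
    ∃ q : Polynomial R, q.Monic ∧ q.natDegree = d ∧ chiBC F x = Polynomial.C ((-1) ^ d) * q := by
  classical
  obtain ⟨n, s, b, rfl⟩ := exists_eq_sum x
  let bv : Fin (n + 1) → B := Fin.snoc b 1
  let w : Fin (n + 1) → Polynomial R := Fin.snoc (fun k => Polynomial.C (s k)) (-Polynomial.X)
  have e1 : rTA (cR A R) B (∑ j, s j ⊗ₜ[A] b j) - (Polynomial.X : Polynomial R) • 1 = ∑ j, w j ⊗ₜ[A] bv j := by
    rw [Fin.sum_univ_castSucc]
    simp [w, bv, rTA, cR, TensorProduct.neg_tmul, Algebra.TensorProduct.one_def, TensorProduct.smul_tmul',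
      sub_eq_add_neg]
  set α : Fin (n + 1) →₀ ℕ := Finsupp.single (Fin.last n) d
  have hα : coef F.law bv α = 1 := by
    have h := coef_mapDomain F.law (fun _ : Fin 1 => Fin.last n) (fun _ _ _ => Subsingleton.elim _ _) bv
      (Finsupp.single 0 d)
    rw [Finsupp.mapDomain_single] at h
    refine h.trans ?_
    have h2 : uni A (bv ∘ fun _ : Fin 1 => Fin.last n) = (MvPolynomial.X 0 : MvPolynomial (Fin 1) A) • 1 := by
      simp [uni, bv, Algebra.TensorProduct.one_def, TensorProduct.smul_tmul']
    rw [coef, h2, F.homog, (F.mult _).1, Algebra.TensorProduct.one_def, TensorProduct.smul_tmul', coefL_tmul,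
      smul_eq_mul, mul_one, MvPolynomial.X_pow_eq_monomial]
    simp [smul_eq_mul, MvPolynomial.coeff_monomial]
  set supp := (coefL (F.law.toFun' (MvPolynomial (Fin (n + 1)) A) (uni A bv))).support
  have hmain : chiBC F (∑ j, s j ⊗ₜ[A] b j) =
      ∑ β ∈ supp, coef F.law bv β • ∏ j, w j ^ β j := by
    rw [chiBC, e1, toFun'_sum, map_sum]
    refine Finset.sum_congr rfl fun β _ => ?_
    rw [TensorProduct.rid_tmul, Finsupp.prod_fintype _ _ (by simp)]
  rw [hmain]
  have hterm : ∏ j, w j ^ α j = Polynomial.C ((-1 : R) ^ d) * Polynomial.X ^ d := by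
    rw [Finset.prod_eq_single (Fin.last n)]
    · simp [α, w, neg_pow (Polynomial.X : Polynomial R)]
    · intro j _ hj; simp [α, Ne.symm hj]
    · simp
  set rest := ∑ β ∈ supp.erase α, coef F.law bv β • ∏ j, w j ^ β j
  have hsum : ∑ β ∈ supp, coef F.law bv β • ∏ j, w j ^ β j = Polynomial.C ((-1 : R) ^ d) * Polynomial.X ^ d + rest := by
    by_cases hmem : α ∈ supp
    · rw [← Finset.add_sum_erase _ _ hmem, hα, hterm, one_smul]
    · have h0 : (1 : A) = 0 := hα ▸ Finsupp.notMem_support_iff.mp hmem
      exact absurd (by simpa using congrArg (algebraMap A R) h0) (one_ne_zero (α := R))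
  have hrest : rest.degree < (d : ℕ) := by
    rw [Polynomial.degree_lt_iff_coeff_zero]
    intro m hm
    rw [Polynomial.finsetSum_coeff]
    refine Finset.sum_eq_zero fun β hβ => ?_
    obtain ⟨hne, hβs⟩ := Finset.mem_erase.mp hβ
    have hd := degree_eq_of_coef_ne_zero F bv β (Finsupp.mem_support_iff.mp hβs)
    rw [Finsupp.sum_fintype _ _ (by simp), Fin.sum_univ_castSucc] at hd
    have hlt : β (Fin.last n) < d := by
      refine lt_of_le_of_ne (by omega) fun h => hne (Finsupp.ext fun i => ?_)
      cases i using Fin.lastCases with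
      | last => simpa [α] using h
      | cast i =>
        have h0 : ∑ k : Fin n, β k.castSucc = 0 := by omega
        simpa [α, (Fin.castSucc_lt_last i).ne] using Finset.sum_eq_zero_iff.mp h0 i (Finset.mem_univ i)
    rw [Fin.prod_univ_castSucc]
    simp only [w, Fin.snoc_castSucc, Fin.snoc_last, ← Polynomial.C_pow, ← map_prod, neg_pow (Polynomial.X : Polynomial R)]
    rw [show ((-1 : Polynomial R)) = Polynomial.C (-1 : R) by simp, ← Polynomial.C_pow, ← mul_assoc, ← Polynomial.C_mul,
      Polynomial.coeff_smul, Polynomial.coeff_C_mul_X_pow, if_neg (by omega), smul_zero]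
  have hC : (Polynomial.C ((-1 : R) ^ d) * rest).degree ≤ rest.degree := by
    rw [← Polynomial.smul_eq_C_mul]; exact Polynomial.degree_smul_le _ _
  refine ⟨Polynomial.X ^ d + Polynomial.C ((-1 : R) ^ d) * rest,
    Polynomial.monic_X_pow_add (hC.trans_lt hrest), ?_, ?_⟩
  · have : (Polynomial.C ((-1 : R) ^ d) * rest).degree < (Polynomial.X ^ d : Polynomial R).degree := by
      rw [Polynomial.degree_X_pow]; exact hC.trans_lt hrest
    exact Polynomial.natDegree_eq_of_degree_eq_some (by rw [Polynomial.degree_add_eq_left_of_degree_lt this, Polynomial.degree_X_pow])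
  · rw [hsum, mul_add, ← mul_assoc, ← Polynomial.C_mul, ← mul_pow, neg_one_mul, neg_neg, one_pow, Polynomial.C_1, one_mul]

theorem isNilpotent_aeval_chiBC {R : Type u} [CommRing R] [Algebra A R] (z : R ⊗[A] B) :
    IsNilpotent (Polynomial.aevalTower (Algebra.TensorProduct.includeLeft : R →ₐ[A] R ⊗[A] PolLaw.image F.law)
      (mkI F R z) (chiBC F z)) := by
  have h1 : mkI F R (chiEval F z) = Polynomial.aevalTower
      (Algebra.TensorProduct.includeLeft : R →ₐ[A] R ⊗[A] PolLaw.image F.law) (mkI F R z) (chiBC F z) := by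
    rw [chiEval]
    generalize chiBC F z = p
    induction p using Polynomial.induction_on' with
    | add p q hp hq => simp only [map_add, hp, hq]
    | monomial k r =>
      simp [← Polynomial.C_mul_X_pow_eq_monomial, mkI]
  have h2 : chiEval F z ∈ (PolLaw.kerBC F.law R).radical := Ideal.le_radical (chiEval_mem_kerBC F z)
  rw [radical_kerBC, ← ker_mkI] at h2
  obtain ⟨m, hm⟩ := h2
  exact ⟨m, by rw [← h1, ← map_pow]; exact RingHom.mem_ker.mp hm⟩

theorem eval₂_chiBC_eq_zero {R : Type u} [CommRing R] [Algebra A R] (z : R ⊗[A] B) {D : Type*} [CommRing D]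
    [IsReduced D] (φ : R ⊗[A] PolLaw.image F.law →+* D) :
    (chiBC F z).eval₂ (φ.comp (Algebra.TensorProduct.includeLeft : R →ₐ[A] R ⊗[A] PolLaw.image F.law).toRingHom)
      (φ (mkI F R z)) = 0 := by
  rw [← ((isNilpotent_aeval_chiBC F z).map φ).eq_zero]
  generalize chiBC F z = p
  induction p using Polynomial.induction_on' with
  | add p q hp hq => simp only [map_add, Polynomial.eval₂_add, hp, hq]
  | monomial k r => simp [← Polynomial.C_mul_X_pow_eq_monomial]

theorem isIntegral_tensor_image (K : Type u) [CommRing K] [Algebra A K] :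
    Algebra.IsIntegral K (K ⊗[A] PolLaw.image F.law) :=
  have := isIntegral_image F
  inferInstance

theorem card_le_of_injective (K : Type u) [Field K] [Algebra A K]
    (P : Fin (d + 1) → Ideal (K ⊗[A] PolLaw.image F.law)) (hP : ∀ i, (P i).IsPrime) (hinj : Function.Injective P) :
    False := by
  classical
  have := isIntegral_tensor_image F K
  have hmax : ∀ i, (P i).IsMaximal := fun i =>
    Ideal.isMaximal_of_isIntegral_of_isMaximal_comap (R := K) _ <| by
      have := hP i
      have h : ((P i).comap (algebraMap K (K ⊗[A] PolLaw.image F.law))).IsPrime := Ideal.IsPrime.comap _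
      exact IsSimpleOrder.eq_bot_or_eq_top (α := Ideal K) _ |>.resolve_right h.ne_top ▸ Ideal.bot_isMaximal
  have hco : Pairwise fun i j => IsCoprime (P i) (P j) := fun i j hij =>
    Ideal.isCoprime_iff_sup_eq.mpr ((hmax i).coprime_of_ne (hmax j) fun h => hij (hinj h))
  have hsurj := Ideal.pi_mkQ_surjective (R := K ⊗[A] PolLaw.image F.law) hco
  choose e he using fun j : Fin (d + 1) => hsurj fun i => if i = j then 1 else 0
  choose e' he' using fun j => mkI_surjective F K (e j)
  let R := MvPolynomial (Fin (d + 1)) K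
  let inc : K →ₐ[A] R := IsScalarTower.toAlgHom A K R
  let z : R ⊗[A] B := ∑ j, (MvPolynomial.X j : R) • rTA inc B (e' j)
  obtain ⟨q, hq, hqd, hchi⟩ := chiBC_monic F z
  have hroot : ∀ i, q.eval (MvPolynomial.X i) = 0 := by
    intro i
    have := hP i
    let Di := (K ⊗[A] PolLaw.image F.law) ⧸ P i
    let _ : CommRing Di := Ideal.Quotient.commRing _
    have : IsDomain Di := Ideal.Quotient.isDomain _
    let μ : K ⊗[A] PolLaw.image F.law →ₐ[A] Di := Ideal.Quotient.mkₐ A (P i)
    let κ : K →ₐ[A] Di := μ.comp Algebra.TensorProduct.includeLeft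
    let left : R →ₐ[A] MvPolynomial (Fin (d + 1)) Di := MvPolynomial.mapAlgHom κ
    let right : PolLaw.image F.law →ₐ[A] MvPolynomial (Fin (d + 1)) Di :=
      (IsScalarTower.toAlgHom A Di (MvPolynomial (Fin (d + 1)) Di)).comp (μ.comp Algebra.TensorProduct.includeRight)
    let φ : R ⊗[A] PolLaw.image F.law →ₐ[A] MvPolynomial (Fin (d + 1)) Di :=
      Algebra.TensorProduct.lift left right fun _ _ => Commute.all _ _
    have hφ : ∀ x : K ⊗[A] PolLaw.image F.law, φ (rTA inc _ x) = MvPolynomial.C (μ x) := by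
      intro x
      induction x using TensorProduct.induction_on with
      | zero => simp
      | add a b ha hb => simp only [map_add, ha, hb]
      | tmul k b =>
        simp only [φ, rTA, Algebra.TensorProduct.map_tmul, AlgHom.id_apply, Algebra.TensorProduct.lift_tmul, left,
          right, inc, κ, AlgHom.comp_apply, IsScalarTower.toAlgHom_apply, MvPolynomial.algebraMap_eq,
          MvPolynomial.mapAlgHom_apply, MvPolynomial.map_C]
        rw [show algebraMap K R k = MvPolynomial.C k from rfl, MvPolynomial.mapAlgHom_apply, MvPolynomial.map_C,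
          ← MvPolynomial.C_mul]
        congr 1
        change μ (k ⊗ₜ 1) * μ (1 ⊗ₜ b) = _
        rw [← map_mul]; simp
    have hz : φ.toRingHom (mkI F R z) = MvPolynomial.X i := by
      have : ∀ j, φ (mkI F R ((MvPolynomial.X j : R) • rTA inc B (e' j))) =
          if i = j then MvPolynomial.X j else 0 := by
        intro j
        rw [Algebra.smul_def, map_mul, map_mul, mkI_rTA, he', hφ]
        have hμ : μ (e j) = if i = j then 1 else 0 := congrFun (he j) i
        rw [hμ]
        split_ifs <;> simp [φ, left, mkI, Algebra.TensorProduct.algebraMap_apply, R]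
      change φ (mkI F R z) = _
      simp only [z, map_sum, this]
      simp
    have h0 := eval₂_chiBC_eq_zero F z (D := MvPolynomial (Fin (d + 1)) Di) φ.toRingHom
    rw [hz, hchi, Polynomial.eval₂_mul, Polynomial.eval₂_C] at h0
    have hu : IsUnit ((φ.toRingHom.comp (Algebra.TensorProduct.includeLeft : R →ₐ[A] R ⊗[A] PolLaw.image F.law).toRingHom)
        ((-1 : R) ^ d)) := (isUnit_one.neg.pow d).map _
    have h1 := hu.mul_right_eq_zero.mp h0
    have hcomp : φ.toRingHom.comp (Algebra.TensorProduct.includeLeft : R →ₐ[A] R ⊗[A] PolLaw.image F.law).toRingHom =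
        left.toRingHom := RingHom.ext fun x => by simp [φ]
    have hκ : Function.Injective κ := RingHom.injective κ.toRingHom
    apply MvPolynomial.map_injective κ.toRingHom hκ
    rw [map_zero]
    refine Eq.trans ?_ h1
    rw [hcomp, show MvPolynomial.X i = left.toRingHom (MvPolynomial.X i) from (MvPolynomial.map_X _ i).symm, Polynomial.eval₂_at_apply]
    rfl
  have hle : (Finset.univ.image fun i : Fin (d + 1) => (MvPolynomial.X i : R)).card ≤ q.natDegree :=
    Polynomial.card_le_degree_of_subset_roots fun x hx => by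
      obtain ⟨i, -, rfl⟩ := Finset.mem_image.mp (Finset.mem_val.mp hx)
      exact (Polynomial.mem_roots hq.ne_zero).mpr (hroot i)
  rw [Finset.card_image_of_injective _ MvPolynomial.X_injective, Finset.card_univ, Fintype.card_fin, hqd] at hle
  omega

theorem finite_primeSpectrum_tensor (K : Type u) [Field K] [Algebra A K] :
    Finite (PrimeSpectrum (K ⊗[A] PolLaw.image F.law)) ∧
      Nat.card (PrimeSpectrum (K ⊗[A] PolLaw.image F.law)) ≤ d := by
  have h : ∀ f : Fin (d + 1) → PrimeSpectrum (K ⊗[A] PolLaw.image F.law), ¬ Function.Injective f := fun f hf =>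
    card_le_of_injective F K (fun i => (f i).asIdeal) (fun i => (f i).isPrime) fun a b e => hf (PrimeSpectrum.ext e)
  have hfin : Finite (PrimeSpectrum (K ⊗[A] PolLaw.image F.law)) := by
    by_contra hinf
    rw [not_finite_iff_infinite] at hinf
    exact h _ ((Infinite.natEmbedding _).injective.comp Fin.val_injective)
  refine ⟨hfin, ?_⟩
  by_contra hlt
  push Not at hlt
  let e := Finite.equivFin (PrimeSpectrum (K ⊗[A] PolLaw.image F.law))
  exact h (fun i => e.symm (Fin.castLE hlt i)) (e.symm.injective.comp (Fin.castLE_injective hlt))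

theorem pow_eq_zero_of_eval₂ {S D : Type*} [CommRing S] [CommRing D] (f : S →+* D) (w : D) (p : Polynomial S) (k : ℕ)
    (h0 : p.eval₂ f w = 0) (h : (p - (-Polynomial.X) ^ k).eval₂ f w = 0) : (-w) ^ k = 0 := by
  rw [Polynomial.eval₂_sub, h0, zero_sub, neg_eq_zero, Polynomial.eval₂_pow, Polynomial.eval₂_neg,
    Polynomial.eval₂_X] at h
  exact h

section Open

variable {A' : Type u} [CommRing A'] [Algebra A A']

theorem chiBC_eq_of_isNilpotent {κ : Type u} [Field κ] [Algebra A κ] (z : κ ⊗[A] B) (h : IsNilpotent (mkI F κ z)) :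
    chiBC F z = (-Polynomial.X) ^ d := by
  obtain ⟨N, hN⟩ := h
  rw [← map_pow] at hN
  have hz : z ^ N ∈ PolLaw.kerBC F.law κ := map_ker_le_kerBC F.law κ (ker_mkI F κ ▸ RingHom.mem_ker.mpr hN)
  have hzN : ∀ (R : Type u) [CommRing R] [Algebra A R] (σ : κ →ₐ[A] R) (x w : R ⊗[A] B),
      F.law.toFun' R (x + w * rTA σ B (z ^ N)) = F.law.toFun' R x := fun R _ _ => (mem_kerBC_iff F.law _).mp hz R
  have hdvd : chiBC F z ∣ (-1 : Polynomial κ) ^ d * (Polynomial.X ^ N) ^ d := by
    set Y : Polynomial κ ⊗[A] B := rTA (cR A κ) B z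
    set X1 : Polynomial κ ⊗[A] B := (Polynomial.X : Polynomial κ) • 1
    have hg : (∑ i ∈ Finset.range N, Y ^ i * X1 ^ (N - 1 - i)) * (Y - X1) = Y ^ N - X1 ^ N := geom_sum₂_mul Y X1 N
    have hval : TensorProduct.rid A (Polynomial κ) (F.law.toFun' _ (Y ^ N - X1 ^ N)) =
        (-1 : Polynomial κ) ^ d * (Polynomial.X ^ N) ^ d := by
      have e : Y ^ N - X1 ^ N = (-(Polynomial.X ^ N) : Polynomial κ) • 1 + 1 * rTA (cR A κ) B (z ^ N) := by
        rw [map_pow]
        simp only [X1, Y, smul_pow, one_pow, one_mul]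
        refine sub_eq_iff_eq_add.mpr ?_
        rw [add_right_comm, ← add_smul, neg_add_cancel, zero_smul, zero_add]
      rw [e, hzN, F.homog, (F.mult _).1, Algebra.TensorProduct.one_def, TensorProduct.smul_tmul', TensorProduct.rid_tmul,
        one_smul, smul_eq_mul, mul_one, neg_pow]
    refine ⟨TensorProduct.rid A (Polynomial κ) (F.law.toFun' _ (∑ i ∈ Finset.range N, Y ^ i * X1 ^ (N - 1 - i))), ?_⟩
    rw [← hval, ← hg, (F.mult _).2, mul_comm (chiBC F z)]
    exact map_mul (Algebra.TensorProduct.rid A A (Polynomial κ)) _ _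
  obtain ⟨q, hq, hqd, hchi⟩ := chiBC_monic F z
  rw [hchi, ← pow_mul] at hdvd
  have hq2 : q ∣ Polynomial.X ^ (N * d) := by
    obtain ⟨c, hc⟩ := hdvd
    refine ⟨c, ?_⟩
    rw [Polynomial.C_pow, Polynomial.C_neg, Polynomial.C_1, mul_assoc] at hc
    exact mul_left_cancel₀ (pow_ne_zero _ (neg_ne_zero.mpr one_ne_zero)) hc
  obtain ⟨k, -, hk⟩ := (dvd_prime_pow Polynomial.prime_X _).mp hq2
  have hqk : q = Polynomial.X ^ k := Polynomial.eq_of_monic_of_associated hq (Polynomial.monic_X_pow k) hk
  have : k = d := by rw [← hqd, hqk, Polynomial.natDegree_X_pow]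
  rw [hchi, hqk, this, Polynomial.C_pow, Polynomial.C_neg, Polynomial.C_1, ← neg_pow]

theorem isOpenMap_comap_tensor_image :
    IsOpenMap (PrimeSpectrum.comap (algebraMap A' (A' ⊗[A] PolLaw.image F.law))) := by
  rw [PrimeSpectrum.isTopologicalBasis_basic_opens.isOpenMap_iff]
  rintro _ ⟨y, rfl⟩
  obtain ⟨z, rfl⟩ := mkI_surjective F A' y
  set g : Polynomial A' := chiBC F z - (-Polynomial.X) ^ d with hg
  suffices h : PrimeSpectrum.comap (algebraMap A' (A' ⊗[A] PolLaw.image F.law)) ''
      (PrimeSpectrum.basicOpen (mkI F A' z) : Set _) = ⋃ k, (PrimeSpectrum.basicOpen (g.coeff k) : Set _) by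
    rw [h]
    exact isOpen_iUnion fun k => (PrimeSpectrum.basicOpen _).isOpen
  ext p
  simp only [Set.mem_image, Set.mem_iUnion, SetLike.mem_coe, PrimeSpectrum.mem_basicOpen]
  constructor
  · rintro ⟨Q, hQ, rfl⟩
    by_contra hall
    push Not at hall
    let φ := Ideal.Quotient.mk Q.asIdeal
    have h0 := eval₂_chiBC_eq_zero F z (D := (A' ⊗[A] PolLaw.image F.law) ⧸ Q.asIdeal) φ
    set f := φ.comp (Algebra.TensorProduct.includeLeft : A' →ₐ[A] A' ⊗[A] PolLaw.image F.law).toRingHom
    have hf : ∀ k, f (g.coeff k) = 0 := fun k => Ideal.Quotient.eq_zero_iff_mem.mpr (hall k)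
    have hgz : g.eval₂ f (φ (mkI F A' z)) = 0 := by
      rw [Polynomial.eval₂_eq_sum, Polynomial.sum]
      exact Finset.sum_eq_zero fun k _ => by rw [hf, zero_mul]
    rw [hg] at hgz
    have h2 := pow_eq_zero_of_eval₂ (D := (A' ⊗[A] PolLaw.image F.law) ⧸ Q.asIdeal) f _ _ _ h0 hgz
    exact hQ (Ideal.Quotient.eq_zero_iff_mem.mp (neg_eq_zero.mp (eq_zero_of_pow_eq_zero h2)))
  · rintro ⟨k, hk⟩
    let κ := p.asIdeal.ResidueField
    let ι' : A' →ₐ[A] κ := IsScalarTower.toAlgHom A A' κ
    have hne : ¬ IsNilpotent (mkI F κ (rTA ι' B z)) := fun hnil => by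
      have h1 := chiBC_eq_of_isNilpotent F _ hnil
      rw [chiBC_rTA, ← sub_eq_zero] at h1
      have h2 := congrArg (fun q => Polynomial.coeff q k) h1
      have h3 : Polynomial.mapAlgHom ι' g = Polynomial.mapAlgHom ι' (chiBC F z) - (-Polynomial.X) ^ d := by
        simp [g]
      rw [← h3, Polynomial.coe_mapAlgHom, Polynomial.coeff_map, Polynomial.coeff_zero] at h2
      exact hk (Ideal.algebraMap_residueField_eq_zero.mp h2)
    obtain ⟨Q', hQ', hzQ⟩ : ∃ Q' : Ideal (κ ⊗[A] PolLaw.image F.law), Q'.IsPrime ∧ mkI F κ (rTA ι' B z) ∉ Q' := by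
      by_contra h
      push Not at h
      exact hne (nilpotent_iff_mem_prime.mpr fun P hP => h P hP)
    refine ⟨⟨Q'.comap (rTA ι' (PolLaw.image F.law)), Ideal.IsPrime.comap _⟩, ?_, PrimeSpectrum.ext ?_⟩
    · change mkI F A' z ∉ Q'.comap _
      rw [Ideal.mem_comap, ← mkI_rTA]
      exact hzQ
    · ext a
      have hbot : Q'.comap (algebraMap κ (κ ⊗[A] PolLaw.image F.law)) = ⊥ :=
        (IsSimpleOrder.eq_bot_or_eq_top _).resolve_right (Ideal.IsPrime.comap (f := algebraMap κ _)).ne_top
      change rTA ι' (PolLaw.image F.law) (algebraMap A' _ a) ∈ Q' ↔ _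
      rw [show rTA ι' (PolLaw.image F.law) (algebraMap A' _ a) = algebraMap κ _ (algebraMap A' κ a) by
        simp [rTA, ι', Algebra.TensorProduct.algebraMap_apply], ← Ideal.mem_comap, hbot, Submodule.mem_bot]
      exact Ideal.algebraMap_residueField_eq_zero

theorem preimage_singleton_subset_range (p : PrimeSpectrum A') :
    PrimeSpectrum.comap (algebraMap A' (A' ⊗[A] PolLaw.image F.law)) ⁻¹' {p} ⊆ Set.range (PrimeSpectrum.comap
      (rTA (IsScalarTower.toAlgHom A A' p.asIdeal.ResidueField) (PolLaw.image F.law)).toRingHom) := by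
  let κ := p.asIdeal.ResidueField
  let ι' : A' →ₐ[A] κ := IsScalarTower.toAlgHom A A' κ
  intro Q hQ
  have hQp : Q.asIdeal.comap (algebraMap A' _) = p.asIdeal := congrArg PrimeSpectrum.asIdeal hQ
  let φ := algebraMap (A' ⊗[A] PolLaw.image F.law) Q.asIdeal.ResidueField
  let κmap : κ →+* Q.asIdeal.ResidueField :=
    Ideal.ResidueField.map p.asIdeal Q.asIdeal (algebraMap A' (A' ⊗[A] PolLaw.image F.law)) hQp.symm
  have hκ : κmap.comp (algebraMap A' κ) = φ.comp (algebraMap A' _) := RingHom.ext fun a =>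
    Ideal.ResidueField.map_algebraMap _ _ _ _ a
  let κmapA : κ →ₐ[A] Q.asIdeal.ResidueField :=
    { κmap with
      commutes' := fun a => by
        have := DFunLike.congr_fun hκ (algebraMap A A' a)
        simp only [RingHom.comp_apply, ← IsScalarTower.algebraMap_apply A A'] at this
        exact this.trans ((IsScalarTower.algebraMap_apply A (A' ⊗[A] PolLaw.image F.law) _ a).symm) }
  let Φ : κ ⊗[A] PolLaw.image F.law →ₐ[A] Q.asIdeal.ResidueField :=
    Algebra.TensorProduct.lift κmapA
      ((IsScalarTower.toAlgHom A (A' ⊗[A] PolLaw.image F.law) _).comp Algebra.TensorProduct.includeRight)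
      fun _ _ => Commute.all _ _
  refine ⟨⟨RingHom.ker Φ, RingHom.ker_isPrime _⟩, PrimeSpectrum.ext ?_⟩
  have hcomp : Φ.toRingHom.comp (rTA ι' (PolLaw.image F.law)).toRingHom = φ := by
    refine RingHom.ext fun x => ?_
    induction x using TensorProduct.induction_on with
    | zero => simp
    | add a b ha hb => simp only [map_add, ha, hb]
    | tmul a b =>
      simp only [RingHom.comp_apply, AlgHom.toRingHom_eq_coe, RingHom.coe_coe, rTA, Algebra.TensorProduct.map_tmul,
        AlgHom.id_apply, Φ, Algebra.TensorProduct.lift_tmul, AlgHom.comp_apply, Algebra.TensorProduct.includeRight_apply]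
      change κmap (algebraMap A' κ a) * φ _ = _
      rw [← RingHom.comp_apply, hκ, RingHom.comp_apply, ← map_mul]
      simp [Algebra.TensorProduct.algebraMap_apply]
  change (RingHom.ker Φ.toRingHom).comap _ = Q.asIdeal
  rw [RingHom.comap_ker, hcomp]
  exact Ideal.ker_algebraMap_residueField _

theorem finite_preimage_singleton (p : PrimeSpectrum A') :
    (PrimeSpectrum.comap (algebraMap A' (A' ⊗[A] PolLaw.image F.law)) ⁻¹' {p}).Finite := by
  have := (finite_primeSpectrum_tensor F p.asIdeal.ResidueField).1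
  exact (Set.finite_range _).subset (preimage_singleton_subset_range F p)

theorem ncard_preimage_singleton_le (p : PrimeSpectrum A') :
    (PrimeSpectrum.comap (algebraMap A' (A' ⊗[A] PolLaw.image F.law)) ⁻¹' {p}).ncard ≤ d := by
  obtain ⟨hfin, hle⟩ := finite_primeSpectrum_tensor F p.asIdeal.ResidueField
  exact ((Set.ncard_le_ncard (preimage_singleton_subset_range F p) (Set.finite_range _)).trans
    (Finite.card_range_le _)).trans hle

theorem generalizingMap_comap_tensor_image :
    GeneralizingMap (PrimeSpectrum.comap (algebraMap A' (A' ⊗[A] PolLaw.image F.law))) := by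
  intro Q q hq
  set π := PrimeSpectrum.comap (algebraMap A' (A' ⊗[A] PolLaw.image F.law))
  by_contra hno
  have hQ : ∀ x ∈ π ⁻¹' {q}, Q ∉ closure ({x} : Set _) := fun x hx hc => hno ⟨x, specializes_iff_mem_closure.mpr hc, hx⟩
  let U : Set _ := ⋂ x ∈ π ⁻¹' {q}, (closure ({x} : Set _))ᶜ
  have hU : IsOpen U := (finite_preimage_singleton F q).isOpen_biInter fun x _ => isClosed_closure.isOpen_compl
  obtain ⟨x, hx, hxq⟩ : q ∈ π '' U :=
    hq.mem_open (isOpenMap_comap_tensor_image F U hU) ⟨Q, Set.mem_iInter₂.mpr hQ, rfl⟩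
  exact Set.mem_iInter₂.mp hx x hxq (subset_closure rfl)

end Open

end Groth.Agent.PolLaw95
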