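import Groth.Agent.PolLaw95.General
import Mathlib.RingTheory.Invariant.Basic
import Mathlib.RingTheory.LocalRing.ResidueField.Ideal
import Mathlib.RingTheory.Ideal.GoingUp

/-!
Symmetric tensors at the residue fields of the base.
-/

set_option linter.unusedSectionVars false

universe u

open scoped TensorProduct

open MvPolynomial

namespace Groth.Agent.PolLaw95

variable (A B : Type u) [CommRing A] [CommRing B] [Algebra A B] (d : ℕ)

theorem isIntegral_TS : Algebra.IsIntegral (SymTen.TS A B d) (⨂[A] _ : Fin d, B) := by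
  let _ : MulSemiringAction (Equiv.Perm (Fin d)) (⨂[A] _ : Fin d, B) :=
    { smul := fun σ t => SymTen.perm A B d σ t
      one_smul := fun t => by
        change SymTen.perm A B d 1 t = t
        rw [SymTen.perm_apply, Equiv.Perm.one_def, PiTensorProduct.reindex_refl]
        rfl
      mul_smul := fun σ τ t => by
        change SymTen.perm A B d (σ * τ) t = SymTen.perm A B d σ (SymTen.perm A B d τ t)
        induction t using PiTensorProduct.induction_on with
        | smul_tprod r v => simp only [map_smul, SymTen.perm_tprod]; rfl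
        | add x y hx hy => simp only [map_add, hx, hy]
      smul_zero := fun σ => map_zero _
      smul_add := fun σ => map_add _
      smul_one := fun σ => map_one (SymTen.perm A B d σ)
      smul_mul := fun σ => map_mul (SymTen.perm A B d σ) }
  have : Algebra.IsInvariant (SymTen.TS A B d) (⨂[A] _ : Fin d, B) (Equiv.Perm (Fin d)) :=
    ⟨fun b hb => ⟨⟨b, fun σ => (SymTen.perm_apply A B d σ b).symm.trans (hb σ)⟩, rfl⟩⟩
  exact Algebra.IsInvariant.isIntegral _ _ (Equiv.Perm (Fin d))

section Base

variable (k : Type u) [CommRing k] [Algebra A k]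

/-- The tensor power over a base change. -/
noncomputable def baseTen : (⨂[A] _ : Fin d, B) →ₗ[A] ⨂[k] _ : Fin d, (k ⊗[A] B) :=
  PiTensorProduct.lift (((PiTensorProduct.tprod k).restrictScalars A).compLinearMap
    fun _ => (Algebra.TensorProduct.includeRight : B →ₐ[A] k ⊗[A] B).toLinearMap)

@[simp]
theorem baseTen_tprod (v : Fin d → B) :
    baseTen A B d k (PiTensorProduct.tprod A v) = PiTensorProduct.tprod k fun i => (1 : k) ⊗ₜ[A] v i := by
  simp [baseTen]

theorem baseTen_reindex (σ : Equiv.Perm (Fin d)) (t : ⨂[A] _ : Fin d, B) :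
    baseTen A B d k (PiTensorProduct.reindex A (fun _ : Fin d => B) σ t) =
      PiTensorProduct.reindex k (fun _ : Fin d => k ⊗[A] B) σ (baseTen A B d k t) := by
  induction t using PiTensorProduct.induction_on with
  | smul_tprod r v =>
    rw [map_smul, map_smul, map_smul, PiTensorProduct.reindex_tprod, baseTen_tprod, baseTen_tprod,
      ← algebraMap_smul k r, ← algebraMap_smul k r, map_smul, PiTensorProduct.reindex_tprod]
  | add x y hx hy => simp only [map_add, hx, hy]

/-- Maps of the tensor power to a `k`-algebra factor through the base change. -/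
theorem apply_eq_zero_of_baseTen_eq_zero {L : Type u} [CommRing L] [Algebra A L] [Algebra k L]
    [IsScalarTower A k L] (ρ : (⨂[A] _ : Fin d, B) →ₐ[A] L) {t : ⨂[A] _ : Fin d, B}
    (ht : baseTen A B d k t = 0) : ρ t = 0 := by
  let ρk : (⨂[k] _ : Fin d, (k ⊗[A] B)) →ₗ[k] L := PiTensorProduct.lift
    ((MultilinearMap.mkPiAlgebra k (Fin d) L).compLinearMap fun i =>
      (Algebra.TensorProduct.lift (Algebra.ofId k L)
        (ρ.comp (PiTensorProduct.singleAlgHom (R := A) (A := fun _ : Fin d => B) i))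
        fun _ _ => Commute.all _ _).toLinearMap)
  suffices h : ∀ t, ρk (baseTen A B d k t) = ρ t by rw [← h, ht, map_zero]
  intro t
  induction t using PiTensorProduct.induction_on with
  | smul_tprod r v =>
    rw [map_smul, baseTen_tprod, ← algebraMap_smul k r, map_smul, map_smul, algebraMap_smul]
    congr 1
    conv_rhs => rw [← prod_singleAlgHom, map_prod]
    simp [ρk]
  | add x y hx hy => simp only [map_add, hx, hy]

theorem coef_sym0_mem {n : ℕ} (b : Fin n → k ⊗[A] B) (α : Fin n →₀ ℕ) :
    coef (sym0 k (k ⊗[A] B) d).law b α ∈ Submodule.span k (baseTen A B d k ''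
      {t | ∃ (m : ℕ) (g : Fin m → B) (β : Fin m →₀ ℕ), coef (sym0 A B d).law g β = t}) := by
  classical
  choose m c g hg using fun j => exists_eq_sum (A := A) (b j)
  let e := Fintype.equivFin ((j : Fin n) × Fin (m j))
  let g₁ : Fin (Fintype.card ((j : Fin n) × Fin (m j))) → B := fun i => g (e.symm i).1 (e.symm i).2
  let ψ : MvPolynomial (Fin (Fintype.card ((j : Fin n) × Fin (m j)))) k →ₐ[k] MvPolynomial (Fin n) k :=
    aeval fun i => c (e.symm i).1 (e.symm i).2 • X (e.symm i).1
  have hz : uni k b = rT ψ _ (uni k fun i => (1 : k) ⊗ₜ[A] g₁ i) := by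
    rw [rT_aeval_uni, ← e.sum_comp, Fintype.sum_sigma, uni]
    refine Finset.sum_congr rfl fun j _ => ?_
    simp only [g₁, Equiv.symm_apply_apply]
    rw [hg j, TensorProduct.tmul_sum]
    refine Finset.sum_congr rfl fun i _ => ?_
    have he : e.symm (e ⟨j, i⟩) = ⟨j, i⟩ := e.symm_apply_apply _
    generalize e.symm (e ⟨j, i⟩) = q at he ⊢
    subst he
    simp [TensorProduct.smul_tmul, TensorProduct.smul_tmul']
  rw [coef, hz]
  refine Submodule.span_le.mpr ?_ (coefL_rT_uni (sym0 k (k ⊗[A] B) d) _ ψ α)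
  rintro _ ⟨β, rfl⟩
  refine Submodule.subset_span ⟨coef (sym0 A B d).law g₁ β, ⟨_, g₁, β, rfl⟩, ?_⟩
  simp only [sym0_coef, map_sum, apply_ite (baseTen A B d k), baseTen_tprod, map_zero]

end Base

variable {A B d}

theorem exists_smul_sub_mem {C : Type u} [CommRing C] [Algebra A C] (γ : PolLaw.MulLaw A B C d)
    (φ : C →ₐ[A] SymTen.TS A B d) (hφ : PolLaw.postcomp φ.toLinearMap γ.law = (sym A B d).law)
    (p : Ideal A) [p.IsPrime] (y : SymTen.TS A B d) :
    ∃ s ∉ p, ∃ c : C, ∀ Q : Ideal (SymTen.TS A B d), Q.IsPrime → Q.comap (algebraMap A _) = p →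
      s • y - φ c ∈ Q := by
  classical
  let k := p.ResidueField
  let Θ := baseTen A B d k
  -- the symmetric tensor is in the span of the coefficients
  have hy : Θ y.1 ∈ Submodule.span k (Θ '' Set.range fun c => (φ c : ⨂[A] _ : Fin d, B)) := by
    let yk : SymTen.TS k (k ⊗[A] B) d := ⟨Θ y.1, fun σ => by rw [← baseTen_reindex, y.2 σ]⟩
    let eb := Module.Free.chooseBasis k (k ⊗[A] B)
    have hmem : yk ∈ coefSpan (sym k (k ⊗[A] B) d).law :=
      (coefSpan_sym_eq_top eb).symm ▸ Submodule.mem_top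
    suffices ∀ z ∈ coefSpan (sym k (k ⊗[A] B) d).law,
        (z : ⨂[k] _ : Fin d, (k ⊗[A] B)) ∈ Submodule.span k (Θ '' Set.range fun c => (φ c : ⨂[A] _ : Fin d, B))
      from this yk hmem
    intro z hz
    induction hz using Submodule.span_induction with
    | mem z hz =>
      obtain ⟨n, b, α, rfl⟩ := hz
      rw [val_sym_coef]
      refine Submodule.span_mono (Set.image_mono ?_) (coef_sym0_mem A B d k b α)
      rintro _ ⟨m, g, β, rfl⟩
      refine ⟨coef γ.law g β, ?_⟩
      rw [← val_sym_coef, ← hφ]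
      exact congrArg Subtype.val (coefL_lTensor φ.toLinearMap _ β).symm
    | zero => exact zero_mem _
    | add a b _ _ ha hb => exact add_mem ha hb
    | smul r a _ ha => exact Submodule.smul_mem _ r ha
  obtain ⟨s, hs, c, hc⟩ : ∃ s ∉ p, ∃ c : C, s • Θ y.1 = Θ (φ c).1 := by
    generalize Θ y.1 = t at hy ⊢
    induction hy using Submodule.span_induction with
    | mem t ht =>
      obtain ⟨_, ⟨c, rfl⟩, rfl⟩ := ht
      exact ⟨1, p.one_notMem, c, one_smul _ _⟩
    | zero => exact ⟨1, p.one_notMem, 0, by rw [smul_zero, map_zero]; exact (map_zero Θ).symm⟩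
    | add t t' _ _ h h' =>
      obtain ⟨s, hs, c, hc⟩ := h
      obtain ⟨s', hs', c', hc'⟩ := h'
      refine ⟨s * s', fun h => (Ideal.IsPrime.mem_or_mem ‹_› h).elim hs hs', s' • c + s • c', ?_⟩
      simp only [map_add, map_smul, Subalgebra.coe_add, Subalgebra.coe_smul, ← hc, ← hc', smul_add, smul_smul,
        mul_comm]
    | smul r t _ h =>
      obtain ⟨s, hs, c, hc⟩ := h
      obtain ⟨⟨a, b⟩, hab⟩ := IsLocalization.surj (nonZeroDivisors (A ⧸ p)) r
      obtain ⟨a, rfl⟩ := Ideal.Quotient.mk_surjective a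
      obtain ⟨b, hb⟩ := b
      obtain ⟨b, rfl⟩ := Ideal.Quotient.mk_surjective b
      have hb' : b ∉ p := fun h => nonZeroDivisors.ne_zero hb (Ideal.Quotient.eq_zero_iff_mem.mpr h)
      have hr : r * algebraMap A k b = algebraMap A k a := hab
      refine ⟨b * s, fun h => (Ideal.IsPrime.mem_or_mem ‹_› h).elim hb' hs, a • c, ?_⟩
      rw [map_smul, Subalgebra.coe_smul, map_smul, ← hc, mul_smul, smul_comm s r, ← algebraMap_smul k b,
        ← algebraMap_smul k a (s • t), smul_smul, mul_comm, hr]
  refine ⟨s, hs, c, fun Q hQ hQp => ?_⟩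
  have := isIntegral_TS A B d
  obtain ⟨R, -, hR, hRQ⟩ := Ideal.exists_ideal_over_prime_of_isIntegral (S := ⨂[A] _ : Fin d, B) Q ⊥ (by
    intro x hx
    have : (x : ⨂[A] _ : Fin d, B) = 0 := hx
    exact (ZeroMemClass.coe_eq_zero.mp this) ▸ zero_mem Q)
  have hRp : p = R.comap (algebraMap A (⨂[A] _ : Fin d, B)) := by
    rw [← hQp, ← hRQ, Ideal.comap_comap]
    rfl
  let _ : Algebra k R.ResidueField := (Ideal.ResidueField.map p R (algebraMap A _) hRp).toAlgebra
  have : IsScalarTower A k R.ResidueField := IsScalarTower.of_algebraMap_eq fun x => by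
    rw [RingHom.algebraMap_toAlgebra, Ideal.ResidueField.map_algebraMap, ← IsScalarTower.algebraMap_apply]
  have h0 : (IsScalarTower.toAlgHom A (⨂[A] _ : Fin d, B) R.ResidueField) ((s • y - φ c).1) = 0 :=
    apply_eq_zero_of_baseTen_eq_zero A B d k _ (by
      change Θ (s • y.1 - (φ c).1) = 0
      rw [map_sub, map_smul, hc, sub_self])
  rw [IsScalarTower.toAlgHom_apply, Ideal.algebraMap_residueField_eq_zero] at h0
  rw [← hRQ]
  exact h0

end Groth.Agent.PolLaw95
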