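import Groth.Agent.PolLaw95.CayleyHamilton
import Groth.Agent.PolLaw95.Residue
import Mathlib.RingTheory.Adjoin.Tower
import Mathlib.RingTheory.Polynomial.Basic
import Mathlib.RingTheory.FiniteType

/-!
Divided powers of a finite type algebra are of finite type.
-/

set_option linter.unusedSectionVars false

universe u

open scoped TensorProduct

open MvPolynomial

namespace Groth.Agent.PolLaw95

section Noeth

variable (R : Type u) [CommRing R] (σ : Type u) [Finite σ] (d : ℕ)

theorem finiteType_tensorPow (P : Type u) [CommRing P] [Algebra R P] [Algebra.FiniteType R P] :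
    Algebra.FiniteType R (⨂[R] _ : Fin d, P) := by
  classical
  obtain ⟨s, hs⟩ := Algebra.FiniteType.out (R := R) (A := P)
  refine ⟨⟨(Finset.univ ×ˢ s).image fun p : Fin d × P =>
    PiTensorProduct.singleAlgHom (R := R) (A := fun _ : Fin d => P) p.1 p.2, eq_top_iff.mpr fun z _ => ?_⟩⟩
  set S := Algebra.adjoin R ((((Finset.univ ×ˢ s).image fun p : Fin d × P =>
    PiTensorProduct.singleAlgHom (R := R) (A := fun _ : Fin d => P) p.1 p.2) : Finset _) : Set (⨂[R] _ : Fin d, P))
  have h : ∀ i b, PiTensorProduct.singleAlgHom (R := R) (A := fun _ : Fin d => P) i b ∈ S := by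
    intro i b
    have hb : b ∈ Algebra.adjoin R (s : Set P) := hs ▸ trivial
    induction hb using Algebra.adjoin_induction with
    | mem x hx => exact Algebra.subset_adjoin (Finset.mem_coe.mpr (Finset.mem_image.mpr ⟨(i, x), by simpa using hx, rfl⟩))
    | algebraMap r => rw [AlgHom.commutes]; exact Subalgebra.algebraMap_mem _ _
    | add x y _ _ hx hy => rw [map_add]; exact add_mem hx hy
    | mul x y _ _ hx hy => rw [map_mul]; exact mul_mem hx hy
  induction z using PiTensorProduct.induction_on with
  | smul_tprod r v =>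
    refine Subalgebra.smul_mem _ ?_ r
    rw [← prod_singleAlgHom R P d v]
    exact prod_mem fun i _ => h i _
  | add x y hx hy => exact add_mem (hx trivial) (hy trivial)

theorem finiteType_TS [IsNoetherianRing R] (P : Type u) [CommRing P] [Algebra R P] [Algebra.FiniteType R P] :
    Algebra.FiniteType R (SymTen.TS R P d) := by
  have := finiteType_tensorPow R d P
  have := isIntegral_TS R P d
  have : Algebra.FiniteType (SymTen.TS R P d) (⨂[R] _ : Fin d, P) :=
    Algebra.FiniteType.of_restrictScalars_finiteType R _ _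
  have : Module.Finite (SymTen.TS R P d) (⨂[R] _ : Fin d, P) := Algebra.IsIntegral.finite
  exact ⟨fg_of_fg_of_fg R (SymTen.TS R P d) (⨂[R] _ : Fin d, P) Algebra.FiniteType.out Module.Finite.fg_top
    Subtype.val_injective⟩

end Noeth

section BaseMap

variable (A : Type u) [CommRing A] (P P0 R : Type u) [CommRing P] [Algebra A P] [CommRing R] [CommRing P0]
  [Algebra R P0] [Algebra R A] [Algebra R P] [IsScalarTower R A P] {d : ℕ}

variable {P P0}

/-- The map of tensor powers over a change of base rings. -/
noncomputable def baseTP (κ : P0 →ₐ[R] P) : (⨂[R] _ : Fin d, P0) →ₗ[R] ⨂[A] _ : Fin d, P :=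
  PiTensorProduct.lift (((PiTensorProduct.tprod A).restrictScalars R).compLinearMap fun _ => κ.toLinearMap)

theorem baseTP_tprod (κ : P0 →ₐ[R] P) (v : Fin d → P0) :
    baseTP A R κ (PiTensorProduct.tprod R v) = PiTensorProduct.tprod A fun i => κ (v i) :=
  PiTensorProduct.lift.tprod _

theorem baseTP_mul (κ : P0 →ₐ[R] P) (x y : ⨂[R] _ : Fin d, P0) :
    baseTP A R κ (x * y) = baseTP A R κ x * baseTP A R κ y := by
  induction x using PiTensorProduct.induction_on with
  | smul_tprod r v =>
    induction y using PiTensorProduct.induction_on with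
    | smul_tprod s w =>
      rw [smul_mul_smul_comm, map_smul, map_smul, map_smul, PiTensorProduct.tprod_mul_tprod, baseTP_tprod,
        baseTP_tprod, baseTP_tprod, ← algebraMap_smul A (r * s), ← algebraMap_smul A r, ← algebraMap_smul A s,
        smul_mul_smul_comm, PiTensorProduct.tprod_mul_tprod, map_mul]
      congr 2
      funext i
      simp
    | add a b ha hb => simp only [mul_add, map_add, ha, hb]
  | add a b ha hb => simp only [add_mul, map_add, ha, hb]

theorem baseTP_one (κ : P0 →ₐ[R] P) : baseTP A R κ (1 : ⨂[R] _ : Fin d, P0) = 1 := by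
  rw [PiTensorProduct.one_def, baseTP_tprod, PiTensorProduct.one_def]
  congr 1
  funext i
  simp

theorem baseTP_algebraMap (κ : P0 →ₐ[R] P) (r : R) :
    baseTP A R κ (algebraMap R (⨂[R] _ : Fin d, P0) r) = algebraMap A _ (algebraMap R A r) := by
  rw [Algebra.algebraMap_eq_smul_one, map_smul, baseTP_one, ← algebraMap_smul A r, ← Algebra.algebraMap_eq_smul_one]

theorem baseTP_reindex (κ : P0 →ₐ[R] P) (σ : Equiv.Perm (Fin d)) (t : ⨂[R] _ : Fin d, P0) :
    baseTP A R κ (PiTensorProduct.reindex R (fun _ : Fin d => P0) σ t) =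
      PiTensorProduct.reindex A (fun _ : Fin d => P) σ (baseTP A R κ t) := by
  induction t using PiTensorProduct.induction_on with
  | smul_tprod r v =>
    simp only [map_smul, PiTensorProduct.reindex_tprod, baseTP_tprod, ← algebraMap_smul A r]
  | add x y hx hy => simp only [map_add, hx, hy]

theorem baseTP_coef (κ : P0 →ₐ[R] P) {n : ℕ} (b : Fin n → P0) (β : Fin n →₀ ℕ) :
    baseTP A R κ ((coef (sym R P0 d).law b β : SymTen.TS R P0 d) : ⨂[R] _ : Fin d, P0) =
      ((coef (sym A P d).law (κ ∘ b) β : SymTen.TS A P d) : ⨂[A] _ : Fin d, P) := by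
  rw [val_sym_coef, val_sym_coef, sym0_coef, sym0_coef, map_sum]
  refine Finset.sum_congr rfl fun c _ => ?_
  split_ifs
  · exact baseTP_tprod A R κ _
  · exact map_zero _

/-- Symmetric tensors are generated by the image of those over the smaller ring. -/
theorem finiteType_TS_of_base [Algebra.FiniteType R (SymTen.TS R P0 d)] {ι : Type u} (e0 : Module.Basis ι R P0)
    (e : Module.Basis ι A P) (κ : P0 →ₐ[R] P) (hκ : ∀ i, κ (e0 i) = e i) :
    Algebra.FiniteType A (SymTen.TS A P d) := by
  classical
  obtain ⟨s, hs⟩ := Algebra.FiniteType.out (R := R) (A := SymTen.TS R P0 d)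
  let f : SymTen.TS R P0 d → SymTen.TS A P d := fun t =>
    ⟨baseTP A R κ (t : ⨂[R] _ : Fin d, P0), fun σ => by rw [← baseTP_reindex, t.2 σ]⟩
  refine ⟨⟨s.image f, eq_top_iff.mpr fun z _ => ?_⟩⟩
  set S := Algebra.adjoin A (((s.image f : Finset _) : Set (SymTen.TS A P d)))
  have hf : ∀ t, f t ∈ S := by
    intro t
    have ht : t ∈ Algebra.adjoin R (s : Set (SymTen.TS R P0 d)) := hs ▸ trivial
    induction ht using Algebra.adjoin_induction with
    | mem x hx => exact Algebra.subset_adjoin (Finset.mem_coe.mpr (Finset.mem_image_of_mem f hx))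
    | algebraMap r =>
      rw [show f (algebraMap R _ r) = algebraMap A _ (algebraMap R A r) from Subtype.ext (baseTP_algebraMap A R κ r)]
      exact Subalgebra.algebraMap_mem _ _
    | add x y _ _ hx hy =>
      rw [show f (x + y) = f x + f y from Subtype.ext (map_add _ _ _)]; exact add_mem hx hy
    | mul x y _ _ hx hy =>
      rw [show f (x * y) = f x * f y from Subtype.ext (baseTP_mul A R κ _ _)]; exact mul_mem hx hy
  have hz : z ∈ coefSpan (sym A P d).law := (coefSpan_sym_eq_top e).symm ▸ Submodule.mem_top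
  refine (Submodule.span_le.mpr ?_ : coefSpan (sym A P d).law ≤ S.toSubmodule) hz
  rintro _ ⟨n, b, α, rfl⟩
  -- express `b` in the basis
  let J : Finset ι := Finset.univ.biUnion fun j => (e.repr (b j)).support
  let g : Fin J.card → ι := fun i => (J.equivFin.symm i : ι)
  let φ : MvPolynomial (Fin J.card) A →ₐ[A] MvPolynomial (Fin n) A :=
    aeval fun i => ∑ j, e.repr (b j) (g i) • X j
  have hb : ∀ j, b j = ∑ i, e.repr (b j) (g i) • e (g i) := fun j => by
    conv_lhs => rw [← e.linearCombination_repr (b j), Finsupp.linearCombination_apply]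
    rw [Finsupp.sum_of_support_subset _ (show (e.repr (b j)).support ⊆ J from
      Finset.subset_biUnion_of_mem (fun j => (e.repr (b j)).support) (Finset.mem_univ j)) _ (by simp),
      ← Finset.sum_coe_sort J, ← J.equivFin.symm.sum_comp]
  have he : uni A b = rT φ P (uni A (e ∘ g)) := by
    simp only [uni, φ, map_sum, rT_tmul, aeval_X, TensorProduct.sum_tmul]
    rw [Finset.sum_comm]
    refine Finset.sum_congr rfl fun j _ => ?_
    rw [hb j, TensorProduct.tmul_sum]
    exact Finset.sum_congr rfl fun i _ => by rw [TensorProduct.smul_tmul, ← hb j]; rfl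
  rw [SetLike.mem_coe, coef, he]
  refine Submodule.span_le.mpr ?_ (coefL_rT_uni (sym A P d) (e ∘ g) φ α)
  rintro _ ⟨β, rfl⟩
  have hco : coef (sym A P d).law (e ∘ g) β = f (coef (sym R P0 d).law (e0 ∘ g) β) := by
    refine Subtype.ext (Eq.symm ?_)
    refine (baseTP_coef A R κ (e0 ∘ g) β).trans ?_
    rw [show κ ∘ (e0 ∘ g) = e ∘ g from funext fun i => hκ (g i)]
  show coef (sym A P d).law (e ∘ g) β ∈ S
  rw [hco]
  exact hf _

end BaseMap

theorem finiteType_of_isGammaD {A B C : Type u} [CommRing A] [CommRing B] [Algebra A B] [CommRing C] [Algebra A C]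
    {d : ℕ} (γ : PolLaw.MulLaw A B C d) (hγ : PolLaw.IsGammaD γ) [Algebra.FiniteType A B] :
    Algebra.FiniteType A C := by
  obtain ⟨n, π, hπ⟩ := Algebra.FiniteType.iff_quotient_mvPolynomial''.mp ‹Algebra.FiniteType A B›
  let σ := ULift.{u} (Fin n)
  let π' : MvPolynomial σ A →ₐ[A] B := π.comp (rename ULift.down)
  have hπ' : Function.Surjective π' := hπ.comp (rename_surjective _ ULift.down_surjective)
  let R := ULift.{u} ℤ
  letI : Algebra R A := ((Int.castRingHom A).comp ULift.ringEquiv.toRingHom).toAlgebra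
  let P0 := MvPolynomial σ R
  let κ : P0 →ₐ[R] MvPolynomial σ A := MvPolynomial.aeval X
  have hκ : ∀ i, κ (MvPolynomial.basisMonomials σ R i) = MvPolynomial.basisMonomials σ A i := fun i => by
    show MvPolynomial.aeval X (MvPolynomial.basisMonomials σ R i) = _
    rw [MvPolynomial.coe_basisMonomials, MvPolynomial.coe_basisMonomials, aeval_monomial, map_one, _root_.one_mul]
    simp only [MvPolynomial.monomial_eq, map_one, _root_.one_mul]
  have : IsNoetherianRing R := isNoetherianRing_of_ringEquiv ℤ ULift.ringEquiv.symm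
  have : Algebra.FiniteType R (SymTen.TS R P0 d) := finiteType_TS R d P0
  have hTS : Algebra.FiniteType A (SymTen.TS A (MvPolynomial σ A) d) :=
    finiteType_TS_of_base A R (MvPolynomial.basisMonomials σ R) (MvPolynomial.basisMonomials σ A) κ hκ
  obtain ⟨φ, hφ⟩ := exists_algHom_sym (MvPolynomial.basisMonomials σ A) (γ.precomp π')
  refine Algebra.FiniteType.of_surjective φ
    (surjective_of_surjective (sym A (MvPolynomial σ A) d) γ hγ π' hπ' φ ?_)
  exact law_ext fun m z => hφ _ z

end Groth.Agent.PolLaw95
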