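import Groth.Agent.PolLaw95.Descend
import Groth.Agent.PolLaw95.BaseChange
import Groth.Agent.PolLaw95.FiniteType
import Mathlib.RingTheory.FinitePresentation
import Mathlib.RingTheory.FiniteStability
import Mathlib.RingTheory.TensorProduct.MvPolynomial

/-!
Divided powers of a finitely presented algebra are finitely presented.
-/

set_option linter.unusedSectionVars false
set_option autoImplicit false

universe u

open scoped TensorProduct
open MvPolynomial

namespace Groth.Agent.PolLaw95

variable {A B C : Type u} [CommRing A] [CommRing B] [Algebra A B] [CommRing C] [Algebra A C] {d : ℕ}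

theorem exists_quotient_algHom (R : Type u) [CommRing R] (T : Type u) [CommRing T] [Algebra R T] (I : Ideal T) :
    ∃ (C1 : Type u) (_ : CommRing C1) (_ : Algebra R C1) (q : T →ₐ[R] C1),
      Function.Surjective q ∧ RingHom.ker q.toRingHom = I :=
  ⟨T ⧸ I, inferInstance, inferInstance, Ideal.Quotient.mkₐ R I, Ideal.Quotient.mk_surjective, Ideal.mk_ker⟩

/-- Divided powers of an algebra defined over a Noetherian ring are finitely presented. -/
theorem finitePresentation_of_descent (γ : PolLaw.MulLaw A B C d) (hγ : PolLaw.IsGammaD γ)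
    (R : Type u) [CommRing R] [IsNoetherianRing R] [Algebra R A] (σ : Type u) [Finite σ]
    (π : MvPolynomial σ A →ₐ[A] B) (hπ : Function.Surjective π) (s : Set (MvPolynomial σ R))
    (hs : RingHom.ker π.toRingHom = Ideal.span (MvPolynomial.map (algebraMap R A) '' s)) :
    Algebra.FinitePresentation A C := by
  classical
  let P := MvPolynomial σ A
  let P1 := MvPolynomial σ R
  let κ : P1 →ₐ[R] P := MvPolynomial.aeval X
  have hκmap : ∀ p, κ p = MvPolynomial.map (algebraMap R A) p := fun p => by
    have h : (κ : P1 →+* P) = MvPolynomial.map (algebraMap R A) :=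
      MvPolynomial.ringHom_ext
        (fun r => by
          show MvPolynomial.aeval (R := R) (X : σ → P) (MvPolynomial.C r) = MvPolynomial.map _ (MvPolynomial.C r)
          rw [aeval_C, map_C]; rfl)
        (fun i => by
          show MvPolynomial.aeval (R := R) (X : σ → P) (MvPolynomial.X i) = MvPolynomial.map _ (MvPolynomial.X i)
          rw [aeval_X, map_X])
    exact DFunLike.congr_fun h p
  have hκ : ∀ i, κ (MvPolynomial.basisMonomials σ R i) = MvPolynomial.basisMonomials σ A i := fun i => by
    rw [hκmap, MvPolynomial.coe_basisMonomials, MvPolynomial.coe_basisMonomials, map_monomial, map_one]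
  let J1 : Ideal P1 := Ideal.span s
  let G : Set (SymTen.TS R P1 d) :=
    {c | ∃ (n : ℕ) (b : Fin n → P1) (β : Fin n →₀ ℕ), (∃ j, β j ≠ 0 ∧ b j ∈ J1) ∧
      coef (sym R P1 d).law b β = c}
  let I1 : Ideal (SymTen.TS R P1 d) := Ideal.span G
  obtain ⟨C1, _, _, q, hq, hqker⟩ := exists_quotient_algHom R (SymTen.TS R P1 d) I1
  have : Algebra.FiniteType R (SymTen.TS R P1 d) := finiteType_TS R d P1
  have : Algebra.FiniteType R C1 := Algebra.FiniteType.of_surjective q hq
  have : Algebra.FinitePresentation R C1 := (Algebra.FinitePresentation.of_finiteType (R := R) (A := C1)).mp ‹_›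
  let G1 : PolLaw.MulLaw R P1 C1 d := (sym R P1 d).postcomp q
  let ψ : P →ₐ[A] A ⊗[R] P1 := (MvPolynomial.algebraTensorAlgEquiv (σ := σ) R A).symm.toAlgHom
  have hψ : ∀ p, ψ (κ p) = (1 : A) ⊗ₜ[R] p := fun p => by
    show (MvPolynomial.algebraTensorAlgEquiv (σ := σ) R A).symm (κ p) = _
    rw [AlgEquiv.symm_apply_eq, algebraTensorAlgEquiv_tmul, one_smul, hκmap]
  let F' : PolLaw.MulLaw A P (A ⊗[R] C1) d := (bcLaw G1 A).precomp ψ
  have hF' : ∀ (n : ℕ) (b : Fin n → P1) (β : Fin n →₀ ℕ),
      coef F'.law (fun j => κ (b j)) β = (1 : A) ⊗ₜ[R] q (coef (sym R P1 d).law b β) := fun n b β => by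
    rw [coef_precomp]
    simp only [hψ]
    rw [coef_bcLaw]
    exact congrArg _ (coef_postcomp_law q _ b β)
  -- spanning sets
  let W : Set P := Set.range κ
  let V : Set P := κ '' (J1 : Set P1)
  have hW : Submodule.span A W = ⊤ := by
    rw [eq_top_iff, ← (MvPolynomial.basisMonomials σ A).span_eq]
    refine Submodule.span_mono ?_
    rintro _ ⟨i, rfl⟩
    exact ⟨_, hκ i⟩
  have hVker : ∀ p ∈ J1, π (κ p) = 0 := fun p hp => by
    have h : κ p ∈ RingHom.ker π.toRingHom := by
      rw [hs, hκmap, ← Ideal.map_span]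
      exact Ideal.mem_map_of_mem _ hp
    exact RingHom.mem_ker.mp h
  have hV : LinearMap.ker π.toLinearMap ≤ Submodule.span A V := by
    intro x hx
    have hx' : x ∈ Ideal.span (MvPolynomial.map (algebraMap R A) '' s) :=
      hs ▸ RingHom.mem_ker.mpr (show π.toRingHom x = 0 from LinearMap.mem_ker.mp hx)
    clear hx
    induction hx' using Submodule.span_induction with
    | mem x hx =>
      obtain ⟨p, hp, rfl⟩ := hx
      exact Submodule.subset_span ⟨p, Ideal.subset_span hp, hκmap p⟩
    | zero => exact zero_mem _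
    | add a b _ _ ha hb => exact add_mem ha hb
    | smul r a _ ha =>
      have h2 : r ∈ Submodule.span A W := hW ▸ Submodule.mem_top
      have h3 := Submodule.mul_mem_mul h2 ha
      rw [Submodule.span_mul_span] at h3
      refine Submodule.span_mono ?_ h3
      rintro _ ⟨_, ⟨w, rfl⟩, _, ⟨v, hv, rfl⟩, rfl⟩
      exact ⟨w * v, J1.mul_mem_left w hv, map_mul _ _ _⟩
  -- the law into the base change
  obtain ⟨G0, hG0⟩ := exists_descend F' π hπ W V hW
    (by rintro _ ⟨p, _, rfl⟩; exact ⟨p, rfl⟩) hV (by
      intro n b β hb hj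
      obtain ⟨j, hj0, p, hp, hjp⟩ := hj
      choose b1 hb1 using hb
      let b2 : Fin n → P1 := Function.update b1 j p
      have hb2 : b = fun i => κ (b2 i) := funext fun i => by
        rcases eq_or_ne i j with rfl | hi
        · simpa [b2] using hjp.symm
        · simpa [b2, hi] using (hb1 i).symm
      have hmem : coef (sym R P1 d).law b2 β ∈ RingHom.ker q.toRingHom := by
        rw [hqker]
        exact Ideal.subset_span ⟨n, b2, β, ⟨j, hj0, by simpa [b2] using hp⟩, rfl⟩
      have hq0 : q (coef (sym R P1 d).law b2 β) = 0 := RingHom.mem_ker.mp hmem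
      rw [hb2, hF', hq0, TensorProduct.tmul_zero])
  obtain ⟨g, hg, -⟩ := hγ (A ⊗[R] C1) G0
  have hg' : ∀ (n : ℕ) (b : Fin n → P1) (β : Fin n →₀ ℕ),
      g (coef γ.law (fun j => π (κ (b j))) β) = (1 : A) ⊗ₜ[R] q (coef (sym R P1 d).law b β) := fun n b β => by
    rw [← hF', ← hG0, coef_precomp, ← hg, coef_postcomp_law]
  -- the map from the base change
  obtain ⟨φ, hφ⟩ := exists_algHom_sym (MvPolynomial.basisMonomials σ A) (γ.precomp π)
  letI : Algebra R C := Algebra.compHom C (algebraMap R A)
  haveI : IsScalarTower R A C := IsScalarTower.of_algebraMap_eq fun _ => rfl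
  let f : SymTen.TS R P1 d → SymTen.TS A P d := fun t =>
    ⟨baseTP A R κ (t : ⨂[R] _ : Fin d, P1), fun σ' => by rw [← baseTP_reindex, t.2 σ']⟩
  let h0 : SymTen.TS R P1 d →ₐ[R] C :=
    { toFun := fun t => φ (f t)
      map_one' := by rw [show f 1 = 1 from Subtype.ext (baseTP_one A R κ), map_one]
      map_mul' := fun x y => by
        rw [show f (x * y) = f x * f y from Subtype.ext (baseTP_mul A R κ _ _), map_mul]
      map_zero' := by rw [show f 0 = 0 from Subtype.ext (map_zero _), map_zero]
      map_add' := fun x y => by rw [show f (x + y) = f x + f y from Subtype.ext (map_add _ _ _), map_add]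
      commutes' := fun r => by
        rw [show f (algebraMap R _ r) = algebraMap A _ (algebraMap R A r) from
          Subtype.ext (baseTP_algebraMap A R κ r), AlgHom.commutes]
        rfl }
  have hh0 : ∀ (n : ℕ) (b : Fin n → P1) (β : Fin n →₀ ℕ),
      h0 (coef (sym R P1 d).law b β) = coef γ.law (fun j => π (κ (b j))) β := fun n b β => by
    show φ (f _) = _
    rw [show f (coef (sym R P1 d).law b β) = coef (sym A P d).law (κ ∘ b) β from
      Subtype.ext (baseTP_coef A R κ b β), ← coef_precomp, ← coef_postcomp_law]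
    exact congrArg (fun L : P →ₚₗ[A] C => coef L (κ ∘ b) β) (law_ext fun k z => hφ _ z)
  have hI : ∀ x ∈ I1, h0 x = 0 := by
    intro x hx
    refine (Ideal.span_le.mpr ?_ : I1 ≤ RingHom.ker h0.toRingHom) hx
    rintro _ ⟨n, b, β, ⟨j, hj0, hj⟩, rfl⟩
    refine RingHom.mem_ker.mpr ?_
    show h0 _ = 0
    rw [hh0]
    exact coef_eq_zero_of_entry_zero γ.law _ β j hj0 (hVker _ hj)
  let l : C1 →+* C := q.toRingHom.liftOfSurjective hq ⟨h0.toRingHom, fun x hx => RingHom.mem_ker.mpr (hI x (hqker ▸ hx))⟩
  have hl : ∀ c, l (q c) = h0 c := fun c => RingHom.liftOfSurjective_comp_apply _ hq _ c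
  let h1 : C1 →ₐ[R] C :=
    { l with
      commutes' := fun r => by
        show l (algebraMap R C1 r) = algebraMap R C r
        rw [← q.commutes r, hl, AlgHom.commutes] }
  have hh1 : ∀ c, h1 (q c) = h0 c := hl
  let h : (A ⊗[R] C1) →ₐ[A] C := Algebra.TensorProduct.lift (Algebra.ofId A C) h1 fun _ _ => Commute.all _ _
  have hh : ∀ (n : ℕ) (b : Fin n → P1) (β : Fin n →₀ ℕ),
      h ((1 : A) ⊗ₜ[R] q (coef (sym R P1 d).law b β)) = coef γ.law (fun j => π (κ (b j))) β := fun n b β => by
    show Algebra.TensorProduct.lift (Algebra.ofId A C) h1 _ _ = _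
    rw [Algebra.TensorProduct.lift_tmul, map_one, one_mul]
    rw [hh1]; exact hh0 n b β
  have hgh : ∀ x, g (h x) = x := by
    intro x
    induction x using TensorProduct.induction_on with
    | zero => simp
    | tmul a c =>
      obtain ⟨c, rfl⟩ := hq c
      rw [← mul_one a, ← smul_eq_mul, ← TensorProduct.smul_tmul', map_smul, map_smul]
      congr 1
      have hc : c ∈ coefSpan (sym R P1 d).law :=
        (coefSpan_sym_eq_top (MvPolynomial.basisMonomials σ R)).symm ▸ Submodule.mem_top
      change g (h ((1 : A) ⊗ₜ[R] q c)) = (1 : A) ⊗ₜ[R] q c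
      induction hc using Submodule.span_induction with
      | mem c hc =>
        obtain ⟨n, b, β, rfl⟩ := hc
        rw [hh, hg']
      | zero => simp
      | add a b _ _ ha hb => simp only [map_add, TensorProduct.tmul_add, ha, hb]
      | smul r a _ ha =>
        rw [map_smul, TensorProduct.tmul_smul, ← algebraMap_smul A r, map_smul, map_smul, ha]
    | add a b ha hb => simp [ha, hb]
  have hsurj : Function.Surjective h := by
    have hW' : Submodule.span A (π '' W) = ⊤ := by
      change Submodule.span A (π.toLinearMap '' W) = ⊤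
      rw [← Submodule.map_span, hW, Submodule.map_top]
      exact LinearMap.range_eq_top.mpr hπ
    intro c
    have hc := coefSpan_le_of_span γ.law _ hW' ((coefSpan_eq_top γ hγ).symm ▸ Submodule.mem_top (x := c))
    refine (Submodule.span_le.mpr ?_ : _ ≤ h.range.toSubmodule) hc
    rintro _ ⟨n, b, β, hb, rfl⟩
    choose w hw hbw using hb
    choose b1 hb1 using hw
    exact ⟨_, (hh n b1 β).trans (congrArg (fun v => coef γ.law v β) (funext fun j => by rw [hb1, hbw]))⟩
  exact Algebra.FinitePresentation.equiv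
    (AlgEquiv.ofBijective h ⟨Function.LeftInverse.injective hgh, hsurj⟩)

theorem finitePresentation_of_isGammaD (γ : PolLaw.MulLaw A B C d) (hγ : PolLaw.IsGammaD γ)
    [Algebra.FinitePresentation A B] : Algebra.FinitePresentation A C := by
  classical
  obtain ⟨σ, hσ, π, hπ, hfg⟩ :=
    Algebra.FinitePresentation.iff_quotient_mvPolynomial'.mp ‹Algebra.FinitePresentation A B›
  obtain ⟨t, ht⟩ := hfg
  let T : Finset A := t.biUnion fun f => f.coeffs
  let R : Subalgebra ℤ A := Algebra.adjoin ℤ (T : Set A)
  have : Algebra.FiniteType ℤ R := ⟨(Subalgebra.fg_top R).mpr ⟨T, rfl⟩⟩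
  have : IsNoetherianRing R := Algebra.FiniteType.isNoetherianRing ℤ R
  refine finitePresentation_of_descent γ hγ R σ π hπ
    {p | MvPolynomial.map (algebraMap R A) p ∈ t} ?_
  rw [show MvPolynomial.map (algebraMap R A) '' {p | MvPolynomial.map (algebraMap R A) p ∈ t} = (t : Set _) from ?_]
  · exact ht.symm
  ext f
  refine ⟨?_, fun hf => ?_⟩
  · rintro ⟨p, hp, rfl⟩; exact hp
  · obtain ⟨p, rfl⟩ : f ∈ Set.range (MvPolynomial.map (algebraMap R A)) := by
      refine MvPolynomial.mem_range_map_iff_coeffs_subset.mpr fun c hc => ?_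
      exact ⟨⟨c, Algebra.subset_adjoin (Finset.mem_biUnion.mpr ⟨f, hf, hc⟩)⟩, rfl⟩
    exact ⟨p, hf, rfl⟩

end Groth.Agent.PolLaw95
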