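import Groth.Agent.PolLaw95.General
import Mathlib.RingTheory.Flat.EquationalCriterion

/-!
Symmetric tensors of a flat algebra are flat.
-/

set_option linter.unusedSectionVars false

universe u

open scoped TensorProduct

namespace Groth.Agent.PolLaw95

variable {A P B C : Type u} [CommRing A] [CommRing P] [Algebra A P] [CommRing B] [Algebra A B] [CommRing C]
  [Algebra A C] {d : ℕ}

/-- Two universal laws have isomorphic targets. -/
theorem exists_algEquiv_of_isGammaD {C' : Type u} [CommRing C'] [Algebra A C'] (γ : PolLaw.MulLaw A B C d)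
    (hγ : PolLaw.IsGammaD γ) (γ' : PolLaw.MulLaw A B C' d) (hγ' : PolLaw.IsGammaD γ') :
    ∃ e : C ≃ₐ[A] C', PolLaw.postcomp e.toAlgHom.toLinearMap γ.law = γ'.law := by
  obtain ⟨f, hf, -⟩ := hγ C' γ'
  obtain ⟨g, hg, -⟩ := hγ' C γ
  have h1 : g.comp f = AlgHom.id A C := by
    refine (hγ C γ).unique ?_ ?_
    · rw [postcomp_postcomp, hf, hg]
    · exact law_ext fun n z => DFunLike.congr_fun (LinearMap.lTensor_id (MvPolynomial (Fin n) A) C) _
  have h2 : f.comp g = AlgHom.id A C' := by
    refine (hγ' C' γ').unique ?_ ?_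
    · rw [postcomp_postcomp, hg, hf]
    · exact law_ext fun n z => DFunLike.congr_fun (LinearMap.lTensor_id (MvPolynomial (Fin n) A) C') _
  exact ⟨AlgEquiv.ofAlgHom f g h2 h1, hf⟩

theorem projective_TS_of_basis {ι : Type u} (e : Module.Basis ι A P) : Module.Projective A (SymTen.TS A P d) := by
  have : Module.Free A (⨂[A] _ : Fin d, P) := Module.Free.of_basis (Basis.piTensorProduct fun _ : Fin d => e)
  refine Module.Projective.of_split (M := ⨂[A] _ : Fin d, P) (SymTen.TS A P d).val.toLinearMap
    (coefMap e (sym A P d).law) (LinearMap.ext fun z => ?_)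
  refine eq_on_coefSpan (sym A P d).law (g := (coefMap e (sym A P d).law).comp (SymTen.TS A P d).val.toLinearMap)
    (h := LinearMap.id) (fun n w => ?_) z ((coefSpan_sym_eq_top e).symm ▸ Submodule.mem_top)
  rw [coefMap_sym e (sym A P d), LinearMap.lTensor_id, LinearMap.id_apply]

theorem flat_TS_of_surjective {ι : Type u} (e : Module.Basis ι A P) (π : P →ₐ[A] B) (hπ : Function.Surjective π)
    [Module.Flat A B] : Module.Flat A (SymTen.TS A B d) := by
  classical
  have := projective_TS_of_basis (d := d) e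
  refine Module.Flat.iff_forall_isTrivialRelation.mpr fun {l a z} h => ?_
  choose y hy using fun i => TSmap_surjective e π hπ (z i)
  have h0 : (∑ i, a i • (y i : ⨂[A] _ : Fin d, P)) ∈ slotKer π.toLinearMap := by
    refine mem_slotKer_of_map_eq_zero _ hπ _ ?_
    rw [map_sum]
    simp only [map_smul, hy]
    have := congrArg Subtype.val h
    simpa [AddSubmonoidClass.coe_finsetSum] using this
  choose T hT using fun i => mem_span_tprod (y i : ⨂[A] _ : Fin d, P)
  obtain ⟨r, q, hrq, hq, hr⟩ := exists_kill e π hπ (Finset.univ.biUnion T) _ h0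
  let M : SymTen.TS A P d →ₗ[A] SymTen.TS A B d :=
    LinearMap.codRestrict (SymTen.TS A B d).toSubmodule
      ((PiTensorProduct.map fun _ : Fin d => π.toLinearMap).comp (SymTen.TS A P d).val.toLinearMap)
      fun t => map_mem_TS _ t.2
  let y' : Fin l → SymTen.TS A P d := fun i => ⟨_, map_mem_TS r (y i).2⟩
  have hy' : ∀ i, M (y' i) = z i := fun i => by
    refine Subtype.ext ?_
    change PiTensorProduct.map (fun _ : Fin d => π.toLinearMap)
      (PiTensorProduct.map (fun _ : Fin d => r) (y i : ⨂[A] _ : Fin d, P)) = _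
    rw [← hy i]
    conv_rhs => rw [← map_eq_self_of_mem_span
      (fun v hv => hq v (Finset.mem_biUnion.mpr ⟨i, Finset.mem_univ i, hv⟩)) (hT i)]
    rw [← LinearMap.comp_apply, ← PiTensorProduct.map_comp, ← LinearMap.comp_apply, ← PiTensorProduct.map_comp]
    simp only [show π.toLinearMap.comp r = π.toLinearMap.comp q from LinearMap.ext hrq]
  have hrel : ∑ i, a i • y' i = 0 := Subtype.ext (by
    rw [AddSubmonoidClass.coe_finsetSum, ZeroMemClass.coe_zero, ← hr, map_sum]
    simp [y'])
  obtain ⟨k, c, w, h1, h2⟩ := Module.Flat.isTrivialRelation_of_sum_smul_eq_zero hrel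
  exact ⟨k, c, fun j => M (w j), fun i => by rw [← hy' i, h1 i, map_sum]; simp, h2⟩

theorem flat_of_isGammaD (γ : PolLaw.MulLaw A B C d) (hγ : PolLaw.IsGammaD γ) [Module.Flat A B] :
    Module.Flat A C := by
  obtain ⟨e, -⟩ := exists_algEquiv_of_isGammaD γ hγ (sym A B d) isGammaD_sym_of_flat
  have := flat_TS_of_surjective (d := d) (MvPolynomial.basisMonomials B A) (MvPolynomial.aeval id : MvPolynomial B A →ₐ[A] B)
    fun b => ⟨MvPolynomial.X b, MvPolynomial.aeval_X _ _⟩
  exact Module.Flat.of_linearEquiv e.toLinearEquiv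

end Groth.Agent.PolLaw95
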