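import Groth.Agent.PolLaw95.Laws

/-!
Finiteness of the divided powers of a finite algebra; surjectivity.
-/

set_option linter.unusedSectionVars false

universe u

open scoped TensorProduct

open MvPolynomial

namespace Groth.Agent.PolLaw95

variable {A : Type u} [CommRing A] {B C : Type u} [CommRing B] [Algebra A B] [CommRing C] [Algebra A C]
  {d : ℕ} (F : PolLaw.MulLaw A B C d)

theorem coefL_rT_uni {n : ℕ} (b : Fin n → B) {σ : Type} (φ : MvPolynomial (Fin n) A →ₐ[A] MvPolynomial σ A)
    (α : σ →₀ ℕ) :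
    coefL (F.law.toFun' _ (rT φ B (uni A b))) α ∈
      Submodule.span A (Set.range fun β : Fin n →₀ ℕ => coef F.law b β) := by
  rw [← compat, eq_sum_coef (F.law.toFun' _ (uni A b)), map_sum, map_sum, Finsupp.finsetSum_apply]
  refine sum_mem fun β _ => ?_
  rw [rT_tmul, coefL_tmul]
  exact Submodule.smul_mem _ _ (Submodule.subset_span ⟨β, rfl⟩)

/-- Homogeneity on coefficients. -/
theorem degree_eq_of_coef_ne_zero {n : ℕ} (b : Fin n → B) (α : Fin n →₀ ℕ) (h : coef F.law b α ≠ 0) :
    α.sum (fun _ e => e) = d := by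
  classical
  let φ : MvPolynomial (Fin n) A →ₐ[A] MvPolynomial (Fin (n + 1)) A :=
    aeval fun i => X (Fin.last n) * X (Fin.castSucc i)
  let ι' : MvPolynomial (Fin n) A →ₐ[A] MvPolynomial (Fin (n + 1)) A := rename Fin.castSucc
  have e : rT φ B (uni A b) = (X (Fin.last n) : MvPolynomial (Fin (n + 1)) A) • rT ι' B (uni A b) := by
    simp [uni, φ, ι', Finset.smul_sum, TensorProduct.smul_tmul']
  have h1 := congrArg (F.law.toFun' _) e
  rw [F.homog, ← compat, ← compat, eq_sum_coef (F.law.toFun' _ (uni A b)), map_sum, map_sum,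
    Finset.smul_sum] at h1
  set σα : Fin (n + 1) →₀ ℕ :=
    Finsupp.single (Fin.last n) (α.sum fun _ e => e) + α.mapDomain Fin.castSucc
  have hφ : ∀ β : Fin n →₀ ℕ, φ (monomial β 1) =
      monomial (Finsupp.single (Fin.last n) (β.sum fun _ e => e) + β.mapDomain Fin.castSucc) (1 : A) := by
    intro β
    rw [aeval_monomial, map_one, one_mul, monomial_eq, C_1, one_mul,
      Finsupp.prod_add_index' (fun _ => pow_zero _) (fun _ _ _ => pow_add _ _ _),
      Finsupp.prod_mapDomain_index (fun _ => pow_zero _) (fun _ _ _ => pow_add _ _ _)]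
    rw [Finsupp.prod_single_index (by exact pow_zero _)]
    simp only [Finsupp.prod, mul_pow, Finset.prod_mul_distrib, Finsupp.sum, Finset.prod_pow_eq_pow_sum]
  have hι : ∀ β : Fin n →₀ ℕ, (X (Fin.last n) : MvPolynomial (Fin (n + 1)) A) ^ d * ι' (monomial β 1) =
      monomial (Finsupp.single (Fin.last n) d + β.mapDomain Fin.castSucc) (1 : A) := by
    intro β
    rw [X_pow_eq_monomial, show ι' (monomial β 1) = monomial (β.mapDomain Fin.castSucc) 1 from rename_monomial _ _ _,
      monomial_mul, one_mul]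
  simp only [rT_tmul, TensorProduct.smul_tmul', smul_eq_mul, hφ, hι] at h1
  have h2 := congrArg (fun z => coefL z σα) h1
  simp only [map_sum, Finsupp.finsetSum_apply, coefL_tmul, coeff_monomial] at h2
  have hlast : ∀ β : Fin n →₀ ℕ, β.mapDomain Fin.castSucc (Fin.last n) = 0 := fun β =>
    Finsupp.mapDomain_of_notMem_range _ _ (fun ⟨i, e⟩ => (Fin.castSucc_lt_last i).ne e)
  have inj : ∀ β : Fin n →₀ ℕ, ∀ k, Finsupp.single (Fin.last n) k + β.mapDomain Fin.castSucc = σα →
      k = α.sum (fun _ e => e) ∧ β = α := by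
    intro β k hk
    refine ⟨?_, Finsupp.ext fun i => ?_⟩
    · have := DFunLike.congr_fun hk (Fin.last n)
      simpa [σα, hlast] using this
    · have := DFunLike.congr_fun hk (Fin.castSucc i)
      simpa [σα, Finsupp.mapDomain_apply (Fin.castSucc_injective n),
        Finsupp.single_eq_of_ne (Fin.castSucc_lt_last i).ne] using this
  rw [Finset.sum_eq_single α] at h2
  · by_contra hd
    rw [if_pos rfl, one_smul, Finset.sum_eq_zero] at h2
    · exact h h2
    · intro β _
      rw [if_neg fun e => hd (inj β d e).1.symm, zero_smul]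
  · intro β _ hβ
    rw [if_neg fun e => hβ (inj β _ e).2, zero_smul]
  · intro hα
    rw [Finsupp.notMem_support_iff.mp hα, smul_zero]

theorem finite_of_isGammaD (hF : PolLaw.IsGammaD F) [Module.Finite A B] : Module.Finite A C := by
  classical
  obtain ⟨r, g, hg⟩ := Submodule.fg_iff_exists_fin_generating_family.mp (Module.finite_def.mp ‹Module.Finite A B›)
  have hfin : {β : Fin r →₀ ℕ | coef F.law g β ≠ 0}.Finite :=
    (coefL (F.law.toFun' _ (uni A g))).hasFiniteSupport
  refine ⟨⟨hfin.toFinset.image (coef F.law g), ?_⟩⟩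
  rw [eq_top_iff, ← coefSpan_eq_top F hF, coefSpan, Submodule.span_le]
  rintro _ ⟨n, b, α, rfl⟩
  choose a ha using fun j => (Submodule.mem_span_range_iff_exists_fun A).mp (hg.symm ▸ Submodule.mem_top : b j ∈ _)
  let φ : MvPolynomial (Fin r) A →ₐ[A] MvPolynomial (Fin n) A := aeval fun i => ∑ j, a j i • X j
  have e : uni A b = rT φ B (uni A g) := by
    simp only [uni, φ, map_sum, rT_tmul, aeval_X, TensorProduct.sum_tmul]
    rw [Finset.sum_comm]
    refine Finset.sum_congr rfl fun j _ => ?_
    rw [← ha j, TensorProduct.tmul_sum]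
    exact Finset.sum_congr rfl fun i _ => by rw [TensorProduct.smul_tmul]
  rw [SetLike.mem_coe, coef, e]
  refine Submodule.span_le.mpr ?_ (coefL_rT_uni F g φ α)
  rintro _ ⟨β, rfl⟩
  by_cases hβ : coef F.law g β = 0
  · simp [hβ]
  · exact Submodule.subset_span (Finset.mem_image.mpr ⟨β, hfin.mem_toFinset.mpr hβ, rfl⟩)

theorem surjective_of_surjective {B' C' : Type u} [CommRing B'] [Algebra A B'] [CommRing C'] [Algebra A C']
    (G : PolLaw.MulLaw A B' C' d) (hG : PolLaw.IsGammaD G) (π : B →ₐ[A] B') (hπ : Function.Surjective π)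
    (φ : C →ₐ[A] C') (hφ : PolLaw.postcomp φ.toLinearMap F.law = (G.precomp π).law) :
    Function.Surjective φ := by
  suffices h : coefSpan G.law ≤ φ.range.toSubmodule by
    intro c
    exact h ((coefSpan_eq_top G hG).symm ▸ Submodule.mem_top)
  rw [coefSpan, Submodule.span_le]
  rintro _ ⟨n, b, α, rfl⟩
  choose b' hb' using fun j => hπ (b j)
  have e : G.law.toFun' _ (uni A b) = φ.toLinearMap.lTensor _ (F.law.toFun' _ (uni A b')) := by
    have h := congrArg (fun L : B →ₚₗ[A] C' => L.toFun' _ (uni A b')) hφ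
    refine Eq.trans ?_ h.symm
    change _ = G.law.toFun' _ (π.toLinearMap.lTensor _ (uni A b'))
    simp [uni, hb']
  rw [SetLike.mem_coe, coef, e, eq_sum_coef (F.law.toFun' _ (uni A b'))]
  simp only [map_sum, LinearMap.lTensor_tmul, Finsupp.finsetSum_apply, coefL_tmul]
  exact sum_mem fun β _ => Submodule.smul_mem _ _ ⟨_, rfl⟩

end Groth.Agent.PolLaw95
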