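import Groth.Agent.PolLaw95.Laws
import Mathlib.RingTheory.TensorProduct.MvPolynomial
import Mathlib.RingTheory.Nilpotent.Lemmas
import Mathlib.Algebra.MvPolynomial.Equiv
import Mathlib.RingTheory.Polynomial.Basic

/-!
Kernels of multiplicative laws: reduction to polynomial test rings, reducedness of the image, limits.
-/

set_option linter.unusedSectionVars false

universe u

open scoped TensorProduct

open MvPolynomial

namespace Groth.Agent.PolLaw95

variable {A B C : Type u} [CommRing A] [CommRing B] [Algebra A B] [CommRing C] [Algebra A C] {d : ℕ}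

theorem mem_ker_iff_poly (F : B →ₚₗ[A] C) (b : B) :
    b ∈ PolLaw.ker F ↔ ∀ (n : ℕ) (u v : MvPolynomial (Fin n) A ⊗[A] B),
      F.toFun' _ (u + v * (1 ⊗ₜ[A] b)) = F.toFun' _ u := by
  refine ⟨fun h n u v => h _ u v, fun h S _ _ x w => ?_⟩
  obtain ⟨n, φ, u, v, rfl, rfl⟩ := exists_common_poly x w
  have : rT φ B u + rT φ B v * (1 ⊗ₜ[A] b) = rT φ B (u + v * (1 ⊗ₜ[A] b)) := by
    simp only [rT_eq_rTA, map_add, map_mul]
    simp [rTA]
  rw [this, ← compat, ← compat, h]

/-- `A[σ] ⊗ D ≅ D[σ]`. -/
noncomputable def polyTensor (σ : Type) (D : Type u) [CommRing D] [Algebra A D] :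
    MvPolynomial σ A ⊗[A] D ≃ₐ[A] MvPolynomial σ D :=
  (Algebra.TensorProduct.comm A (MvPolynomial σ A) D).trans
    ((MvPolynomial.algebraTensorAlgEquiv A D).restrictScalars A)

theorem polyTensor_tmul (σ : Type) {D : Type u} [CommRing D] [Algebra A D] (p : MvPolynomial σ A) (x : D) :
    polyTensor σ D (p ⊗ₜ[A] x) = x • MvPolynomial.map (algebraMap A D) p := by
  simp [polyTensor, MvPolynomial.algebraTensorAlgEquiv_tmul]

/-- In a domain a polynomial law with values `G * G' = const ≠ 0` is constant: evaluation at two points agree. -/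
theorem rTA_eq_of_mul_eq {σ : Type} {D : Type u} [CommRing D] [Algebra A D] [IsDomain D]
    (G G' : MvPolynomial (Option σ) A ⊗[A] D) (c : MvPolynomial σ A ⊗[A] D) (hc : c ≠ 0)
    (h : G * G' = rTA (rename some) D c) (a a' : A) :
    rTA (aeval fun o : Option σ => o.elim (MvPolynomial.C a) X) D G =
      rTA (aeval fun o : Option σ => o.elim (MvPolynomial.C a') X) D G := by
  let e : MvPolynomial (Option σ) A ⊗[A] D →+* Polynomial (MvPolynomial σ D) :=
    (MvPolynomial.optionEquivLeft D σ).toRingEquiv.toRingHom.comp (polyTensor (A := A) (Option σ) D).toRingEquiv.toRingHom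
  have hev : ∀ (r : A) (z : MvPolynomial (Option σ) A ⊗[A] D),
      (e z).eval (MvPolynomial.C (algebraMap A D r)) =
        polyTensor σ D (rTA (aeval fun o : Option σ => o.elim (MvPolynomial.C r) X) D z) := by
    intro r z
    induction z using TensorProduct.induction_on with
    | zero => simp
    | add x y hx hy => simp [hx, hy]
    | tmul p x =>
      simp only [rTA, Algebra.TensorProduct.map_tmul, AlgHom.coe_id, id, polyTensor_tmul, e,
        RingHom.coe_comp, Function.comp_apply]
      induction p using MvPolynomial.induction_on with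
      | C q =>
        simp only [RingEquiv.toRingHom_eq_coe, RingHom.coe_coe, AlgEquiv.toRingEquiv_eq_coe, AlgEquiv.coe_ringEquiv, polyTensor_tmul,
          map_C, aeval_C, algebraMap_eq, Algebra.smul_def]
        simp [optionEquivLeft_C]
      | add p q hp hq =>
        simp only [RingEquiv.toRingHom_eq_coe, RingHom.coe_coe, AlgEquiv.toRingEquiv_eq_coe, AlgEquiv.coe_ringEquiv, polyTensor_tmul] at hp hq ⊢
        rw [map_add, smul_add, map_add, Polynomial.eval_add, hp, hq, ← smul_add, ← map_add, ← map_add]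
      | mul_X p o hp =>
        simp only [RingEquiv.toRingHom_eq_coe, RingHom.coe_coe, AlgEquiv.toRingEquiv_eq_coe, AlgEquiv.coe_ringEquiv, polyTensor_tmul] at hp ⊢
        rw [map_mul, map_mul, map_mul, map_X, ← smul_mul_assoc, ← smul_mul_assoc, map_mul, Polynomial.eval_mul, hp,
          aeval_X]
        cases o with
        | none => simp [optionEquivLeft_X_none]
        | some i => simp [optionEquivLeft_X_some]
  have hconst : ∀ z : MvPolynomial σ A ⊗[A] D, e (rTA (rename some) D z) = Polynomial.C (polyTensor σ D z) := by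
    intro z
    induction z using TensorProduct.induction_on with
    | zero => simp
    | add x y hx hy => simp [hx, hy]
    | tmul p x =>
      simp only [rTA, Algebra.TensorProduct.map_tmul, AlgHom.coe_id, id, polyTensor_tmul, e,
        RingHom.coe_comp, Function.comp_apply, RingEquiv.toRingHom_eq_coe, RingHom.coe_coe,
        AlgEquiv.toRingEquiv_eq_coe, AlgEquiv.coe_ringEquiv, map_rename]
      rw [Algebra.smul_def, Algebra.smul_def, map_mul, map_mul]
      congr 1
      · simp [algebraMap_eq, optionEquivLeft_C]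
      · generalize MvPolynomial.map (algebraMap A D) p = q
        induction q using MvPolynomial.induction_on with
        | C r => simp [optionEquivLeft_C]
        | add p q hp hq => simp [hp, hq]
        | mul_X p i hp => simp [hp, optionEquivLeft_X_some]
  have h1 : e G * e G' = Polynomial.C (polyTensor σ D c) := by rw [← map_mul, h, hconst]
  have hne : polyTensor σ D c ≠ 0 := (map_ne_zero_iff _ (AlgEquiv.injective _)).mpr hc
  have hdeg : (e G).natDegree = 0 := by
    have hG : e G ≠ 0 := fun h0 => hne (Polynomial.C_eq_zero.mp (by rw [← h1, h0, zero_mul]))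
    have hG' : e G' ≠ 0 := fun h0 => hne (Polynomial.C_eq_zero.mp (by rw [← h1, h0, mul_zero]))
    have h2 := congrArg Polynomial.natDegree h1
    rw [Polynomial.natDegree_mul hG hG', Polynomial.natDegree_C] at h2
    omega
  apply (polyTensor (A := A) σ D).injective
  rw [← hev, ← hev, Polynomial.eq_C_of_natDegree_eq_zero hdeg, Polynomial.eval_C, Polynomial.eval_C]

theorem coefL_lTensor {σ : Type} {N P : Type u} [AddCommGroup N] [Module A N] [AddCommGroup P] [Module A P]
    (f : N →ₗ[A] P) (z : MvPolynomial σ A ⊗[A] N) (α : σ →₀ ℕ) :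
    coefL (f.lTensor _ z) α = f (coefL z α) := by
  induction z using TensorProduct.induction_on with
  | zero => simp
  | tmul p m => simp
  | add x y hx hy => simp [map_add, hx, hy]

theorem eq_of_forall_prime [IsReduced C] {σ : Type} (y z : MvPolynomial σ A ⊗[A] C)
    (h : ∀ P : Ideal C, P.IsPrime →
      (Ideal.Quotient.mkₐ A P).toLinearMap.lTensor _ y = (Ideal.Quotient.mkₐ A P).toLinearMap.lTensor _ z) :
    y = z := by
  refine coefL.injective (Finsupp.ext fun α => ?_)
  rw [← sub_eq_zero]
  refine (nilpotent_iff_mem_prime.mpr fun P hP => ?_).eq_zero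
  have h1 := congrArg (fun w => coefL w α) (h P hP)
  simp only [coefL_lTensor] at h1
  exact Ideal.Quotient.eq.mp h1

theorem rTA_smul {S S' : Type u} [CommRing S] [Algebra A S] [CommRing S'] [Algebra A S'] (ψ : S →ₐ[A] S')
    (c : S) (x : S ⊗[A] B) : rTA ψ B (c • x) = ψ c • rTA ψ B x := by
  induction x using TensorProduct.induction_on with
  | zero => simp
  | tmul s b => simp [rTA, TensorProduct.smul_tmul']
  | add x y hx hy => simp [smul_add, hx, hy]

theorem rT_option_poly {σ : Type} {B : Type u} [CommRing B] [Algebra A B] (z : MvPolynomial σ A ⊗[A] B) (a : A) :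
    rTA (aeval fun o : Option σ => o.elim (MvPolynomial.C a) X) B (rTA (rename some) B z) = z := by
  induction z using TensorProduct.induction_on with
  | zero => simp
  | add x y hx hy => simp [hx, hy]
  | tmul p x =>
    simp only [rTA, Algebra.TensorProduct.map_tmul, AlgHom.coe_id, id, aeval_rename]
    rw [show (fun o : Option σ => o.elim (MvPolynomial.C a) X) ∘ some = (X : σ → MvPolynomial σ A) from rfl, aeval_X_left_apply]

theorem mem_ker_of_sq_mem_of_isDomain {D : Type u} [CommRing D] [Algebra A D] [IsDomain D]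
    (F : PolLaw.MulLaw A B D d) (b : B) (hb : b ^ 2 ∈ PolLaw.ker F.law) : b ∈ PolLaw.ker F.law := by
  classical
  rw [mem_ker_iff_poly]
  intro n u v
  let σ := Option (Option (Fin n))
  let ι : MvPolynomial (Fin n) A →ₐ[A] MvPolynomial σ A := rename (some ∘ some)
  let T : MvPolynomial σ A := X none
  let Z : MvPolynomial σ A := X (some none)
  let w : MvPolynomial σ A ⊗[A] B := T • rTA ι B u + Z • 1
  let ev0 : MvPolynomial σ A →ₐ[A] MvPolynomial (Option (Fin n)) A :=
    aeval fun o => o.elim 0 X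
  have hc : F.law.toFun' _ w ≠ 0 := by
    intro h0
    have h1 := congrArg (rT ev0 D) h0
    rw [compat, map_zero, rT_eq_rTA] at h1
    have h2 : rTA ev0 B w = (X none : MvPolynomial (Option (Fin n)) A) • 1 := by
      simp only [w, map_add, rTA_smul, map_one]
      simp [ev0, T, Z]
    rw [h2, F.homog, (F.mult _).1] at h1
    have h3 := congrArg (polyTensor (Option (Fin n)) D) h1
    rw [map_zero, Algebra.TensorProduct.one_def, TensorProduct.smul_tmul', smul_eq_mul, mul_one, polyTensor_tmul,
      one_smul, map_pow, map_X] at h3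
    exact pow_ne_zero _ (X_ne_zero none) h3
  let vb : MvPolynomial σ A ⊗[A] B := rTA ι B v * (1 ⊗ₜ[A] b)
  let w' : MvPolynomial (Option σ) A ⊗[A] B := rTA (rename some) B w
  let y : MvPolynomial (Option σ) A ⊗[A] B := (X none : MvPolynomial (Option σ) A) • rTA (rename some) B vb
  have hmul : F.law.toFun' _ (w' + y) * F.law.toFun' _ (w' - y) =
      rTA (rename some) D (F.law.toFun' _ w * F.law.toFun' _ w) := by
    rw [map_mul, ← rT_eq_rTA, compat, rT_eq_rTA, ← (F.mult _).2, ← (F.mult _).2]
    have he : (w' + y) * (w' - y) = w' * w' +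
        (-((X none : MvPolynomial (Option σ) A) ^ 2 • rTA (rename some) B (rTA ι B v * rTA ι B v))) * (1 ⊗ₜ[A] (b ^ 2)) := by
      simp only [y, vb, map_mul, Algebra.smul_def, map_pow]
      simp only [rTA, Algebra.TensorProduct.map_tmul, map_one, AlgHom.coe_id, id]
      rw [show (1 : MvPolynomial (Option σ) A) ⊗ₜ[A] (b ^ 2) = (1 ⊗ₜ[A] b) ^ 2 by
        rw [Algebra.TensorProduct.tmul_pow, one_pow]]
      ring
    rw [he]
    exact (hb (MvPolynomial (Option σ) A) (w' * w') _).trans rfl
  have key := rTA_eq_of_mul_eq _ _ _ (fun h0 => hc (by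
    have h1 := congrArg (polyTensor σ D) h0
    rw [map_mul, map_zero, mul_self_eq_zero] at h1
    exact (map_eq_zero_iff _ (AlgEquiv.injective _)).mp h1)) hmul 0 1
  let ev : MvPolynomial σ A →ₐ[A] MvPolynomial (Fin n) A := aeval fun o => o.elim 1 fun o' => o'.elim 0 X
  have key2 := congrArg (rTA ev D) key
  simp only [← rT_eq_rTA, compat] at key2
  simp only [rT_eq_rTA] at key2
  have hvy : ∀ a : A, rTA ev B (rTA (aeval fun o : Option σ => o.elim (MvPolynomial.C a) X) B (w' + y)) =
      u + a • (v * (1 ⊗ₜ[A] b)) := by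
    intro a
    have hwu : rTA ev B w = u := by
      have hcomp : ev.comp ι = AlgHom.id A _ := algHom_ext fun i => by simp [ev, ι]
      have hu : ∀ z, rTA ev B (rTA ι B z) = z := fun z => by
        rw [← rT_eq_rTA, ← rT_eq_rTA, rT_rT, hcomp]; simp [rT]
      simp only [w, map_add, rTA_smul, hu, map_one]
      simp [ev, T, Z]
    have hvb : rTA ev B vb = v * (1 ⊗ₜ[A] b) := by
      have hcomp : ev.comp ι = AlgHom.id A _ := algHom_ext fun i => by simp [ev, ι]
      rw [map_mul, ← rT_eq_rTA ev (rTA ι B v), ← rT_eq_rTA, rT_rT, hcomp]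
      simp [rTA, rT]
    rw [map_add, map_add, rT_option_poly, hwu]
    congr 1
    rw [rTA_smul, rT_option_poly, rTA_smul, hvb]
    simp only [aeval_X, Option.elim_none, aeval_C, ← algebraMap_eq, AlgHom.commutes]
    exact algebraMap_smul _ _ _
  rw [hvy, hvy, zero_smul, add_zero, one_smul] at key2
  exact key2.symm

theorem mem_ker_of_sq_mem [IsReduced C] (F : PolLaw.MulLaw A B C d) (b : B) (hb : b ^ 2 ∈ PolLaw.ker F.law) :
    b ∈ PolLaw.ker F.law := by
  rw [mem_ker_iff_poly]
  intro n u v
  refine eq_of_forall_prime _ _ fun P hP => ?_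
  have := Ideal.Quotient.isDomain P
  refine mem_ker_of_sq_mem_of_isDomain (PolLaw.MulLaw.postcomp (Ideal.Quotient.mkₐ A P) F) b ?_ _ u v
  intro S _ _ x w
  exact congrArg ((Ideal.Quotient.mkₐ A P).toLinearMap.lTensor S) (hb S x w)

theorem mem_ker_iff_of_lift {ι : Type u} [Preorder ι] [IsDirected ι (fun i j => i ≤ j)] [Nonempty ι]
    (Bi : ι → Type u) [∀ i, CommRing (Bi i)] [∀ i, Algebra A (Bi i)]
    (t : ∀ i j : ι, i ≤ j → (Bi i →ₐ[A] Bi j)) (φ : ∀ i : ι, Bi i →ₐ[A] B)
    (hcomp : ∀ (i j : ι) (h : i ≤ j), (φ j).comp (t i j h) = φ i)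
    (hsurj : ∀ b : B, ∃ (i : ι) (x : Bi i), φ i x = b)
    (F : PolLaw.MulLaw A B C d) (b : B) :
    b ∈ PolLaw.ker F.law ↔ ∃ (i : ι) (x : Bi i), φ i x = b ∧
      ∀ (j : ι) (h : i ≤ j), t i j h x ∈ PolLaw.ker (F.precomp (φ j)).law := by
  have hlift : ∀ (j : ι) (S : Type u) [CommSemiring S] [Algebra A S] (X W : S ⊗[A] Bi j) (z : Bi j),
      (φ j).toLinearMap.lTensor S (X + W * (1 ⊗ₜ[A] z)) =
        (φ j).toLinearMap.lTensor S X + (φ j).toLinearMap.lTensor S W * (1 ⊗ₜ[A] φ j z) := by
    intro j S _ _ X W z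
    simp only [PolLaw.lTensor_algHom_apply, map_add, map_mul, Algebra.TensorProduct.map_tmul, map_one]
  refine ⟨fun hb => ?_, ?_⟩
  · obtain ⟨i, x, hx⟩ := hsurj b
    refine ⟨i, x, hx, fun j h S _ _ X W => ?_⟩
    change F.law.toFun' S ((φ j).toLinearMap.lTensor S _) = F.law.toFun' S ((φ j).toLinearMap.lTensor S X)
    rw [hlift, show φ j (t i j h x) = b by rw [← hx]; exact DFunLike.congr_fun (hcomp i j h) x]
    exact hb S _ _
  · rintro ⟨i, x, hx, h⟩ S _ _ X W
    obtain ⟨n, s, c, rfl⟩ := exists_eq_sum X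
    obtain ⟨m, r, e, rfl⟩ := exists_eq_sum W
    choose i1 x1 hx1 using fun k => hsurj (c k)
    choose i2 x2 hx2 using fun k => hsurj (e k)
    classical
    obtain ⟨j, hj⟩ := Finset.exists_le ({i} ∪ (Finset.univ.image i1 ∪ Finset.univ.image i2))
    have hij : i ≤ j := hj i (by simp)
    have hj1 : ∀ k, i1 k ≤ j := fun k => hj _ (by simp)
    have hj2 : ∀ k, i2 k ≤ j := fun k => hj _ (by simp)
    have e1 := h j hij S (∑ k, s k ⊗ₜ[A] t _ j (hj1 k) (x1 k)) (∑ k, r k ⊗ₜ[A] t _ j (hj2 k) (x2 k))
    change F.law.toFun' S ((φ j).toLinearMap.lTensor S _) = F.law.toFun' S ((φ j).toLinearMap.lTensor S _) at e1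
    rw [hlift, show φ j (t i j hij x) = b by rw [← hx]; exact DFunLike.congr_fun (hcomp i j hij) x] at e1
    have c1 : ∀ k, φ j (t _ j (hj1 k) (x1 k)) = c k := fun k => by
      rw [← hx1 k]; exact DFunLike.congr_fun (hcomp _ _ (hj1 k)) _
    have c2 : ∀ k, φ j (t _ j (hj2 k) (x2 k)) = e k := fun k => by
      rw [← hx2 k]; exact DFunLike.congr_fun (hcomp _ _ (hj2 k)) _
    simpa [map_sum, c1, c2] using e1

end Groth.Agent.PolLaw95
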