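import Groth.Agent.PolLaw95.SymLaw
import Groth.Agent.PolLaw95.Counts
import Groth.Agent.PolLaw95.Gen
import Groth.Agent.PolLaw95.Ker
import Mathlib.LinearAlgebra.PiTensorProduct.Basis
import Mathlib.LinearAlgebra.TensorProduct.Basis

/-!
For a free algebra the symmetric tensors are the divided powers.
-/

set_option linter.unusedSectionVars false

universe u

open scoped TensorProduct

open MvPolynomial

namespace Groth.Agent.PolLaw95

section Factor

variable {A B C C' : Type u} [CommRing A] [CommRing B] [Algebra A B] [CommRing C] [Algebra A C]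
  [CommRing C'] [Algebra A C'] {d : ℕ}

theorem coef_mul_coef (F : PolLaw.MulLaw A B C d) {n m : ℕ} (b : Fin n → B) (c : Fin m → B) (α : Fin n →₀ ℕ)
    (β : Fin m →₀ ℕ) :
    coefL (F.law.toFun' _ (rT (rename (Fin.castAdd m)) B (uni A b) * rT (rename (Fin.natAdd n)) B (uni A c)))
      (α.mapDomain (Fin.castAdd m) + β.mapDomain (Fin.natAdd n)) = coef F.law b α * coef F.law c β := by
  classical
  rw [(F.mult _).2, ← compat, ← compat, eq_sum_coef (F.law.toFun' _ (uni A b)), eq_sum_coef (F.law.toFun' _ (uni A c))]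
  simp only [map_sum, rT_tmul, rename_monomial, Finset.sum_mul, Finset.mul_sum,
    Algebra.TensorProduct.tmul_mul_tmul, monomial_mul, mul_one, Finsupp.finsetSum_apply, coefL_tmul, coeff_monomial]
  have hinj : ∀ (a : Fin n →₀ ℕ) (a' : Fin m →₀ ℕ),
      a.mapDomain (Fin.castAdd m) + a'.mapDomain (Fin.natAdd n) =
        α.mapDomain (Fin.castAdd m) + β.mapDomain (Fin.natAdd n) → a = α ∧ a' = β := by
    intro a a' h
    have hne : ∀ (i : Fin n) (j : Fin m), Fin.castAdd m i ≠ Fin.natAdd n j := fun i j e => by
      have := congrArg Fin.val e; simp at this; omega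
    refine ⟨Finsupp.ext fun i => ?_, Finsupp.ext fun j => ?_⟩
    · have := DFunLike.congr_fun h (Fin.castAdd m i)
      simpa [Finsupp.mapDomain_apply (Fin.castAdd_injective n m),
        Finsupp.mapDomain_of_notMem_range _ _ (fun ⟨j, e⟩ => hne i j e.symm)] using this
    · have := DFunLike.congr_fun h (Fin.natAdd n j)
      simpa [Finsupp.mapDomain_apply (Fin.natAdd_injective m n),
        Finsupp.mapDomain_of_notMem_range _ _ (fun ⟨i, e⟩ => hne i j e)] using this
  rw [Finset.sum_eq_single β, Finset.sum_eq_single α, if_pos rfl, one_smul]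
  · rfl
  · intro a _ ha
    rw [if_neg fun e => ha (hinj a β e).1, zero_smul]
  · intro ha
    rw [Finsupp.notMem_support_iff.mp ha]; simp
  · intro a' _ ha'
    exact Finset.sum_eq_zero fun a _ => by rw [if_neg fun e => ha' (hinj a a' e).2, zero_smul]
  · intro ha'
    exact Finset.sum_eq_zero fun a _ => by rw [Finsupp.notMem_support_iff.mp ha']; simp

/-- A linear map through which a multiplicative law factors is multiplicative. -/
theorem exists_algHom_of_factor (G : PolLaw.MulLaw A B C d) (hG : coefSpan G.law = ⊤)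
    (F : PolLaw.MulLaw A B C' d) (Φ : C →ₗ[A] C')
    (h : ∀ (n : ℕ) (z : MvPolynomial (Fin n) A ⊗[A] B), Φ.lTensor _ (G.law.toFun' _ z) = F.law.toFun' _ z) :
    ∃! f : C →ₐ[A] C', PolLaw.postcomp f.toLinearMap G.law = F.law := by
  classical
  have hone : Φ 1 = 1 := by
    have h1 := h 0 1
    rw [(G.mult _).1, (F.mult _).1, Algebra.TensorProduct.one_def, Algebra.TensorProduct.one_def,
      LinearMap.lTensor_tmul] at h1
    simpa using congrArg (fun z => coefL z 0) h1
  have hcoef : ∀ (m : ℕ) (z : MvPolynomial (Fin m) A ⊗[A] B) (α : Fin m →₀ ℕ),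
      Φ (coefL (G.law.toFun' _ z) α) = coefL (F.law.toFun' _ z) α := fun m z α => by
    rw [← h, coefL_lTensor]
  have hmul : ∀ x y : C, Φ (x * y) = Φ x * Φ y := by
    have hx' : ∀ x : C, x ∈ coefSpan G.law := fun x => hG ▸ Submodule.mem_top
    intro x y
    induction hx' x using Submodule.span_induction with
    | mem x hx =>
      induction hx' y using Submodule.span_induction with
      | mem y hy =>
        obtain ⟨n, b, α, rfl⟩ := hx
        obtain ⟨m, c, β, rfl⟩ := hy
        rw [← coef_mul_coef G b c α β, hcoef, coef_mul_coef F b c α β]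
        rw [coef, coef, coef, coef, hcoef, hcoef]
      | zero => simp
      | add a b _ _ ha hb => simp [mul_add, ha, hb]
      | smul r a _ ha => simp [ha]
    | zero => simp
    | add a b _ _ ha hb => simp [add_mul, ha, hb]
    | smul r a _ ha => simp [ha]
  refine ⟨AlgHom.ofLinearMap Φ hone hmul, law_ext fun n z => h n z, fun f hf => ?_⟩
  refine AlgHom.toLinearMap_injective (LinearMap.ext fun c => ?_)
  refine eq_on_coefSpan G.law (fun n z => ?_) c (hG ▸ Submodule.mem_top)
  exact (congrFun (congrArg (fun L : B →ₚₗ[A] C' => L.toFun' _) hf) z).trans (h n z).symm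

end Factor

section Free

variable {A B C' : Type u} [CommRing A] [CommRing B] [Algebra A B] [CommRing C'] [Algebra A C'] {d : ℕ}
  {ι : Type u} (e : Module.Basis ι A B)

/-- The chosen representatives of orbits of index functions. -/
noncomputable def orbitSetoid (d : ℕ) (ι : Type u) : Setoid (Fin d → ι) where
  r c c' := ∃ σ : Equiv.Perm (Fin d), c' = c ∘ σ
  iseqv :=
    { refl := fun c => ⟨1, rfl⟩
      symm := fun {c c'} ⟨σ, h⟩ => ⟨σ⁻¹, by subst h; funext i; simp⟩
      trans := fun {c c' c''} ⟨σ, h⟩ ⟨τ, h'⟩ => ⟨σ * τ, by subst h; subst h'; funext i; simp⟩ }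

/-- The representative of an orbit. -/
noncomputable def orbitRep (c : Fin d → ι) : Fin d → ι := (Quotient.mk (orbitSetoid d ι) c).out

theorem exists_perm_orbitRep (c : Fin d → ι) : ∃ σ : Equiv.Perm (Fin d), orbitRep c = c ∘ σ :=
  (Quotient.exact (Quotient.out_eq (Quotient.mk (orbitSetoid d ι) c)).symm : (orbitSetoid d ι).r c (orbitRep c))

theorem orbitRep_comp (c : Fin d → ι) (σ : Equiv.Perm (Fin d)) : orbitRep (c ∘ σ) = orbitRep c :=
  congrArg Quotient.out (Quotient.sound (⟨σ, rfl⟩ : (orbitSetoid d ι).r c (c ∘ σ))).symm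

theorem exists_enum (c : Fin d → ι) :
    ∃ (m : ℕ) (g : Fin m → ι) (k : Fin d → Fin m), Function.Injective g ∧ c = g ∘ k ∧ Function.Surjective k := by
  classical
  let s := Finset.univ.image c
  refine ⟨s.card, fun i => (s.equivFin.symm i : ι), fun j => s.equivFin ⟨c j, Finset.mem_image_of_mem _ (Finset.mem_univ j)⟩,
    fun a b h => s.equivFin.symm.injective (Subtype.ext h), funext fun j => ?_, fun i => ?_⟩
  · simp
  · obtain ⟨j, -, hj⟩ := Finset.mem_image.mp (s.equivFin.symm i).2
    exact ⟨j, (congrArg s.equivFin (Subtype.ext hj : (⟨c j, _⟩ : s) = s.equivFin.symm i)).trans (s.equivFin.apply_symm_apply i)⟩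

/-- The coefficient of a law at a multiset of basis vectors. -/
noncomputable def coefAt (F : B →ₚₗ[A] C') (c : Fin d → ι) : C' :=
  coef F (e ∘ (exists_enum c).choose_spec.choose) (counts (exists_enum c).choose_spec.choose_spec.choose)

theorem coefAt_comp (F : B →ₚₗ[A] C') {n : ℕ} (f : Fin n → ι) (hf : Function.Injective f) (c : Fin d → Fin n) :
    coefAt e F (f ∘ c) = coef F (e ∘ f) (counts c) := by
  suffices key : ∀ (m : ℕ) (g : Fin m → ι) (k : Fin d → Fin m), Function.Injective g → f ∘ c = g ∘ k →
      Function.Surjective k → coef F (e ∘ g) (counts k) = coef F (e ∘ f) (counts c) by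
    obtain ⟨hg, hc, hk⟩ := (exists_enum (f ∘ c)).choose_spec.choose_spec.choose_spec
    exact key _ _ _ hg hc hk
  intro m g k hg hc hk
  let h : Fin m → Fin n := fun i => c (Function.surjInv hk i)
  have hfh : f ∘ h = g := funext fun i =>
    (congrFun hc (Function.surjInv hk i)).trans (congrArg g (Function.surjInv_eq hk i))
  have hh : Function.Injective h := fun a b hab => hg (by rw [← hfh]; exact congrArg f hab)
  have hck : c = h ∘ k := funext fun j => hf ((congrFun hc j).trans (congrFun hfh (k j)).symm)
  rw [hck, show counts (h ∘ k) = (counts k).mapDomain h from Finsupp.mapDomain_comp,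
    coef_mapDomain F h hh, Function.comp_assoc, hfh]

/-- The linear map on tensors given by coefficients at representatives. -/
noncomputable def coefMap (F : B →ₚₗ[A] C') : (⨂[A] _ : Fin d, B) →ₗ[A] C' :=
  letI := Classical.decEq (Fin d → ι)
  (Basis.piTensorProduct fun _ : Fin d => e).constr A fun c => if orbitRep c = c then coefAt e F c else 0

theorem coefMap_tprod [DecidableEq (Fin d → ι)] (F : B →ₚₗ[A] C') (c : Fin d → ι) :
    coefMap e F (PiTensorProduct.tprod A fun i => e (c i)) = if orbitRep c = c then coefAt e F c else 0 := by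
  rw [← Basis.piTensorProduct_apply (fun _ : Fin d => e) c, coefMap, Module.Basis.constr_basis]
  congr

theorem coef_eq_zero_of_degree (F : PolLaw.MulLaw A B C' d) {n : ℕ} (b : Fin n → B) {β : Fin n →₀ ℕ}
    (h : β.sum (fun _ e => e) ≠ d) : coef F.law b β = 0 := by
  by_contra h0
  exact h (degree_eq_of_coef_ne_zero F b β h0)

theorem coefMap_sym0_basis (F : PolLaw.MulLaw A B C' d) (S : Type u) [CommSemiring S] [Algebra A S] {n : ℕ}
    (f : Fin n → ι) (hf : Function.Injective f) (s : Fin n → S) :
    (coefMap e F.law).lTensor S ((sym0 A B d).law.toFun' S (∑ j, s j ⊗ₜ[A] e (f j))) =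
      F.law.toFun' S (∑ j, s j ⊗ₜ[A] e (f j)) := by
  classical
  rw [sym0_sum, map_sum, toFun'_sum]
  simp only [LinearMap.lTensor_tmul, coefMap_tprod e F.law (fun i => f _)]
  have h1 : ∀ c : Fin d → Fin n, (∏ i, s (c i)) ⊗ₜ[A] (if orbitRep (f ∘ c) = f ∘ c then coefAt e F.law (f ∘ c) else 0) =
      if orbitRep (f ∘ c) = f ∘ c then ((counts c).prod fun j k => s j ^ k) ⊗ₜ[A] coef F.law (e ∘ f) (counts c) else 0 := by
    intro c
    split_ifs
    · rw [coefAt_comp e F.law f hf]
      congr 1
      rw [counts, Finsupp.prod_mapDomain_index (by simp) (by simp [pow_add]),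
        Finsupp.prod_fintype _ _ (by simp)]
      simp [onesE]
    · simp
  refine (Finset.sum_congr rfl fun c _ => h1 c).trans ?_
  rw [← Finset.sum_filter, ← Finset.sum_image (f := fun β : Fin n →₀ ℕ =>
    (β.prod fun j k => s j ^ k) ⊗ₜ[A] coef F.law (e ∘ f) β) (g := counts)]
  · symm
    refine Finset.sum_subset (fun β hβ => ?_) fun β _ hβ => ?_
    · have hd : β.sum (fun _ e => e) = d := by
        by_contra h
        exact Finsupp.mem_support_iff.mp hβ (coef_eq_zero_of_degree F (e ∘ f) h)
      obtain ⟨c, rfl⟩ := exists_counts β hd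
      obtain ⟨σ, hσ⟩ := exists_perm_orbitRep (f ∘ c)
      refine Finset.mem_image.mpr ⟨c ∘ σ, Finset.mem_filter.mpr ⟨Finset.mem_univ _, ?_⟩, counts_comp_perm c σ⟩
      rw [← Function.comp_assoc, orbitRep_comp, hσ]
    · rw [show coef F.law (fun j => e (f j)) β = 0 from Finsupp.notMem_support_iff.mp hβ, TensorProduct.tmul_zero]
  · intro c hc c' hc' hcc
    simp only [Finset.coe_filter, Finset.mem_univ, true_and, Set.mem_ofPred_eq] at hc hc'
    obtain ⟨σ, rfl⟩ := exists_perm_of_counts_eq hcc
    rw [← Function.comp_assoc, orbitRep_comp, hc] at hc'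
    exact funext fun i => hf (congrFun hc' i)

theorem coefMap_sym0 (F : PolLaw.MulLaw A B C' d) (S : Type u) [CommSemiring S] [Algebra A S] (x : S ⊗[A] B) :
    (coefMap e F.law).lTensor S ((sym0 A B d).law.toFun' S x) = F.law.toFun' S x := by
  classical
  obtain ⟨l, rfl⟩ := (TensorProduct.equivFinsuppOfBasisRight e).symm.surjective x
  rw [TensorProduct.equivFinsuppOfBasisRight_symm_apply, Finsupp.sum,
    ← Finset.sum_coe_sort l.support, ← l.support.equivFin.symm.sum_comp]
  exact coefMap_sym0_basis e F S (fun j => (l.support.equivFin.symm j : ι))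
    (fun a b h => l.support.equivFin.symm.injective (Subtype.ext h)) _

theorem coefMap_sym (F : PolLaw.MulLaw A B C' d) (S : Type u) [CommSemiring S] [Algebra A S] (x : S ⊗[A] B) :
    ((coefMap e F.law).comp (SymTen.TS A B d).val.toLinearMap).lTensor S ((sym A B d).law.toFun' S x) =
      F.law.toFun' S x := by
  rw [LinearMap.lTensor_comp, LinearMap.comp_apply, val_sym, coefMap_sym0 e F]

include e in
theorem coefSpan_sym_eq_top : coefSpan (sym A B d).law = ⊤ := by
  classical
  rw [eq_top_iff]
  intro z _
  let bT := Basis.piTensorProduct fun _ : Fin d => e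
  -- the element rebuilt from the coefficients at representatives is `z`
  let w : SymTen.TS A B d := coefMap e (sym A B d).law (z : ⨂[A] _ : Fin d, B)
  have hwmem : w ∈ coefSpan (sym A B d).law := by
    rw [show w = (bT.repr (z : ⨂[A] _ : Fin d, B)).sum fun c a =>
        a • (if orbitRep c = c then coefAt e (sym A B d).law c else 0) by
      simp only [w, coefMap, Module.Basis.constr_apply]; congr!]
    refine sum_mem fun c _ => Submodule.smul_mem _ _ ?_
    split_ifs
    exacts [coef_mem_coefSpan _ _ _, zero_mem _]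
  suffices hw : w = z by rwa [hw] at hwmem
  have hinv : ∀ (σ : Equiv.Perm (Fin d)) (p : Fin d → ι), bT.repr (z : ⨂[A] _ : Fin d, B) (p ∘ σ) = bT.repr (z : ⨂[A] _ : Fin d, B) p := by
    intro σ p
    have h : (Finsupp.lapply p).comp (bT.repr.toLinearMap.comp (PiTensorProduct.reindex A (fun _ : Fin d => B) σ).toLinearMap) =
        (Finsupp.lapply (p ∘ σ)).comp bT.repr.toLinearMap := by
      refine bT.ext fun c => ?_
      simp only [LinearMap.comp_apply, LinearEquiv.coe_coe, bT, Basis.piTensorProduct_apply,
        PiTensorProduct.reindex_tprod, Finsupp.lapply_apply]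
      rw [← Basis.piTensorProduct_apply (fun _ : Fin d => e) (fun i => c (σ.symm i)),
        ← Basis.piTensorProduct_apply (fun _ : Fin d => e) c, Module.Basis.repr_self, Module.Basis.repr_self,
        Finsupp.single_apply, Finsupp.single_apply]
      exact if_congr ⟨fun h => funext fun i => by simpa using congrFun h (σ i),
        fun h => funext fun i => by simpa using congrFun h (σ.symm i)⟩ rfl rfl
    have h2 := LinearMap.congr_fun h (z : ⨂[A] _ : Fin d, B)
    simp only [LinearMap.comp_apply, LinearEquiv.coe_coe, Finsupp.lapply_apply] at h2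
    rw [z.2 σ] at h2
    exact h2.symm
  have hat : ∀ (c p : Fin d → ι), bT.repr ((coefAt e (sym A B d).law c : SymTen.TS A B d) : ⨂[A] _ : Fin d, B) p =
      if orbitRep p = orbitRep c then 1 else 0 := by
    intro c p
    suffices key : ∀ (m : ℕ) (g : Fin m → ι) (k : Fin d → Fin m), Function.Injective g → c = g ∘ k →
        bT.repr ((coef (sym A B d).law (e ∘ g) (counts k) : SymTen.TS A B d) : ⨂[A] _ : Fin d, B) p =
          if orbitRep p = orbitRep c then 1 else 0 by
      obtain ⟨hg, hc, -⟩ := (exists_enum c).choose_spec.choose_spec.choose_spec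
      exact key _ _ _ hg hc
    intro m g k hg hc
    rw [val_sym_coef, sym0_coef, map_sum, Finsupp.finsetSum_apply]
    have he : ∀ q : Fin d → Fin m, (PiTensorProduct.tprod A fun i => (e ∘ g) (q i)) = bT (g ∘ q) := fun q =>
      (Basis.piTensorProduct_apply (fun _ : Fin d => e) (g ∘ q)).symm
    by_cases h : orbitRep p = orbitRep c
    · obtain ⟨σ, hσ⟩ := exists_perm_orbitRep p
      obtain ⟨τ, hτ⟩ := exists_perm_orbitRep c
      have hp : p = g ∘ (k ∘ (τ * σ⁻¹)) := by
        rw [h, hτ] at hσ
        funext i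
        have := congrFun hσ (σ⁻¹ i)
        simp only [Function.comp_apply, Equiv.Perm.coe_mul, Equiv.Perm.coe_inv, Equiv.apply_symm_apply] at this ⊢
        rw [hc] at this
        exact this.symm
      rw [if_pos h, Finset.sum_eq_single (k ∘ (τ * σ⁻¹))]
      · rw [if_pos (counts_comp_perm k _), he, ← hp, Module.Basis.repr_self, Finsupp.single_eq_same]
      · intro q _ hq
        split_ifs
        · rw [he, Module.Basis.repr_self, Finsupp.single_eq_of_ne]
          rw [hp]
          exact fun e' => hq (funext fun i => hg (congrFun e'.symm i))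
        · simp
      · simp
    · rw [if_neg h]
      refine Finset.sum_eq_zero fun q _ => ?_
      split_ifs with hq
      · rw [he, Module.Basis.repr_self, Finsupp.single_eq_of_ne]
        intro e'
        obtain ⟨σ, rfl⟩ := exists_perm_of_counts_eq hq.symm
        exact h (by rw [e', ← Function.comp_assoc, orbitRep_comp, ← hc])
      · simp
  refine Subtype.ext (bT.ext_elem fun p => ?_)
  set l := bT.repr (z : ⨂[A] _ : Fin d, B) with hl
  have hw2 : (w : ⨂[A] _ : Fin d, B) = l.sum fun c a =>
      a • (((if orbitRep c = c then coefAt e (sym A B d).law c else 0 : SymTen.TS A B d)) : ⨂[A] _ : Fin d, B) := by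
    simp only [w, coefMap, Module.Basis.constr_apply, Finsupp.sum, AddSubmonoidClass.coe_finsetSum, SetLike.val_smul]
    congr!
  rw [hw2, map_finsuppSum, Finsupp.sum_apply, Finsupp.sum]
  simp only [map_smul, Finsupp.smul_apply, smul_eq_mul, apply_ite (Subtype.val : SymTen.TS A B d → _),
    ZeroMemClass.coe_zero, apply_ite (bT.repr), map_zero]
  have hterm : ∀ c, l c * ((if orbitRep c = c then bT.repr ((coefAt e (sym A B d).law c : SymTen.TS A B d) :
      ⨂[A] _ : Fin d, B) else 0) p) = if c = orbitRep p then l c else 0 := by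
    intro c
    by_cases hc : orbitRep c = c
    · rw [if_pos hc, hat, hc]
      by_cases hcp : c = orbitRep p
      · simp [hcp]
      · simp [hcp, Ne.symm hcp]
    · rw [if_neg hc, if_neg (fun h => hc (by
        obtain ⟨σ, hσ⟩ := exists_perm_orbitRep p
        rw [h]; conv_lhs => rw [hσ, orbitRep_comp]))]
      simp
  rw [Finset.sum_congr rfl fun c _ => hterm c, Finset.sum_ite_eq']
  obtain ⟨σ, hσ⟩ := exists_perm_orbitRep p
  have : l (orbitRep p) = l p := by rw [hσ]; exact hinv σ p
  split_ifs with hm
  · exact this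
  · rw [← this, Finsupp.notMem_support_iff.mp hm]

include e in
/-- For a free algebra `x ↦ x ⊗ ⋯ ⊗ x` is universal. -/
theorem isGammaD_sym : PolLaw.IsGammaD (sym A B d) := fun _ _ _ F =>
  exists_algHom_of_factor (sym A B d) (coefSpan_sym_eq_top e) F
    ((coefMap e F.law).comp (SymTen.TS A B d).val.toLinearMap) fun _ z => coefMap_sym e F _ z

end Free

end Groth.Agent.PolLaw95
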