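import Mathlib.LinearAlgebra.PiTensorProduct.Basic
import Mathlib.LinearAlgebra.Quotient.Basic

/-!
The kernel of the tensor power of a surjection.
-/

universe u

open scoped TensorProduct

namespace Groth.Agent.PolLaw95

variable {A : Type u} [CommRing A] {P B : Type u} [AddCommGroup P] [Module A P] [AddCommGroup B] [Module A B]
  {ι : Type} [DecidableEq ι] [Fintype ι] (π : P →ₗ[A] B)

/-- Tensors with a factor in the kernel. -/
def slotKer : Submodule A (⨂[A] _ : ι, P) :=
  Submodule.span A {t | ∃ v : ι → P, (∃ i, π (v i) = 0) ∧ PiTensorProduct.tprod A v = t}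

theorem mkQ_tprod_congr {v w : ι → P} (h : ∀ i, π (v i) = π (w i)) :
    (slotKer π).mkQ (PiTensorProduct.tprod A v) = (slotKer π).mkQ (PiTensorProduct.tprod A w) := by
  classical
  suffices ∀ s : Finset ι, (slotKer π).mkQ (PiTensorProduct.tprod A (s.piecewise w v)) =
      (slotKer π).mkQ (PiTensorProduct.tprod A v) by
    have := this Finset.univ
    rwa [Finset.piecewise_univ, eq_comm] at this
  intro s
  induction s using Finset.induction with
  | empty => rw [Finset.piecewise_empty]
  | insert a s ha ih =>
    rw [← ih]
    set u := s.piecewise w v
    have hu : u a = v a := by simp [u, ha]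
    rw [Finset.piecewise_insert]
    change (slotKer π).mkQ (PiTensorProduct.tprod A (Function.update u a (w a))) = _
    rw [← sub_eq_zero, ← map_sub, Submodule.mkQ_apply, Submodule.Quotient.mk_eq_zero]
    rw [show PiTensorProduct.tprod A u = PiTensorProduct.tprod A (Function.update u a (u a)) by
      rw [Function.update_eq_self], ← MultilinearMap.map_update_sub]
    refine Submodule.subset_span ⟨_, ⟨a, ?_⟩, rfl⟩
    rw [Function.update_self, map_sub, hu, h a, sub_self]

theorem mem_slotKer_of_map_eq_zero (hπ : Function.Surjective π) (y : ⨂[A] _ : ι, P)
    (hy : PiTensorProduct.map (fun _ : ι => π) y = 0) : y ∈ slotKer π := by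
  let s := Function.surjInv hπ
  have hs : ∀ b, π (s b) = b := Function.surjInv_eq hπ
  let μ : MultilinearMap A (fun _ : ι => B) ((⨂[A] _ : ι, P) ⧸ slotKer π) :=
    MultilinearMap.mk' (fun b => (slotKer π).mkQ (PiTensorProduct.tprod A fun i => s (b i)))
      (fun b i x y => by
        have e : ∀ z, (fun j => s (Function.update b i z j)) = Function.update (fun j => s (b j)) i (s z) :=
          fun z => funext fun j => Function.apply_update (fun _ => s) b i z j
        rw [e, e, e, ← map_add, ← MultilinearMap.map_update_add]
        refine mkQ_tprod_congr π fun j => ?_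
        by_cases hj : j = i
        · subst hj; simp [hs]
        · simp [hj])
      (fun b i c x => by
        have e : ∀ z, (fun j => s (Function.update b i z j)) = Function.update (fun j => s (b j)) i (s z) :=
          fun z => funext fun j => Function.apply_update (fun _ => s) b i z j
        rw [e, e, ← map_smul, ← MultilinearMap.map_update_smul]
        refine mkQ_tprod_congr π fun j => ?_
        by_cases hj : j = i
        · subst hj; simp [hs]
        · simp [hj])
  have h : ∀ t, PiTensorProduct.lift μ (PiTensorProduct.map (fun _ : ι => π) t) = (slotKer π).mkQ t := by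
    intro t
    induction t using PiTensorProduct.induction_on with
    | smul_tprod r v =>
      simp only [map_smul, PiTensorProduct.map_tprod, PiTensorProduct.lift.tprod]
      congr 1
      exact mkQ_tprod_congr π fun i => hs _
    | add x y hx hy => simp only [map_add, hx, hy]
  rw [← Submodule.Quotient.mk_eq_zero, ← Submodule.mkQ_apply, ← h, hy, map_zero]

end Groth.Agent.PolLaw95
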