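import Groth.Agent.PolLaw95.Polar
import Groth.Prelude.Def_SymTen
import Mathlib.LinearAlgebra.PiTensorProduct.Basic

/-!
The map from divided powers to symmetric tensors and the transfer map.
-/

set_option linter.unusedSectionVars false

universe u

open scoped TensorProduct

open MvPolynomial

namespace Groth.Agent.PolLaw95

variable {A B C : Type u} [CommRing A] [CommRing B] [Algebra A B] [CommRing C] [Algebra A C] {d : ℕ}
  (γ : PolLaw.MulLaw A B C d) (φ : C →ₐ[A] SymTen.TS A B d)
  (hφ : ∀ (S : Type u) [CommSemiring S] [Algebra A S] (n : ℕ) (s : Fin n → S) (b : Fin n → B),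
      ((SymTen.TS A B d).val.comp φ).toLinearMap.lTensor S (γ.law.toFun' S (∑ j, s j ⊗ₜ[A] b j)) =
        ∑ c : Fin d → Fin n, (∏ i, s (c i)) ⊗ₜ[A] PiTensorProduct.tprod A (fun i => b (c i)))

include hφ in
theorem phi_coef {n : ℕ} (b : Fin n → B) (β : Fin n →₀ ℕ) :
    ((φ (coef γ.law b β)) : ⨂[A] _ : Fin d, B) =
      ∑ c : Fin d → Fin n, if counts c = β then PiTensorProduct.tprod A (fun i => b (c i)) else 0 := by
  classical
  have h := congrArg (fun z => coefL z β) (hφ (MvPolynomial (Fin n) A) n X b)
  rw [show (∑ j, (X j : MvPolynomial (Fin n) A) ⊗ₜ[A] b j) = uni A b from rfl] at h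
  simp only [map_sum, Finsupp.finsetSum_apply, coefL_tmul, ← monomial_counts, coeff_monomial, ite_smul,
    one_smul, zero_smul] at h
  rw [← h, eq_sum_coef (γ.law.toFun' _ (uni A b))]
  simp only [map_sum, LinearMap.lTensor_tmul, Finsupp.finsetSum_apply, coefL_tmul, coeff_monomial,
    ite_smul, one_smul, zero_smul, Finset.sum_ite_eq']
  split_ifs with hs
  · rfl
  · rw [coef, Finsupp.notMem_support_iff.mp hs, map_zero]
    rfl

/-- The transfer map. -/
noncomputable def transfer : (⨂[A] _ : Fin d, B) →ₗ[A] C :=
  PiTensorProduct.lift (polarM γ.law (Fin d))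

include hφ in
theorem transfer_phi (hγ : PolLaw.IsGammaD γ) (c : C) :
    transfer γ (φ c : ⨂[A] _ : Fin d, B) = d.factorial • c := by
  have hc : c ∈ coefSpan γ.law := by rw [coefSpan_eq_top γ hγ]; trivial
  induction hc using Submodule.span_induction with
  | mem x hx =>
    obtain ⟨n, b, β, rfl⟩ := hx
    rw [phi_coef γ φ hφ, map_sum, ← sum_polar_eq γ.law γ.homog b β]
    refine Finset.sum_congr rfl fun c _ => ?_
    split_ifs
    · simp [transfer, polarM_apply, Function.comp_def]
    · simp
  | zero => simp
  | add x y _ _ hx hy => simp only [map_add, AddMemClass.coe_add, hx, hy, smul_add]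
  | smul r x _ hx => rw [map_smul, SetLike.val_smul, map_smul, hx, smul_comm]

include hφ in
theorem phi_transfer (y : ⨂[A] _ : Fin d, B) :
    (φ (transfer γ y) : ⨂[A] _ : Fin d, B) =
      ∑ σ : Equiv.Perm (Fin d), PiTensorProduct.reindex A (fun _ : Fin d => B) σ y := by
  classical
  induction y using PiTensorProduct.induction_on with
  | smul_tprod r b =>
    simp only [map_smul, SetLike.val_smul, ← Finset.smul_sum]
    congr 1
    rw [transfer, PiTensorProduct.lift.tprod, polarM_apply, polar, phi_coef γ φ hφ]
    simp only [PiTensorProduct.reindex_tprod]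
    rw [← Finset.sum_filter]
    symm
    refine Finset.sum_bij (fun σ _ => ⇑σ.symm) (fun σ _ => Finset.mem_filter.mpr ⟨Finset.mem_univ _, ?_⟩)
      (fun a _ b _ h => Equiv.symm_bijective.1 (Equiv.coe_fn_injective h)) (fun c hc => ?_) (fun σ _ => rfl)
    · ext k
      obtain ⟨a, rfl⟩ := σ.symm.surjective k
      rw [counts, Finsupp.mapDomain_apply σ.symm.injective]
      simp [onesE]
    · have hc' := (Finset.mem_filter.mp hc).2
      have hs : Function.Surjective c := fun k => by
        by_contra hk
        have h1 := DFunLike.congr_fun hc' k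
        rw [counts, Finsupp.mapDomain_of_notMem_range _ _ fun ⟨a, ha⟩ => hk ⟨a, ha⟩] at h1
        simp [onesE] at h1
      exact ⟨(Equiv.ofBijective c (Finite.surjective_iff_bijective.mp hs)).symm, Finset.mem_univ _, by simp⟩
  | add x y hx hy => simp only [map_add, AddMemClass.coe_add, hx, hy, Finset.sum_add_distrib]

end Groth.Agent.PolLaw95
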