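import Groth.Agent.PolLaw95.Free
import Groth.Agent.PolLaw95.TensorKer
import Groth.Agent.PolLaw95.Transfer
import Mathlib.RingTheory.Flat.EquationalCriterion

/-!
`x ↦ x ⊗ ⋯ ⊗ x` is universal for flat algebras, and when `d!` is invertible.
-/

set_option linter.unusedSectionVars false

universe u

open scoped TensorProduct

namespace Groth.Agent.PolLaw95

variable {A P B C' : Type u} [CommRing A] [CommRing P] [Algebra A P] [CommRing B] [Algebra A B] [CommRing C']
  [Algebra A C'] {d : ℕ}

theorem map_sym0 (r : P →ₗ[A] B) (S : Type u) [CommSemiring S] [Algebra A S] (x : S ⊗[A] P) :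
    (PiTensorProduct.map fun _ : Fin d => r).lTensor S ((sym0 A P d).law.toFun' S x) =
      (sym0 A B d).law.toFun' S (r.lTensor S x) := by
  obtain ⟨n, s, b, rfl⟩ := exists_eq_sum x
  simp only [map_sum, LinearMap.lTensor_tmul, sym0_sum, PiTensorProduct.map_tprod]

theorem map_reindex (r : P →ₗ[A] B) (σ : Equiv.Perm (Fin d)) (t : ⨂[A] _ : Fin d, P) :
    PiTensorProduct.map (fun _ : Fin d => r) (PiTensorProduct.reindex A (fun _ : Fin d => P) σ t) =
      PiTensorProduct.reindex A (fun _ : Fin d => B) σ (PiTensorProduct.map (fun _ : Fin d => r) t) := by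
  induction t using PiTensorProduct.induction_on with
  | smul_tprod c v => simp [PiTensorProduct.reindex_tprod, PiTensorProduct.map_tprod]
  | add x y hx hy => simp only [map_add, hx, hy]

theorem map_mem_TS (r : P →ₗ[A] B) {t : ⨂[A] _ : Fin d, P} (ht : t ∈ SymTen.TS A P d) :
    PiTensorProduct.map (fun _ : Fin d => r) t ∈ SymTen.TS A B d := fun σ => by rw [← map_reindex, ht σ]

theorem map_pow_surjective {P B : Type u} [AddCommGroup P] [Module A P] [AddCommGroup B] [Module A B] {d : ℕ}
    (r : P →ₗ[A] B) (hr : Function.Surjective r) :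
    Function.Surjective (PiTensorProduct.map fun _ : Fin d => r) := by
  intro z
  induction z using PiTensorProduct.induction_on with
  | smul_tprod c v =>
    exact ⟨c • PiTensorProduct.tprod A fun i => Function.surjInv hr (v i), by
      simp [PiTensorProduct.map_tprod, Function.surjInv_eq hr]⟩
  | add x y hx hy =>
    obtain ⟨a, rfl⟩ := hx
    obtain ⟨b, rfl⟩ := hy
    exact ⟨a + b, map_add _ _ _⟩

theorem isGammaD_sym_of_isUnit (h : IsUnit ((d.factorial : ℕ) : A)) : PolLaw.IsGammaD (sym A B d) := by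
  classical
  obtain ⟨u, hu⟩ := h
  have hspan : coefSpan (sym A B d).law = ⊤ := by
    refine eq_top_iff.mpr fun z _ => ?_
    have hφ : ∀ (S : Type u) [CommSemiring S] [Algebra A S] (n : ℕ) (s : Fin n → S) (b : Fin n → B),
        ((SymTen.TS A B d).val.comp (AlgHom.id A _)).toLinearMap.lTensor S
          ((sym A B d).law.toFun' S (∑ j, s j ⊗ₜ[A] b j)) =
          ∑ c : Fin d → Fin n, (∏ i, s (c i)) ⊗ₜ[A] PiTensorProduct.tprod A (fun i => b (c i)) :=
      fun S _ _ n s b => val_sym_sum A B d S n s b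
    have h1 : transfer (sym A B d) (z : ⨂[A] _ : Fin d, B) = d.factorial • z := by
      refine Subtype.ext ?_
      have := phi_transfer (sym A B d) (AlgHom.id A _) hφ (z : ⨂[A] _ : Fin d, B)
      rw [Finset.sum_congr rfl fun σ _ => z.2 σ, Finset.sum_const, Finset.card_univ, Fintype.card_perm,
        Fintype.card_fin] at this
      exact this
    have h2 : ∀ y, transfer (sym A B d) y ∈ coefSpan (sym A B d).law := by
      intro y
      induction y using PiTensorProduct.induction_on with
      | smul_tprod r b =>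
        rw [map_smul, transfer, PiTensorProduct.lift.tprod, polarM_apply]
        exact Submodule.smul_mem _ _ (coef_mem_coefSpan _ _ _)
      | add x y hx hy => rw [map_add]; exact add_mem hx hy
    have h3 := Submodule.smul_mem _ ((u⁻¹ : Aˣ) : A) (h2 (z : ⨂[A] _ : Fin d, B))
    rwa [h1, ← Nat.cast_smul_eq_nsmul A, smul_smul, ← hu, Units.inv_mul, one_smul] at h3
  intro C'' _ _ F
  refine exists_algHom_of_factor (sym A B d) hspan F
    (((u⁻¹ : Aˣ) : A) • (PiTensorProduct.lift (polarM F.law (Fin d))).comp (SymTen.TS A B d).val.toLinearMap) ?_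
  intro n z
  obtain ⟨m, s, b, rfl⟩ := exists_eq_sum z
  rw [LinearMap.lTensor_smul, LinearMap.smul_apply, LinearMap.lTensor_comp, LinearMap.comp_apply, val_sym_sum,
    toFun'_sum, map_sum, Finset.smul_sum]
  simp only [LinearMap.lTensor_tmul, PiTensorProduct.lift.tprod, polarM_apply]
  have e1 : ∀ c : Fin d → Fin m, (∏ i, s (c i)) = (counts c).prod fun j k => s j ^ k := fun c => by
    rw [counts, Finsupp.prod_mapDomain_index (by simp) (by simp [pow_add]), Finsupp.prod_fintype _ _ (by simp)]
    simp [onesE]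
  simp only [e1]
  set supp := (coefL (F.law.toFun' (MvPolynomial (Fin m) A) (uni A b))).support
  have hsum : ∀ β : Fin m →₀ ℕ, ((u⁻¹ : Aˣ) : A) • ∑ c ∈ Finset.univ.filter (fun c : Fin d → Fin m => counts c = β),
      ((counts c).prod fun j k => s j ^ k) ⊗ₜ[A] polar F.law (fun i => b (c i)) =
      (β.prod fun j k => s j ^ k) ⊗ₜ[A] coef F.law b β := by
    intro β
    rw [Finset.sum_congr rfl fun c hc => by rw [(Finset.mem_filter.mp hc).2], ← TensorProduct.tmul_sum,
      Finset.sum_filter, show (∑ c : Fin d → Fin m, if counts c = β then polar F.law (fun i => b (c i)) else 0) =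
        d.factorial • coef F.law b β from sum_polar_eq F.law F.homog b β,
      ← TensorProduct.tmul_smul, ← Nat.cast_smul_eq_nsmul A, smul_smul, ← hu, Units.inv_mul, one_smul]
  rw [← Finset.sum_fiberwise_of_maps_to (g := counts) (t := supp ∪ Finset.univ.image counts) fun c _ =>
    Finset.mem_union_right _ (Finset.mem_image_of_mem _ (Finset.mem_univ c))]
  simp only [← Finset.smul_sum]
  rw [Finset.smul_sum, Finset.sum_congr rfl fun β _ => hsum β]
  exact (Finset.sum_subset Finset.subset_union_left fun β _ hβ => by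
    rw [show coef F.law b β = 0 from Finsupp.notMem_support_iff.mp hβ, TensorProduct.tmul_zero]).symm

section Flat

variable {ι : Type u} (e : Module.Basis ι A P) (π : P →ₐ[A] B) (hπ : Function.Surjective π)

theorem coefMap_map_congr (F : PolLaw.MulLaw A B C' d) (r r' : P →ₗ[A] P) (h : ∀ x, π (r x) = π (r' x))
    {w : ⨂[A] _ : Fin d, P} (hw : w ∈ SymTen.TS A P d) :
    coefMap e (F.precomp π).law (PiTensorProduct.map (fun _ : Fin d => r) w) =
      coefMap e (F.precomp π).law (PiTensorProduct.map (fun _ : Fin d => r') w) := by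
  refine eq_on_coefSpan (sym A P d).law
    (g := ((coefMap e (F.precomp π).law).comp (PiTensorProduct.map fun _ : Fin d => r)).comp
      (SymTen.TS A P d).val.toLinearMap)
    (h := ((coefMap e (F.precomp π).law).comp (PiTensorProduct.map fun _ : Fin d => r')).comp
      (SymTen.TS A P d).val.toLinearMap) (fun n z => ?_) ⟨w, hw⟩ ((coefSpan_sym_eq_top e).symm ▸ Submodule.mem_top)
  simp only [LinearMap.lTensor_comp, LinearMap.comp_apply, val_sym, map_sym0, coefMap_sym0]
  change F.law.toFun' _ (π.toLinearMap.lTensor _ (r.lTensor _ z)) = F.law.toFun' _ (π.toLinearMap.lTensor _ (r'.lTensor _ z))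
  rw [← LinearMap.comp_apply, ← LinearMap.lTensor_comp, ← LinearMap.comp_apply, ← LinearMap.lTensor_comp,
    show π.toLinearMap.comp r = π.toLinearMap.comp r' from LinearMap.ext h]

include e hπ in
theorem exists_pure [Module.Flat A B] (S : Finset ι) (K : Finset P) (hK : ∀ k ∈ K, π k = 0)
    (hKS : ∀ k ∈ K, (e.repr k).support ⊆ S) :
    ∃ r : P →ₗ[A] P, (∀ i ∈ S, π (r (e i)) = π (e i)) ∧ ∀ k ∈ K, r k = 0 := by
  classical
  let n := S.card
  let ε := S.equivFin
  let f : (Fin n →₀ A) →ₗ[A] P := Finsupp.linearCombination A fun j => e (ε.symm j)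
  let q : P →ₗ[A] (Fin n →₀ A) := e.constr A fun i => if h : i ∈ S then Finsupp.single (ε ⟨i, h⟩) 1 else 0
  have hq : ∀ i, ∀ h : i ∈ S, q (e i) = Finsupp.single (ε ⟨i, h⟩) 1 := fun i h => by
    rw [Module.Basis.constr_basis, dif_pos h]
  have hfq : ∀ i ∈ S, f (q (e i)) = e i := fun i h => by
    rw [hq i h, Finsupp.linearCombination_single, one_smul, Equiv.symm_apply_apply]
  have hfqK : ∀ k ∈ K, f (q k) = k := fun k hk => by
    conv_lhs => rw [← e.linearCombination_repr k]
    conv_rhs => rw [← e.linearCombination_repr k]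
    simp only [Finsupp.linearCombination_apply, Finsupp.sum, map_sum, map_smul]
    exact Finset.sum_congr rfl fun i hi => by rw [hfq i (hKS k hk hi)]
  let rel : (K →₀ A) →ₗ[A] (Fin n →₀ A) := Finsupp.linearCombination A fun k => q (k : P)
  have hx : (π.toLinearMap.comp f).comp rel = 0 := by
    ext k
    simp only [LinearMap.comp_apply, Finsupp.lsingle_apply, rel, Finsupp.linearCombination_single, one_smul,
      hfqK k.1 k.2, AlgHom.toLinearMap_apply, hK k.1 k.2, LinearMap.zero_apply]
  obtain ⟨m, a, y, hy, ha⟩ := Module.Flat.exists_factorization_of_comp_eq_zero_of_free hx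
  let s : (Fin m →₀ A) →ₗ[A] P := Finsupp.linearCombination A fun j => Function.surjInv hπ (y (Finsupp.single j 1))
  have hs : ∀ x, π (s x) = y x := LinearMap.congr_fun (show π.toLinearMap.comp s = y by
    ext j
    simp [s, Function.surjInv_eq hπ])
  refine ⟨s.comp (a.comp q), fun i hi => ?_, fun k hk => ?_⟩
  · rw [LinearMap.comp_apply, hs, LinearMap.comp_apply, ← LinearMap.comp_apply, ← hy, LinearMap.comp_apply,
      hfq i hi, AlgHom.toLinearMap_apply]
  · have h0 := LinearMap.congr_fun ha (Finsupp.single ⟨k, hk⟩ 1)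
    simp only [LinearMap.comp_apply, rel, Finsupp.linearCombination_single, one_smul, LinearMap.zero_apply] at h0
    rw [LinearMap.comp_apply, LinearMap.comp_apply, h0, map_zero]

include e in
theorem exists_finite_data (T : Finset (Fin d → P)) :
    ∃ (S : Finset ι) (q : P →ₗ[A] P), (∀ v ∈ T, ∀ i, (e.repr (v i)).support ⊆ S) ∧
      (∀ v ∈ T, ∀ i, q (v i) = v i) ∧ (∀ i ∈ S, q (e i) = e i) ∧ ∀ i ∉ S, q (e i) = 0 := by
  classical
  let S := T.biUnion fun v => Finset.univ.biUnion fun i => (e.repr (v i)).support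
  let q := e.constr A fun i => if i ∈ S then e i else 0
  have h1 : ∀ v ∈ T, ∀ i, (e.repr (v i)).support ⊆ S := fun v hv i x hx =>
    Finset.mem_biUnion.mpr ⟨v, hv, Finset.mem_biUnion.mpr ⟨i, Finset.mem_univ i, hx⟩⟩
  refine ⟨S, q, h1, fun v hv i => ?_, fun i hi => by simp [q, hi], fun i hi => by simp [q, hi]⟩
  conv_rhs => rw [← e.linearCombination_repr (v i)]
  simp only [q, Module.Basis.constr_apply, Finsupp.linearCombination_apply]
  refine Finset.sum_congr rfl fun x hx => ?_
  simp only [if_pos (h1 v hv i hx)]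

theorem exists_finset_of_mem_span {M : Type*} [AddCommGroup M] [Module A M] {α : Type*} {p : α → Prop} {g : α → M}
    {x : M} (hx : x ∈ Submodule.span A {t | ∃ v, p v ∧ g v = t}) :
    ∃ T : Finset α, (∀ v ∈ T, p v) ∧ x ∈ Submodule.span A (g '' T) := by
  classical
  induction hx using Submodule.span_induction with
  | mem t ht =>
    obtain ⟨v, hv, rfl⟩ := ht
    exact ⟨{v}, by simpa using hv, Submodule.subset_span (by simp)⟩
  | zero => exact ⟨∅, by simp, zero_mem _⟩
  | add a b _ _ ha hb =>
    obtain ⟨T, hT, hxT⟩ := ha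
    obtain ⟨U, hU, hxU⟩ := hb
    refine ⟨T ∪ U, fun v hv => (Finset.mem_union.mp hv).elim (hT v) (hU v), ?_⟩
    rw [Finset.coe_union, Set.image_union]
    exact add_mem (Submodule.span_mono Set.subset_union_left hxT) (Submodule.span_mono Set.subset_union_right hxU)
  | smul r a _ ha =>
    obtain ⟨T, hT, hxT⟩ := ha
    exact ⟨T, hT, Submodule.smul_mem _ r hxT⟩

theorem map_eq_self_of_mem_span {T : Finset (Fin d → P)} {q : P →ₗ[A] P} (hq : ∀ v ∈ T, ∀ i, q (v i) = v i)
    {y : ⨂[A] _ : Fin d, P} (hy : y ∈ Submodule.span A (⇑(PiTensorProduct.tprod A) '' (T : Set (Fin d → P)))) :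
    PiTensorProduct.map (fun _ : Fin d => q) y = y := by
  refine LinearMap.eqOn_span (g := LinearMap.id) ?_ hy
  rintro _ ⟨v, hv, rfl⟩
  rw [PiTensorProduct.map_tprod, LinearMap.id_apply]
  exact congrArg _ (funext (hq v hv))

theorem mem_span_tprod (y : ⨂[A] _ : Fin d, P) :
    ∃ T : Finset (Fin d → P), y ∈ Submodule.span A (⇑(PiTensorProduct.tprod A) '' (T : Set (Fin d → P))) := by
  obtain ⟨T, -, h⟩ := exists_finset_of_mem_span (p := fun _ : Fin d → P => True) (g := ⇑(PiTensorProduct.tprod A))
    (x := y) (by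
      refine Submodule.span_mono ?_ ((PiTensorProduct.span_tprod_eq_top (R := A) (s := fun _ : Fin d => P)).symm ▸
        Submodule.mem_top : y ∈ Submodule.span A (Set.range (PiTensorProduct.tprod A)))
      rintro _ ⟨v, rfl⟩
      exact ⟨v, trivial, rfl⟩)
  exact ⟨T, h⟩

include e hπ in
theorem exists_kill [Module.Flat A B] (T : Finset (Fin d → P)) (y : ⨂[A] _ : Fin d, P)
    (hy : y ∈ slotKer π.toLinearMap) :
    ∃ r q : P →ₗ[A] P, (∀ x, π (r x) = π (q x)) ∧ (∀ v ∈ T, ∀ i, q (v i) = v i) ∧
      PiTensorProduct.map (fun _ : Fin d => r) y = 0 := by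
  classical
  obtain ⟨U, hU, hyU⟩ := exists_finset_of_mem_span hy
  obtain ⟨S, q, hS, hq, hqS, hq0⟩ := exists_finite_data e (T ∪ U)
  let K := (U.biUnion fun v => Finset.univ.image v).filter fun k => π k = 0
  obtain ⟨r, hr, hrK⟩ := exists_pure e π hπ S K (fun k hk => (Finset.mem_filter.mp hk).2) fun k hk => by
    obtain ⟨v, hv, hk'⟩ := Finset.mem_biUnion.mp (Finset.mem_filter.mp hk).1
    obtain ⟨i, -, rfl⟩ := Finset.mem_image.mp hk'
    exact hS v (Finset.mem_union_right _ hv) i
  refine ⟨r.comp q, q, ?_, fun v hv => hq v (Finset.mem_union_left _ hv), ?_⟩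
  · refine fun x => LinearMap.congr_fun (show π.toLinearMap.comp (r.comp q) = π.toLinearMap.comp q from ?_) x
    refine e.ext fun i => ?_
    by_cases hi : i ∈ S
    · simp [hqS i hi, hr i hi]
    · simp [hq0 i hi]
  · refine LinearMap.eqOn_span (g := 0) ?_ hyU
    rintro _ ⟨v, hv, rfl⟩
    obtain ⟨i, hi⟩ := hU v hv
    rw [PiTensorProduct.map_tprod, LinearMap.zero_apply]
    refine MultilinearMap.map_coord_zero _ i ?_
    rw [LinearMap.comp_apply, hq v (Finset.mem_union_right _ hv) i]
    exact hrK _ (Finset.mem_filter.mpr ⟨Finset.mem_biUnion.mpr ⟨v, hv, Finset.mem_image_of_mem _ (Finset.mem_univ i)⟩, hi⟩)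

include e hπ in
theorem TSmap_surjective [Module.Flat A B] (z : SymTen.TS A B d) :
    ∃ y : SymTen.TS A P d, PiTensorProduct.map (fun _ : Fin d => π.toLinearMap) (y : ⨂[A] _ : Fin d, P) = z := by
  classical
  obtain ⟨y, hy⟩ := map_pow_surjective π.toLinearMap hπ (z : ⨂[A] _ : Fin d, B)
  -- all the differences `σ y - y` are killed by one linear map
  let g : Equiv.Perm (Fin d) → ⨂[A] _ : Fin d, P := fun σ => PiTensorProduct.reindex A (fun _ : Fin d => P) σ y - y
  have hg : ∀ σ, g σ ∈ slotKer π.toLinearMap := fun σ => by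
    refine mem_slotKer_of_map_eq_zero _ hπ _ ?_
    rw [map_sub, map_reindex, hy, z.2 σ, sub_self]
  choose U hU hgU using fun σ => exists_finset_of_mem_span (hg σ)
  obtain ⟨T, hT⟩ := mem_span_tprod y
  obtain ⟨S, q, hS, hq, hqS, hq0⟩ := exists_finite_data e (T ∪ Finset.univ.biUnion U)
  let K := ((Finset.univ.biUnion U).biUnion fun v => Finset.univ.image v).filter fun k => π k = 0
  obtain ⟨r, hr, hrK⟩ := exists_pure e π hπ S K (fun k hk => (Finset.mem_filter.mp hk).2) fun k hk => by
    obtain ⟨v, hv, hk'⟩ := Finset.mem_biUnion.mp (Finset.mem_filter.mp hk).1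
    obtain ⟨i, -, rfl⟩ := Finset.mem_image.mp hk'
    exact hS v (Finset.mem_union_right _ hv) i
  set R := r.comp q
  refine ⟨⟨PiTensorProduct.map (fun _ : Fin d => R) y, fun σ => ?_⟩, ?_⟩
  · rw [← map_reindex, ← sub_eq_zero, ← map_sub]
    refine LinearMap.eqOn_span (g := 0) ?_ (hgU σ)
    rintro _ ⟨v, hv, rfl⟩
    obtain ⟨i, hi⟩ := hU σ v hv
    have hvU : v ∈ Finset.univ.biUnion U := Finset.mem_biUnion.mpr ⟨σ, Finset.mem_univ _, hv⟩
    rw [PiTensorProduct.map_tprod, LinearMap.zero_apply]
    refine MultilinearMap.map_coord_zero _ i ?_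
    rw [LinearMap.comp_apply, hq v (Finset.mem_union_right _ hvU) i]
    exact hrK _ (Finset.mem_filter.mpr ⟨Finset.mem_biUnion.mpr ⟨v, hvU, Finset.mem_image_of_mem _ (Finset.mem_univ i)⟩, hi⟩)
  · have hR : π.toLinearMap.comp R = π.toLinearMap.comp q := e.ext fun i => by
      by_cases hi : i ∈ S
      · simp [R, hqS i hi, hr i hi]
      · simp [R, hq0 i hi]
    rw [← hy]
    conv_rhs => rw [← map_eq_self_of_mem_span (fun v hv => hq v (Finset.mem_union_left _ hv)) hT]
    rw [← LinearMap.comp_apply, ← PiTensorProduct.map_comp, ← LinearMap.comp_apply, ← PiTensorProduct.map_comp]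
    simp only [hR]

include e hπ in
theorem isGammaD_sym_of_flat_of_surjective [Module.Flat A B] : PolLaw.IsGammaD (sym A B d) := by
  classical
  have hlift : ∀ (n : ℕ) (z : MvPolynomial (Fin n) A ⊗[A] B), ∃ u, π.toLinearMap.lTensor _ u = z :=
    fun n => LinearMap.lTensor_surjective _ hπ
  have hspan : coefSpan (sym A B d).law = ⊤ := by
    refine eq_top_iff.mpr fun z _ => ?_
    obtain ⟨y, hy⟩ := TSmap_surjective e π hπ z
    let M : SymTen.TS A P d →ₗ[A] SymTen.TS A B d :=
      LinearMap.codRestrict (SymTen.TS A B d).toSubmodule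
        ((PiTensorProduct.map fun _ : Fin d => π.toLinearMap).comp (SymTen.TS A P d).val.toLinearMap)
        fun t => map_mem_TS _ t.2
    rw [show z = M y from Subtype.ext hy.symm]
    clear hy
    have hy' : y ∈ coefSpan (sym A P d).law := (coefSpan_sym_eq_top e).symm ▸ Submodule.mem_top
    induction hy' using Submodule.span_induction with
    | mem t ht =>
      obtain ⟨n, b, β, rfl⟩ := ht
      rw [show M (coef (sym A P d).law b β) = coef (sym A B d).law (fun i => π (b i)) β by
        refine Subtype.ext ?_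
        change PiTensorProduct.map (fun _ : Fin d => π.toLinearMap) _ = _
        rw [val_sym_coef, AlgHom.toLinearMap_apply, Subalgebra.coe_val, val_sym_coef, sym0_coef, sym0_coef, map_sum]
        refine Finset.sum_congr rfl fun c _ => ?_
        split_ifs
        · rw [PiTensorProduct.map_tprod]; rfl
        · exact map_zero _]
      exact coef_mem_coefSpan _ _ _
    | zero => rw [map_zero]; exact zero_mem _
    | add a b _ _ ha hb => rw [map_add]; exact add_mem ha hb
    | smul r a _ ha => rw [map_smul]; exact Submodule.smul_mem _ r ha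
  intro C'' _ _ F
  let ΦP : (⨂[A] _ : Fin d, P) →ₗ[A] C'' := coefMap e (F.precomp π).law
  have hwd : ∀ w : ⨂[A] _ : Fin d, P, w ∈ SymTen.TS A P d →
      PiTensorProduct.map (fun _ : Fin d => π.toLinearMap) w = 0 → ΦP w = 0 := by
    intro w hw h0
    obtain ⟨T, hT⟩ := mem_span_tprod w
    obtain ⟨r, q, hrq, hq, hr⟩ := exists_kill e π hπ T w (mem_slotKer_of_map_eq_zero _ hπ w h0)
    rw [← map_eq_self_of_mem_span hq hT]
    have := coefMap_map_congr e π F r q hrq hw
    rw [hr, map_zero] at this
    exact this.symm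
  choose s hs using TSmap_surjective (d := d) e π hπ
  have hwd' : ∀ (z : SymTen.TS A B d) (w : SymTen.TS A P d),
      PiTensorProduct.map (fun _ : Fin d => π.toLinearMap) (w : ⨂[A] _ : Fin d, P) = z →
      ΦP (s z : ⨂[A] _ : Fin d, P) = ΦP (w : ⨂[A] _ : Fin d, P) := fun z w hw => by
    rw [← sub_eq_zero, ← map_sub]
    exact hwd _ (sub_mem (s z).2 w.2) (by rw [map_sub, hs, hw, sub_self])
  let Φ : SymTen.TS A B d →ₗ[A] C'' :=
    { toFun := fun z => ΦP (s z : ⨂[A] _ : Fin d, P)
      map_add' := fun z z' => by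
        rw [hwd' (z + z') (s z + s z') (by rw [AddMemClass.coe_add, map_add, hs, hs]; rfl), AddMemClass.coe_add, map_add]
      map_smul' := fun c z => by
        rw [hwd' (c • z) (c • s z) (by rw [SetLike.val_smul, map_smul, hs]; rfl), SetLike.val_smul, map_smul]; rfl }
  refine exists_algHom_of_factor (sym A B d) hspan F Φ fun n z => ?_
  obtain ⟨u, rfl⟩ := hlift n z
  let M : SymTen.TS A P d →ₗ[A] SymTen.TS A B d :=
    LinearMap.codRestrict (SymTen.TS A B d).toSubmodule
      ((PiTensorProduct.map fun _ : Fin d => π.toLinearMap).comp (SymTen.TS A P d).val.toLinearMap)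
      fun t => map_mem_TS _ t.2
  have hM : M.lTensor _ ((sym A P d).law.toFun' _ u) = (sym A B d).law.toFun' _ (π.toLinearMap.lTensor _ u) := by
    apply lTensor_val_injective_poly (SymTen.TS A B d) n
    rw [val_sym, ← LinearMap.comp_apply, ← LinearMap.lTensor_comp,
      show (SymTen.TS A B d).val.toLinearMap.comp M =
        (PiTensorProduct.map fun _ : Fin d => π.toLinearMap).comp (SymTen.TS A P d).val.toLinearMap from rfl,
      LinearMap.lTensor_comp, LinearMap.comp_apply, val_sym, map_sym0]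
  rw [← hM, ← LinearMap.comp_apply, ← LinearMap.lTensor_comp,
    show Φ.comp M = ΦP.comp (SymTen.TS A P d).val.toLinearMap from LinearMap.ext fun w => hwd' (M w) w rfl,
    LinearMap.lTensor_comp, LinearMap.comp_apply, val_sym, coefMap_sym0]
  rfl

end Flat

theorem isGammaD_sym_of_flat [Module.Flat A B] : PolLaw.IsGammaD (sym A B d) :=
  isGammaD_sym_of_flat_of_surjective (MvPolynomial.basisMonomials B A) (MvPolynomial.aeval id)
    fun b => ⟨MvPolynomial.X b, MvPolynomial.aeval_X _ _⟩

end Groth.Agent.PolLaw95
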