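import Groth.Agent.PolLaw95.Laws

/-!
Surjectivity of Iversen's homomorphism `Γ^{e+1}(B) ⊗ B → Γ^e(B) ⊗ B`.
-/

set_option linter.unusedSectionVars false

universe u v w

open scoped TensorProduct

open MvPolynomial

namespace Groth.Agent.PolLaw95

variable {A : Type u} [CommRing A]

theorem coefL_lTensor_hetero {N : Type v} [AddCommGroup N] [Module A N] {P : Type w} [AddCommGroup P] [Module A P]
    {σ : Type} (f : N →ₗ[A] P) (z : MvPolynomial σ A ⊗[A] N) (α : σ →₀ ℕ) :
    coefL (f.lTensor _ z) α = f (coefL z α) := by
  induction z using TensorProduct.induction_on with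
  | zero => simp
  | tmul p m => simp
  | add x y hx hy => simp [map_add, hx, hy]

theorem coefL_tmul_X_mul {D : Type u} [CommRing D] [Algebra A D] {σ : Type} [DecidableEq σ] (j : σ) (u : D)
    (z : MvPolynomial σ A ⊗[A] D) (γ : σ →₀ ℕ) :
    coefL (z * ((X j : MvPolynomial σ A) ⊗ₜ[A] u)) γ =
      if γ j = 0 then 0 else coefL z (γ - Finsupp.single j 1) * u := by
  induction z using TensorProduct.induction_on with
  | zero => simp
  | tmul p m =>
    rw [Algebra.TensorProduct.tmul_mul_tmul, coefL_tmul, coefL_tmul, mul_comm p, coeff_X_mul']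
    simp only [Finsupp.mem_support_iff, ne_eq]
    split_ifs <;> simp_all
  | add x y hx hy =>
    rw [add_mul, map_add, Finsupp.add_apply, hx, hy, map_add, Finsupp.add_apply, add_mul]
    split_ifs <;> simp

theorem iversen_surjective {B Cd Ce : Type u} [CommRing B] [Algebra A B]
    [CommRing Cd] [Algebra A Cd] [CommRing Ce] [Algebra A Ce] {e d : ℕ}
    (γd : PolLaw.MulLaw A B Cd d) (γe : PolLaw.MulLaw A B Ce e) (hγe : coefSpan γe.law = ⊤)
    (ω : Cd ⊗[A] B →ₐ[A] Ce ⊗[A] B)
    (hω : ∀ (S : Type u) [CommSemiring S] [Algebra A S] (x y : S ⊗[A] B),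
      ω.toLinearMap.lTensor S
        ((Algebra.TensorProduct.includeLeft : Cd →ₐ[A] Cd ⊗[A] B).toLinearMap.lTensor S (γd.law.toFun' S x) *
          (Algebra.TensorProduct.includeRight : B →ₐ[A] Cd ⊗[A] B).toLinearMap.lTensor S y) =
      (Algebra.TensorProduct.includeLeft : Ce →ₐ[A] Ce ⊗[A] B).toLinearMap.lTensor S (γe.law.toFun' S x) *
        (Algebra.TensorProduct.includeRight : B →ₐ[A] Ce ⊗[A] B).toLinearMap.lTensor S (x * y)) :
    Function.Surjective ω := by
  classical
  let iB : B →ₐ[A] Ce ⊗[A] B := Algebra.TensorProduct.includeRight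
  let iC : Ce →ₐ[A] Ce ⊗[A] B := Algebra.TensorProduct.includeLeft
  -- `x = 1` gives `1 ⊗ B`
  have hright : ∀ b : B, iB b ∈ ω.range := fun b => by
    have h := hω A 1 ((1 : A) ⊗ₜ[A] b)
    rw [(γd.mult A).1, (γe.mult A).1, _root_.one_mul] at h
    simp only [Algebra.TensorProduct.one_def, LinearMap.lTensor_tmul, AlgHom.toLinearMap_apply, map_one,
      Algebra.TensorProduct.tmul_mul_tmul, _root_.one_mul] at h
    have h' := congrArg (TensorProduct.lid A (Ce ⊗[A] B)) h
    simp only [TensorProduct.lid_tmul, one_smul] at h'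
    rw [← Algebra.TensorProduct.one_def, ← Algebra.TensorProduct.one_def, _root_.one_mul, _root_.one_mul] at h'
    exact ⟨_, h'⟩
  suffices hC : ∀ c : Ce, iC c ∈ ω.range by
    intro z
    induction z using TensorProduct.induction_on with
    | zero => exact ⟨0, map_zero ω⟩
    | tmul c b =>
      obtain ⟨p, hp⟩ := hC c
      obtain ⟨q, hq⟩ := hright b
      refine ⟨p * q, ?_⟩
      rw [map_mul]
      rw [show ω p = iC c from hp, show ω q = iB b from hq]
      simp [iC, iB]
    | add x y hx hy =>
      obtain ⟨p, rfl⟩ := hx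
      obtain ⟨q, rfl⟩ := hy
      exact ⟨p + q, map_add ω p q⟩
  intro c
  have hc : c ∈ coefSpan γe.law := hγe ▸ Submodule.mem_top
  induction hc using Submodule.span_induction with
  | mem c hc =>
    obtain ⟨n, b, α, rfl⟩ := hc
    let b' : Fin (n + 1) → B := Fin.cons 1 b
    let G := coefL (γe.law.toFun' _ (uni A b'))
    have step : ∀ m : ℕ, ∀ γ : Fin (n + 1) →₀ ℕ, (∑ j : Fin n, γ j.succ) = m → iC (G γ) ∈ ω.range := by
      intro m
      induction m using Nat.strong_induction_on with
      | _ m ih =>
        intro γ hm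
        set δ := γ + Finsupp.single (0 : Fin (n + 1)) 1 with hδ
        have h := congrArg (fun z => coefL z δ) (hω (MvPolynomial (Fin (n + 1)) A) (uni A b') 1)
        simp only [mul_one] at h
        rw [show (Algebra.TensorProduct.includeRight : B →ₐ[A] Cd ⊗[A] B).toLinearMap.lTensor
          (MvPolynomial (Fin (n + 1)) A) 1 = 1 by
            rw [Algebra.TensorProduct.one_def, LinearMap.lTensor_tmul, AlgHom.toLinearMap_apply, map_one]
            rfl, mul_one, coefL_lTensor_hetero] at h
        have hr : (Algebra.TensorProduct.includeRight : B →ₐ[A] Ce ⊗[A] B).toLinearMap.lTensor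
            (MvPolynomial (Fin (n + 1)) A) (uni A b') = ∑ j, (X j : MvPolynomial (Fin (n + 1)) A) ⊗ₜ[A] iB (b' j) := by
          simp [uni, iB]
        rw [hr, Finset.mul_sum, map_sum, Finsupp.finsetSum_apply] at h
        simp only [coefL_tmul_X_mul, coefL_lTensor_hetero, AlgHom.toLinearMap_apply] at h
        rw [Fin.sum_univ_succ, if_neg (by simp [hδ]), show δ - Finsupp.single (0 : Fin (n + 1)) 1 = γ by
          simp [hδ]] at h
        have h1 : iB (b' 0) = 1 := by simp [b', iB, Algebra.TensorProduct.one_def]
        rw [h1, mul_one] at h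
        have hrest : ∑ j : Fin n, (if δ j.succ = 0 then 0 else
            iC (G (δ - Finsupp.single j.succ 1)) * iB (b' j.succ)) ∈ ω.range := by
          refine sum_mem fun j _ => ?_
          split_ifs with hj
          · exact zero_mem _
          · refine mul_mem (ih _ ?_ _ rfl) (hright _)
            rw [← hm]
            have hδj : ∀ i : Fin n, δ i.succ = γ i.succ := fun i => by simp [hδ]
            refine Finset.sum_lt_sum (fun i _ => ?_) ⟨j, Finset.mem_univ j, ?_⟩
            · rw [Finsupp.tsub_apply, hδj]; exact Nat.sub_le _ _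
            · rw [Finsupp.tsub_apply, hδj, Finsupp.single_eq_same]
              rw [hδj] at hj
              omega
        have hL : ω ((Algebra.TensorProduct.includeLeft : Cd →ₐ[A] Cd ⊗[A] B)
            (coefL (γd.law.toFun' _ (uni A b')) δ)) ∈ ω.range := ⟨_, rfl⟩
        rw [h] at hL
        exact (add_mem_cancel_right hrest).1 hL
    have e : coef γe.law b α = G (α.mapDomain Fin.succ) := by
      let φ : MvPolynomial (Fin (n + 1)) A →ₐ[A] MvPolynomial (Fin n) A := aeval (Fin.cons 0 X)
      have hφ : rT φ B (uni A b') = uni A b := by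
        simp [φ, uni, b', Fin.sum_univ_succ]
      rw [coef, ← hφ, ← compat]
      conv_lhs => rw [eq_sum_coef (γe.law.toFun' _ (uni A b'))]
      simp only [map_sum, Finsupp.finsetSum_apply, rT_tmul, coefL_tmul]
      have hcoef : ∀ β : Fin (n + 1) →₀ ℕ, coeff α (φ (monomial β 1)) = if β = α.mapDomain Fin.succ then 1 else 0 := by
        intro β
        by_cases h0 : β 0 = 0
        · have hβ : β = Finsupp.cons 0 (Finsupp.tail β) := by rw [← h0]; exact (Finsupp.cons_tail β).symm
          have hα : α.mapDomain Fin.succ = Finsupp.cons 0 α := by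
            ext i
            refine Fin.cases ?_ (fun i => ?_) i
            · rw [Finsupp.cons_zero, Finsupp.mapDomain_of_notMem_range]
              rintro ⟨j, hj⟩
              exact Fin.succ_ne_zero j hj
            · rw [Finsupp.cons_succ, Finsupp.mapDomain_apply (Fin.succ_injective n)]
          have hφm : φ (monomial β 1) = monomial (Finsupp.tail β) 1 := by
            rw [aeval_monomial, monomial_eq, Finsupp.prod_fintype _ _ (fun _ => pow_zero _),
              Finsupp.prod_fintype _ _ (fun _ => pow_zero _), Fin.prod_univ_succ]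
            simp [h0, Finsupp.tail_apply]
          rw [hφm, coeff_monomial, hα]
          refine if_congr ⟨fun h => by rw [hβ, h], fun h => by rw [h, Finsupp.tail_cons]⟩ rfl rfl
        · have hφm : φ (monomial β 1) = 0 := by
            rw [aeval_monomial, Finsupp.prod_fintype _ _ (fun _ => pow_zero _), Fin.prod_univ_succ]
            simp [h0]
          rw [hφm, coeff_zero, if_neg]
          intro h
          refine h0 ?_
          rw [h, Finsupp.mapDomain_of_notMem_range]
          rintro ⟨j, hj⟩
          exact Fin.succ_ne_zero j hj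
      simp only [hcoef, ite_smul, one_smul, zero_smul, Finset.sum_ite_eq']
      split_ifs with hs
      · rfl
      · exact (Finsupp.notMem_support_iff.mp hs).symm
    rw [e]
    exact step _ _ rfl
  | zero => exact ⟨0, by simp [iC]⟩
  | add x y _ _ hx hy => rw [map_add]; exact add_mem hx hy
  | smul a x _ hx => rw [map_smul]; exact Subalgebra.smul_mem _ hx a

end Groth.Agent.PolLaw95
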