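import Groth.Agent.PolLaw95.CayleyHamilton
import Mathlib.Algebra.Polynomial.AlgebraMap
import Mathlib.RingTheory.Ideal.Operations

/-!
Kernels of base changes of laws; Cayley–Hamilton over every test ring.
-/

set_option linter.unusedSectionVars false

universe u

open scoped TensorProduct

namespace Groth.Agent.PolLaw95

variable {A B C : Type u} [CommRing A] [CommRing B] [Algebra A B] [CommRing C] [Algebra A C] {d : ℕ}

theorem rTA_rTA {S S' S'' : Type u} [CommSemiring S] [Algebra A S] [CommSemiring S'] [Algebra A S']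
    [CommSemiring S''] [Algebra A S''] (φ : S →ₐ[A] S') (ψ : S' →ₐ[A] S'') (x : S ⊗[A] B) :
    rTA ψ B (rTA φ B x) = rTA (ψ.comp φ) B x := by
  rw [← rT_eq_rTA, ← rT_eq_rTA, rT_rT, rT_eq_rTA]

theorem exists_common_poly3 {S : Type u} [CommSemiring S] [Algebra A S] (x y z : S ⊗[A] B) :
    ∃ (n : ℕ) (φ : MvPolynomial (Fin n) A →ₐ[A] S) (u v w : MvPolynomial (Fin n) A ⊗[A] B),
      rTA φ B u = x ∧ rTA φ B v = y ∧ rTA φ B w = z := by
  obtain ⟨n, φ, u, v, hu, hv⟩ := exists_common_poly x y
  obtain ⟨m, s, b, rfl⟩ := exists_eq_sum z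
  let ψ : MvPolynomial (Fin (n + m)) A →ₐ[A] S := MvPolynomial.aeval (Fin.append (fun i => φ (MvPolynomial.X i)) s)
  let i1 : MvPolynomial (Fin n) A →ₐ[A] MvPolynomial (Fin (n + m)) A := MvPolynomial.rename (Fin.castAdd m)
  have hc : ψ.comp i1 = φ := MvPolynomial.algHom_ext fun i => by simp [ψ, i1]
  refine ⟨n + m, ψ, rTA i1 B u, rTA i1 B v, ∑ i, MvPolynomial.X (Fin.natAdd n i) ⊗ₜ b i, ?_, ?_, ?_⟩
  · rw [rTA_rTA, hc, ← rT_eq_rTA]; exact hu
  · rw [rTA_rTA, hc, ← rT_eq_rTA]; exact hv
  · simp [rTA, ψ]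

theorem mem_kerBC_iff (F : B →ₚₗ[A] C) {A' : Type u} [CommRing A'] [Algebra A A'] (b' : A' ⊗[A] B) :
    b' ∈ PolLaw.kerBC F A' ↔ ∀ (R : Type u) [CommSemiring R] [Algebra A R] (σ : A' →ₐ[A] R) (x w : R ⊗[A] B),
      F.toFun' R (x + w * rTA σ B b') = F.toFun' R x := by
  constructor
  · intro h R _ _ σ x w
    let _ := σ.toRingHom.toAlgebra
    have : IsScalarTower A A' R := IsScalarTower.of_algebraMap_eq fun a => (σ.commutes a).symm
    exact h R x w
  · intro h R _ _ _ _ x w
    exact h R (IsScalarTower.toAlgHom A A' R) x w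

theorem rTA_mem_kerBC (F : B →ₚₗ[A] C) {A' A'' : Type u} [CommRing A'] [Algebra A A'] [CommRing A''] [Algebra A A'']
    (ψ : A' →ₐ[A] A'') {b' : A' ⊗[A] B} (h : b' ∈ PolLaw.kerBC F A') : rTA ψ B b' ∈ PolLaw.kerBC F A'' := by
  rw [mem_kerBC_iff] at h ⊢
  intro R _ _ σ x w
  rw [rTA_rTA]
  exact h R (σ.comp ψ) x w

theorem map_ker_le_kerBC (F : B →ₚₗ[A] C) (A' : Type u) [CommRing A'] [Algebra A A'] :
    (PolLaw.ker F).map (Algebra.TensorProduct.includeRight : B →ₐ[A] A' ⊗[A] B) ≤ PolLaw.kerBC F A' := by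
  refine Ideal.map_le_iff_le_comap.mpr fun b hb => ?_
  rw [Ideal.mem_comap, mem_kerBC_iff]
  intro R _ _ σ x w
  have : rTA σ B (Algebra.TensorProduct.includeRight b) = (1 : R) ⊗ₜ[A] b := by simp [rTA]
  rw [this]
  exact hb R x w

theorem mem_ker_of_mem_kerBC_self (F : B →ₚₗ[A] C) (b : B) (h : (1 : A) ⊗ₜ[A] b ∈ PolLaw.kerBC F A) :
    b ∈ PolLaw.ker F := fun S _ _ x w => by
  have := (mem_kerBC_iff F _).mp h S (Algebra.ofId A S) x w
  simpa [rTA] using this

theorem rTA_map_ker_le {A' A'' : Type u} [CommRing A'] [Algebra A A'] [CommRing A''] [Algebra A A'']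
    (I : Ideal B) (ψ : A' →ₐ[A] A'') {z : A' ⊗[A] B}
    (h : z ∈ I.map (Algebra.TensorProduct.includeRight : B →ₐ[A] A' ⊗[A] B)) :
    rTA ψ B z ∈ I.map (Algebra.TensorProduct.includeRight : B →ₐ[A] A'' ⊗[A] B) := by
  refine (Ideal.map_le_iff_le_comap.mpr ?_ : I.map (Algebra.TensorProduct.includeRight : B →ₐ[A] A' ⊗[A] B) ≤
    (I.map (Algebra.TensorProduct.includeRight : B →ₐ[A] A'' ⊗[A] B)).comap (rTA ψ B)) h
  intro b hb
  rw [Ideal.mem_comap, Ideal.mem_comap]
  have : rTA ψ B (Algebra.TensorProduct.includeRight b) =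
      (Algebra.TensorProduct.includeRight : B →ₐ[A] A'' ⊗[A] B) b := by simp [rTA]
  rw [this]
  exact Ideal.mem_map_of_mem _ hb

section Poly

open MvPolynomial

variable {σ : Type}

theorem rT_injective_of_monomial {τ : Type} {N : Type u} [AddCommGroup N] [Module A N]
    (ψ : MvPolynomial σ A →ₐ[A] MvPolynomial τ A) (g : (σ →₀ ℕ) → (τ →₀ ℕ)) (hg : Function.Injective g)
    (hψ : ∀ α, ψ (monomial α 1) = monomial (g α) 1) : Function.Injective (rT ψ N) := by
  classical
  have key : ∀ z α, coefL (rT ψ N z) (g α) = coefL z α := by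
    intro z α
    conv_lhs => rw [eq_sum_coef z]
    simp only [map_sum, rT_tmul, hψ, Finsupp.finsetSum_apply, coefL_tmul, coeff_monomial, ite_smul, one_smul,
      zero_smul, hg.eq_iff, Finset.sum_ite_eq']
    split_ifs with h
    · rfl
    · exact (Finsupp.notMem_support_iff.mp h).symm
  intro z z' h
  exact coefL.injective (Finsupp.ext fun α => by rw [← key, ← key, h])

theorem exists_div_X [DecidableEq σ] (i : σ) (p : MvPolynomial σ A) :
    ∃ p', p = aeval (fun j => if j = i then (0 : MvPolynomial σ A) else X j) p + X i * p' := by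
  induction p using MvPolynomial.induction_on with
  | C a => exact ⟨0, by simp⟩
  | add p q hp hq =>
    obtain ⟨a, ha⟩ := hp; obtain ⟨b, hb⟩ := hq
    exact ⟨a + b, by rw [map_add]; conv_lhs => rw [ha, hb]
                     ring⟩
  | mul_X p j hp =>
    obtain ⟨a, ha⟩ := hp
    by_cases hj : j = i
    · subst hj; exact ⟨p, by simp [mul_comm]⟩
    · refine ⟨a * X j, ?_⟩
      rw [map_mul, aeval_X, if_neg hj]
      conv_lhs => rw [ha]
      ring

theorem coeff_sub0_eq_zero [DecidableEq σ] (i : σ) (p : MvPolynomial σ A) (α : σ →₀ ℕ) (hα : α i ≠ 0) :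
    coeff α (aeval (fun j => if j = i then (0 : MvPolynomial σ A) else X j) p) = 0 := by
  induction p using MvPolynomial.induction_on generalizing α with
  | C a =>
    rw [aeval_C, algebraMap_eq, coeff_C, if_neg]
    rintro rfl; simp at hα
  | add p q hp hq => rw [map_add, coeff_add, hp α hα, hq α hα, add_zero]
  | mul_X p j hp =>
    rw [map_mul, aeval_X]
    by_cases hj : j = i
    · rw [if_pos hj, mul_zero, coeff_zero]
    · rw [if_neg hj, coeff_mul_X']
      split_ifs
      · exact hp _ (by rwa [Finsupp.tsub_apply, Finsupp.single_eq_of_ne (Ne.symm hj), Nat.sub_zero])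
      · rfl

theorem exists_decomp [DecidableEq σ] (i : σ) (z : MvPolynomial σ A ⊗[A] B) :
    ∃ z', z = rTA (aeval fun j => if j = i then (0 : MvPolynomial σ A) else X j) B z + (X i : MvPolynomial σ A) • z' ∧
      ∀ α : σ →₀ ℕ, α i ≠ 0 → coefL z' (α - Finsupp.single i 1) = coefL z α := by
  have h1 : ∃ z', z = rTA (aeval fun j => if j = i then (0 : MvPolynomial σ A) else X j) B z +
      (X i : MvPolynomial σ A) • z' := by
    induction z using TensorProduct.induction_on with
    | zero => exact ⟨0, by simp⟩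
    | tmul p b =>
      obtain ⟨p', hp'⟩ := exists_div_X i p
      refine ⟨p' ⊗ₜ b, ?_⟩
      rw [rTA, Algebra.TensorProduct.map_tmul, TensorProduct.smul_tmul', smul_eq_mul, AlgHom.id_apply,
        ← TensorProduct.add_tmul, ← hp']
    | add x y hx hy =>
      obtain ⟨a, ha⟩ := hx; obtain ⟨b, hb⟩ := hy
      exact ⟨a + b, by conv_lhs => rw [ha, hb]
                       rw [map_add, smul_add]; abel⟩
  obtain ⟨z', hz'⟩ := h1
  refine ⟨z', hz', fun α hα => ?_⟩
  have h0 : ∀ y : MvPolynomial σ A ⊗[A] B,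
      coefL (rTA (aeval fun j => if j = i then (0 : MvPolynomial σ A) else X j) B y) α = 0 := fun y => by
    induction y using TensorProduct.induction_on with
    | zero => simp
    | tmul p b => rw [rTA, Algebra.TensorProduct.map_tmul, coefL_tmul, coeff_sub0_eq_zero i p α hα, zero_smul]
    | add a b ha hb => simp [map_add, ha, hb]
  have h2 : ∀ y : MvPolynomial σ A ⊗[A] B, coefL ((X i : MvPolynomial σ A) • y) α = coefL y (α - Finsupp.single i 1) :=
    fun y => by
    induction y using TensorProduct.induction_on with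
    | zero => simp
    | tmul p b =>
      rw [TensorProduct.smul_tmul', smul_eq_mul, coefL_tmul, coefL_tmul, coeff_X_mul',
        if_pos (Finsupp.mem_support_iff.mpr hα)]
    | add a b ha hb => simp [smul_add, map_add, ha, hb]
  conv_rhs => rw [hz']
  rw [map_add, Finsupp.add_apply, h0, h2, zero_add]

theorem mem_kerBC_of_X_smul [DecidableEq σ] (F : B →ₚₗ[A] C) (i : σ) (z : MvPolynomial σ A ⊗[A] B)
    (h : (X i : MvPolynomial σ A) • z ∈ PolLaw.kerBC F (MvPolynomial σ A)) :
    z ∈ PolLaw.kerBC F (MvPolynomial σ A) := by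
  classical
  rw [mem_kerBC_iff] at h ⊢
  intro R _ _ ρ x w
  obtain ⟨n, φ, u, v, hu, hv⟩ := exists_common_poly x w
  let τ := σ ⊕ Fin n
  let ρ0 : MvPolynomial σ A →ₐ[A] MvPolynomial τ A := rename Sum.inl
  let φ0 : MvPolynomial (Fin n) A →ₐ[A] MvPolynomial τ A := rename Sum.inr
  let Φ : MvPolynomial τ A →ₐ[A] R := aeval (Sum.elim (fun j => ρ (X j)) fun j => φ (X j))
  have hρ : Φ.comp ρ0 = ρ := algHom_ext fun j => by simp [Φ, ρ0]
  have hφ : Φ.comp φ0 = φ := algHom_ext fun j => by simp [Φ, φ0]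
  suffices hgen : F.toFun' _ (rTA φ0 B u + rTA φ0 B v * rTA ρ0 B z) = F.toFun' _ (rTA φ0 B u) by
    have := congrArg (rT Φ C) hgen
    rw [compat, compat] at this
    simp only [rT_eq_rTA, map_add, map_mul, rTA_rTA, hρ, hφ] at this
    rwa [← rT_eq_rTA φ u, hu, ← rT_eq_rTA φ v, hv] at this
  let inc : MvPolynomial τ A →ₐ[A] MvPolynomial (Option τ) A := rename some
  let ψ : MvPolynomial (Option τ) A →ₐ[A] MvPolynomial (Option τ) A :=
    aeval fun o => o.elim (X none * X (some (Sum.inl i))) fun t => X (some t)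
  let g : (Option τ →₀ ℕ) → (Option τ →₀ ℕ) := fun α => α + Finsupp.single (some (Sum.inl i)) (α none)
  have hg : Function.Injective g := fun α β e => by
    have h0 : α none = β none := by simpa [g] using DFunLike.congr_fun e none
    simpa [g, h0] using e
  have hψ : ∀ α, ψ (monomial α 1) = monomial (g α) 1 := by
    intro α
    induction α using Finsupp.induction with
    | zero => simp [g]
    | single_add a b α ha hb ih =>
      have hga : g (Finsupp.single a b + α) = g (Finsupp.single a b) + g α := by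
        simp only [g, Finsupp.add_apply, Finsupp.single_add]; abel
      rw [monomial_single_add, map_mul, ih, hga, map_pow, aeval_X]
      cases a with
      | none =>
        simp only [Option.elim_none, g, Finsupp.single_eq_same, mul_pow, X_pow_eq_monomial, monomial_mul, one_mul,
          mul_one, add_assoc]
      | some t =>
        simp only [Option.elim_some, g, Finsupp.single_eq_of_ne (show (none : Option τ) ≠ some t from Option.some_ne_none t |>.symm),
          Finsupp.single_zero, add_zero, X_pow_eq_monomial, monomial_mul, one_mul, mul_one]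
  let G := F.toFun' _ (rTA inc B (rTA φ0 B u) + (X none : MvPolynomial (Option τ) A) • (rTA inc B (rTA φ0 B v * rTA ρ0 B z)))
  let G' := F.toFun' _ (rTA inc B (rTA φ0 B u))
  have hinc : ψ.comp inc = inc := algHom_ext fun t => by simp [ψ, inc]
  have hG : G = G' := by
    apply rT_injective_of_monomial ψ g hg hψ
    rw [compat, compat]
    simp only [rT_eq_rTA, map_add, rTA_smul, rTA_rTA, map_mul, ← AlgHom.comp_assoc, hinc]
    have := h _ (inc.comp ρ0) (rTA (inc.comp φ0) B u) ((X none : MvPolynomial (Option τ) A) • rTA (inc.comp φ0) B v)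
    rw [rTA_smul] at this
    refine (congrArg _ ?_).trans this
    congr 1
    simp only [ψ, aeval_X, Option.elim_none]
    rw [show (inc.comp ρ0) (X i) = X (some (Sum.inl i)) by simp [inc, ρ0], smul_mul_assoc, mul_smul_comm,
      smul_smul, mul_comm]
  let ev : MvPolynomial (Option τ) A →ₐ[A] MvPolynomial τ A := aeval fun o => o.elim 1 X
  have hev : ev.comp inc = AlgHom.id A _ := algHom_ext fun t => by simp [ev, inc]
  have := congrArg (rT ev C) hG
  rw [compat, compat] at this
  simp only [rT_eq_rTA, map_add, rTA_smul, rTA_rTA, map_mul, ← AlgHom.comp_assoc, hev, AlgHom.id_comp] at this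
  simpa [ev] using this

theorem coefL_mem_ker (F : B →ₚₗ[A] C) (α : σ →₀ ℕ) :
    ∀ z ∈ PolLaw.kerBC F (MvPolynomial σ A), coefL z α ∈ PolLaw.ker F := by
  classical
  induction hk : α.sum (fun _ e => e) using Nat.strong_induction_on generalizing α with
  | _ k ih =>
    intro z hz
    by_cases hα : α = 0
    · subst hα
      have h0 := rTA_mem_kerBC F (aeval (fun _ : σ => (0 : A))) hz
      refine mem_ker_of_mem_kerBC_self F _ ?_
      convert h0 using 1
      clear hz h0
      induction z using TensorProduct.induction_on with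
      | zero => simp
      | tmul p b =>
        simp only [rTA, Algebra.TensorProduct.map_tmul, AlgHom.id_apply, coefL_tmul, ← TensorProduct.smul_tmul]
        simp [constantCoeff_eq]
      | add a b ha hb =>
        simp only [map_add, Finsupp.add_apply, TensorProduct.tmul_add, ha, hb]
    · obtain ⟨i, hi⟩ := Finsupp.ne_iff.mp hα
      simp only [Finsupp.coe_zero, Pi.zero_apply] at hi
      obtain ⟨z', hz', hc⟩ := exists_decomp i z
      rw [← hc α hi]
      refine ih _ ?_ _ rfl z' (mem_kerBC_of_X_smul F i z' ?_)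
      · have hsum : (α - Finsupp.single i 1) + Finsupp.single i 1 = α :=
          tsub_add_cancel_of_le (Finsupp.single_le_iff.mpr (Nat.one_le_iff_ne_zero.mpr hi))
        have h1 := congrArg (fun γ : σ →₀ ℕ => γ.sum fun _ e => e) hsum
        simp only [Finsupp.sum_add_index' (h := fun (_ : σ) (e : ℕ) => e) (fun _ => rfl) (fun _ _ _ => rfl),
          Finsupp.sum_single_index] at h1
        omega
      · have := Ideal.sub_mem _ hz (rTA_mem_kerBC F (aeval fun j => if j = i then (0 : MvPolynomial σ A) else X j) hz)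
        convert this using 1
        rw [eq_sub_iff_add_eq, add_comm]
        exact hz'.symm

theorem kerBC_mvPolynomial (F : B →ₚₗ[A] C) :
    PolLaw.kerBC F (MvPolynomial σ A) =
      (PolLaw.ker F).map (Algebra.TensorProduct.includeRight : B →ₐ[A] MvPolynomial σ A ⊗[A] B) := by
  refine le_antisymm (fun z hz => ?_) (map_ker_le_kerBC F _)
  rw [eq_sum_coef z]
  refine sum_mem fun α _ => ?_
  rw [show monomial α (1 : A) ⊗ₜ[A] coefL z α = (monomial α (1 : A) ⊗ₜ[A] (1 : B)) *
    (Algebra.TensorProduct.includeRight : B →ₐ[A] MvPolynomial σ A ⊗[A] B) (coefL z α) by simp]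
  exact Ideal.mul_mem_left _ _ (Ideal.mem_map_of_mem _ (coefL_mem_ker F α z hz))

end Poly

theorem kerBC_polynomial (F : B →ₚₗ[A] C) :
    PolLaw.kerBC F (Polynomial A) =
      (PolLaw.ker F).map (Algebra.TensorProduct.includeRight : B →ₐ[A] Polynomial A ⊗[A] B) := by
  refine le_antisymm (fun z hz => ?_) (map_ker_le_kerBC F _)
  let f : Polynomial A →ₐ[A] MvPolynomial Unit A := Polynomial.aeval (MvPolynomial.X ())
  let g : MvPolynomial Unit A →ₐ[A] Polynomial A := MvPolynomial.aeval fun _ => Polynomial.X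
  have hgf : g.comp f = AlgHom.id A _ := Polynomial.algHom_ext (by simp [f, g])
  have h1 := rTA_mem_kerBC F f hz
  rw [kerBC_mvPolynomial] at h1
  have h2 := rTA_map_ker_le (PolLaw.ker F) g h1
  rwa [rTA_rTA, hgf, show rTA (AlgHom.id A (Polynomial A)) B z = z from
    DFunLike.congr_fun Algebra.TensorProduct.map_id z] at h2

end Groth.Agent.PolLaw95
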