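import Groth.Agent.PolLaw95.KerBC
import Groth.Agent.PolLaw95.Ker
import Mathlib.RingTheory.AdjoinRoot
import Mathlib.LinearAlgebra.Vandermonde
import Mathlib.RingTheory.Flat.FaithfullyFlat.Basic
import Mathlib.FieldTheory.Separable

/-!
Kernels of laws commute with standard finite etale base change.
-/

set_option linter.unusedSectionVars false
set_option autoImplicit false

universe u

open scoped TensorProduct
open Polynomial

namespace Groth.Agent.PolLaw95

/-- A monic polynomial splits over a free extension. -/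
theorem exists_free_splitting (n : ℕ) : ∀ (A : Type u) [CommRing A] [Nontrivial A] (g : A[X]), g.Monic →
    g.natDegree = n → ∃ (T : Type u) (_ : CommRing T) (_ : Algebra A T) (_ : Module.Free A T) (_ : Nontrivial T)
      (θ : Fin n → T), g.map (algebraMap A T) = ∏ k, (X - C (θ k)) := by
  induction n with
  | zero =>
    intro A _ _ g hg hn
    refine ⟨A, inferInstance, inferInstance, inferInstance, inferInstance, Fin.elim0, ?_⟩
    rw [Finset.univ_eq_empty, Finset.prod_empty, hg.natDegree_eq_zero.mp hn]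
    simp
  | succ n ih =>
    intro A _ _ g hg hn
    have : Module.Free A (AdjoinRoot g) := hg.free_adjoinRoot
    have hu : ¬ IsUnit g := fun hu => by
      rw [hg.eq_one_of_isUnit hu, natDegree_one] at hn
      omega
    have : Nontrivial (AdjoinRoot g) := Ideal.Quotient.nontrivial_iff.mpr (by simpa using hu)
    have hroot : (g.map (algebraMap A (AdjoinRoot g))).IsRoot (AdjoinRoot.root g) :=
      AdjoinRoot.isRoot_root g
    obtain ⟨h, hh⟩ := dvd_iff_isRoot.mpr hroot
    have hX : (X - C (AdjoinRoot.root g)).Monic := monic_X_sub_C _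
    have hm : h.Monic := hX.of_mul_monic_left (hh ▸ hg.map _)
    have hd : h.natDegree = n := by
      have := congrArg natDegree hh
      rw [hX.natDegree_mul hm, natDegree_X_sub_C, hg.natDegree_map, hn] at this
      omega
    obtain ⟨T, _, _, _, _, θ, hθ⟩ := ih (AdjoinRoot g) h hm hd
    letI : Algebra A T := Algebra.compHom T (algebraMap A (AdjoinRoot g))
    haveI : IsScalarTower A (AdjoinRoot g) T := IsScalarTower.of_algebraMap_eq fun _ => rfl
    have : Module.Free A T := Module.Free.trans (R := A) (S := AdjoinRoot g) (M := T)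
    refine ⟨T, inferInstance, inferInstance, this, inferInstance,
      Fin.cons (algebraMap _ T (AdjoinRoot.root g)) θ, ?_⟩
    rw [IsScalarTower.algebraMap_eq A (AdjoinRoot g) T, ← Polynomial.map_map, hh, Polynomial.map_mul, hθ,
      Fin.prod_univ_succ]
    simp

variable {A B : Type u} [CommRing A] [CommRing B] [Algebra A B]

/-- Membership in the kernel may be tested after an injective extension of scalars. -/
theorem mem_ker_of_mem_kerBC {T : Type u} [CommRing T] [Algebra A T]
    (hT : Function.Injective (algebraMap A T)) (F : B →ₚₗ[A] A) (b : B)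
    (h : (1 : T) ⊗ₜ[A] b ∈ PolLaw.kerBC F T) : b ∈ PolLaw.ker F := by
  rw [mem_ker_iff_poly]
  intro n u v
  let ι : MvPolynomial (Fin n) A →ₐ[A] MvPolynomial (Fin n) T := MvPolynomial.mapAlgHom (Algebra.ofId A T)
  have hι : Function.Injective ι := MvPolynomial.map_injective _ hT
  let c : T →ₐ[A] MvPolynomial (Fin n) T := IsScalarTower.toAlgHom A T _
  have key := (mem_kerBC_iff F _).mp h _ c (rTA ι B u) (rTA ι B v)
  have h1 : rTA c B ((1 : T) ⊗ₜ[A] b) = rTA ι B ((1 : MvPolynomial (Fin n) A) ⊗ₜ[A] b) := by simp [rTA]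
  rw [h1, ← map_mul, ← map_add, ← rT_eq_rTA, ← rT_eq_rTA, ← compat, ← compat] at key
  have hrT : Function.Injective (rT ι A) := by
    intro x y hxy
    have hcomm : ∀ z : MvPolynomial (Fin n) A ⊗[A] A,
        TensorProduct.rid A _ (rT ι A z) = ι (TensorProduct.rid A _ z) := by
      intro z
      induction z using TensorProduct.induction_on with
      | zero => simp
      | tmul p a => simp
      | add a b ha hb => simp [ha, hb]
    exact (TensorProduct.rid A _).injective (hι (by rw [← hcomm, ← hcomm, hxy]))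
  exact hrT key

theorem map_ker_eq_kerBC_adjoinRoot {d : ℕ} (F : PolLaw.MulLaw A B A d) (g : A[X]) (hg : g.Monic)
    (hsep : g.Separable) :
    (PolLaw.ker F.law).map (Algebra.TensorProduct.includeRight : B →ₐ[A] AdjoinRoot g ⊗[A] B) =
      PolLaw.kerBC F.law (AdjoinRoot g) := by
  refine le_antisymm (map_ker_le_kerBC _ _) fun x hx => ?_
  rcases subsingleton_or_nontrivial A with hA | hA
  · have : Subsingleton (AdjoinRoot g ⊗[A] B) := Module.subsingleton A _
    rw [Subsingleton.elim x 0]
    exact zero_mem _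
  obtain ⟨T, _, _, _, _, θ, hθ⟩ := exists_free_splitting _ A g hg rfl
  let e : Module.Basis (Fin g.natDegree) A (AdjoinRoot g) :=
    (AdjoinRoot.powerBasis' hg).basis.reindex (finCongr (AdjoinRoot.powerBasis'_dim hg))
  have he : ∀ i, e i = AdjoinRoot.root g ^ (i : ℕ) := fun i => by
    simp [e, PowerBasis.coe_basis, AdjoinRoot.powerBasis'_gen]
  -- coordinates of `x`
  obtain ⟨b, hb⟩ : ∃ b : Fin g.natDegree → B, x = ∑ i, e i ⊗ₜ[A] b i := by
    clear hx
    induction x using TensorProduct.induction_on with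
    | zero => exact ⟨0, by simp⟩
    | tmul a c =>
      refine ⟨fun i => e.repr a i • c, ?_⟩
      conv_lhs => rw [← e.sum_repr a, TensorProduct.sum_tmul]
      exact Finset.sum_congr rfl fun i _ => by rw [TensorProduct.tmul_smul, TensorProduct.smul_tmul']
    | add a c ha hc =>
      obtain ⟨p, rfl⟩ := ha
      obtain ⟨q, rfl⟩ := hc
      exact ⟨p + q, by simp [TensorProduct.tmul_add, Finset.sum_add_distrib]⟩
  suffices hker : ∀ i, b i ∈ PolLaw.ker F.law by
    rw [hb]
    refine sum_mem fun i _ => ?_
    rw [show e i ⊗ₜ[A] b i = e i • (Algebra.TensorProduct.includeRight (R := A) (A := AdjoinRoot g) (b i)) by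
      simp [TensorProduct.smul_tmul']]
    exact Submodule.smul_of_tower_mem _ _ (Ideal.mem_map_of_mem _ (hker i))
  have hroot : ∀ k, Polynomial.aeval (θ k) g = 0 := fun k => by
    rw [Polynomial.aeval_def, ← Polynomial.eval_map, hθ, eval_prod]
    exact Finset.prod_eq_zero (Finset.mem_univ k) (by simp)
  have hdiff : ∀ k l, k ≠ l → IsUnit (θ k - θ l) := by
    intro k l hkl
    have hs : (∏ k, (X - C (θ k))).Separable := hθ ▸ hsep.map
    rw [← Finset.mul_prod_erase _ _ (Finset.mem_univ k)] at hs
    have hc := (hs.isCoprime).of_isCoprime_of_dvd_right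
      (Finset.dvd_prod_of_mem (fun k => X - C (θ k)) (Finset.mem_erase.mpr ⟨hkl.symm, Finset.mem_univ l⟩))
    obtain ⟨p, q, hpq⟩ := hc
    refine IsUnit.of_mul_eq_one (q.eval (θ k)) ?_
    have := congrArg (Polynomial.eval (θ k)) hpq
    simp only [eval_add, eval_mul, eval_sub, eval_X, eval_C, sub_self, mul_zero, zero_add, eval_one] at this
    rw [mul_comm]
    exact this
  let σ : Fin g.natDegree → (AdjoinRoot g →ₐ[A] T) := fun k =>
    AdjoinRoot.liftAlgHom g (Algebra.ofId A T) (θ k) (by simpa [Polynomial.aeval_def] using hroot k)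
  let M : Matrix (Fin g.natDegree) (Fin g.natDegree) T := Matrix.vandermonde θ
  have hM : IsUnit M.det := by
    rw [Matrix.det_vandermonde]
    exact IsUnit.prod_iff.mpr fun i _ => IsUnit.prod_iff.mpr fun j hj =>
      hdiff j i (Finset.mem_Ioi.mp hj).ne'
  have hxk : ∀ k, (∑ i, M k i ⊗ₜ[A] b i) ∈ PolLaw.kerBC F.law T := fun k => by
    have h := rTA_mem_kerBC F.law (σ k) hx
    rwa [hb, map_sum, Finset.sum_congr rfl fun i _ => show rTA (σ k) B (e i ⊗ₜ[A] b i) = M k i ⊗ₜ[A] b i by
      simp [rTA, he, σ, M, Matrix.vandermonde_apply]] at h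
  intro i
  refine mem_ker_of_mem_kerBC (FaithfulSMul.algebraMap_injective A T) F.law (b i) ?_
  have hinv : ∀ j, ∑ k, M⁻¹ i k * M k j = if i = j then 1 else 0 := fun j => by
    rw [← Matrix.mul_apply, Matrix.nonsing_inv_mul M hM, Matrix.one_apply]
  have : (1 : T) ⊗ₜ[A] b i = ∑ k, M⁻¹ i k • ∑ j, M k j ⊗ₜ[A] b j := by
    simp only [Finset.smul_sum, TensorProduct.smul_tmul', smul_eq_mul]
    rw [Finset.sum_comm]
    simp only [← TensorProduct.sum_tmul, hinv]
    rw [Finset.sum_eq_single i (fun j _ hj => by simp [Ne.symm hj]) (by simp)]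
    simp
  rw [this]
  exact sum_mem fun k _ => Submodule.smul_of_tower_mem _ _ (hxk k)

end Groth.Agent.PolLaw95
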