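import Groth.Agent.PolLaw95.KerBC
import Mathlib.Algebra.MvPolynomial.PDeriv
import Mathlib.RingTheory.Localization.BaseChange

/-!
Kernels of base changes when `B` is a finite module: the finite criterion.
-/

set_option linter.unusedSectionVars false

universe u

open scoped TensorProduct

open MvPolynomial

namespace Groth.Agent.PolLaw95

variable {A B : Type u} [CommRing A] [CommRing B] [Algebra A B]

theorem exists_eq_sum_gen {r : ℕ} {g : Fin r → B} (hg : Submodule.span A (Set.range g) = ⊤) {S : Type u}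
    [CommSemiring S] [Algebra A S] (x : S ⊗[A] B) : ∃ s : Fin r → S, x = ∑ k, s k ⊗ₜ[A] g k := by
  induction x using TensorProduct.induction_on with
  | zero => exact ⟨0, by simp⟩
  | tmul a b =>
    obtain ⟨c, rfl⟩ := (Submodule.mem_span_range_iff_exists_fun A).mp (hg.symm ▸ Submodule.mem_top : b ∈ _)
    exact ⟨fun k => c k • a, by simp [TensorProduct.tmul_sum, TensorProduct.smul_tmul]⟩
  | add x y hx hy =>
    obtain ⟨s, rfl⟩ := hx
    obtain ⟨t, rfl⟩ := hy
    exact ⟨s + t, by simp [TensorProduct.add_tmul, Finset.sum_add_distrib]⟩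

section Diff

variable (F : B →ₚₗ[A] A) {r : ℕ} (g : Fin r → B) {A' : Type u} [CommRing A'] [Algebra A A']

/-- Inclusion of constants. -/
noncomputable abbrev constAlg (r : ℕ) (A' : Type u) [CommRing A'] [Algebra A A'] :
    A' →ₐ[A] MvPolynomial (Fin r ⊕ Fin r) A' := IsScalarTower.toAlgHom A A' _

/-- The generic argument. -/
noncomputable def genU (A' : Type u) [CommRing A'] [Algebra A A'] : MvPolynomial (Fin r ⊕ Fin r) A' ⊗[A] B :=
  ∑ k, (X (Sum.inl k) : MvPolynomial (Fin r ⊕ Fin r) A') ⊗ₜ[A] g k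

/-- The generic multiplier. -/
noncomputable def genW (A' : Type u) [CommRing A'] [Algebra A A'] : MvPolynomial (Fin r ⊕ Fin r) A' ⊗[A] B :=
  ∑ k, (X (Sum.inr k) : MvPolynomial (Fin r ⊕ Fin r) A') ⊗ₜ[A] g k

/-- `F(U + W x) - F(U)`. -/
noncomputable def diff (x : A' ⊗[A] B) : MvPolynomial (Fin r ⊕ Fin r) A' :=
  TensorProduct.rid A _ (F.toFun' _ (genU g A' + genW g A' * rTA (constAlg r A') B x)) -
    TensorProduct.rid A _ (F.toFun' _ (genU g A'))

theorem rid_rT {S S' : Type u} [CommRing S] [Algebra A S] [CommRing S'] [Algebra A S'] (ψ : S →ₐ[A] S')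
    (z : S ⊗[A] A) : TensorProduct.rid A S' (rT ψ A z) = ψ (TensorProduct.rid A S z) := by
  induction z using TensorProduct.induction_on with
  | zero => simp
  | tmul s a => simp
  | add x y hx hy => simp [hx, hy]

theorem diff_rTA {A'' : Type u} [CommRing A''] [Algebra A A''] (ψ : A' →ₐ[A] A'') (x : A' ⊗[A] B) :
    diff F g (rTA ψ B x) = MvPolynomial.mapAlgHom ψ (diff F g x) := by
  set Ψ : MvPolynomial (Fin r ⊕ Fin r) A' →ₐ[A] MvPolynomial (Fin r ⊕ Fin r) A'' := MvPolynomial.mapAlgHom ψ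
  have hU : rTA Ψ B (genU g A') = genU g A'' := by simp [genU, rTA, Ψ]
  have hW : rTA Ψ B (genW g A') = genW g A'' := by simp [genW, rTA, Ψ]
  have hc : Ψ.comp (constAlg r A') = (constAlg r A'').comp ψ := AlgHom.ext fun a => by
    simp [Ψ, constAlg, MvPolynomial.algebraMap_eq]
  rw [diff, diff, map_sub, ← rid_rT, ← rid_rT, compat, compat, rT_eq_rTA, rT_eq_rTA, map_add, map_mul, hU, hW,
    rTA_rTA, rTA_rTA, hc]

theorem mem_kerBC_iff_diff (hg : Submodule.span A (Set.range g) = ⊤) (x : A' ⊗[A] B) :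
    x ∈ PolLaw.kerBC F A' ↔ diff F g x = 0 := by
  constructor
  · intro h
    rw [diff, (mem_kerBC_iff F x).mp h _ (constAlg r A') (genU g A') (genW g A'), sub_self]
  · intro h
    have h' : F.toFun' _ (genU g A' + genW g A' * rTA (constAlg r A') B x) = F.toFun' _ (genU g A') :=
      (TensorProduct.rid A _).injective (sub_eq_zero.mp h)
    rw [mem_kerBC_iff]
    intro R _ _ σ u w
    let _ : Ring R := Algebra.semiringToRing A
    let _ : CommRing R := { (inferInstance : Ring R), (inferInstance : CommSemiring R) with }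
    obtain ⟨s, rfl⟩ := exists_eq_sum_gen hg u
    obtain ⟨t, rfl⟩ := exists_eq_sum_gen hg w
    let E : MvPolynomial (Fin r ⊕ Fin r) A' →ₐ[A] R := MvPolynomial.aevalTower σ (Sum.elim s t)
    have e0 : E.comp (constAlg r A') = σ := AlgHom.ext fun a => by simp [E, MvPolynomial.algebraMap_eq]
    have := congrArg (rT E A) h'
    rw [compat, compat] at this
    simp only [rT_eq_rTA, map_add, map_mul, rTA_rTA, e0] at this
    simpa [genU, genW, rTA, E] using this

theorem coeff_diff_eq_zero (x : A' ⊗[A] B) (α : Fin r ⊕ Fin r →₀ ℕ) (h : ∀ k, α (Sum.inr k) = 0) :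
    coeff α (diff F g x) = 0 := by
  classical
  let φ0 : MvPolynomial (Fin r ⊕ Fin r) A' →ₐ[A'] MvPolynomial (Fin r ⊕ Fin r) A' :=
    MvPolynomial.aeval (Sum.elim (fun k => X (Sum.inl k)) fun _ => 0)
  have key : ∀ (p : MvPolynomial (Fin r ⊕ Fin r) A') (β : Fin r ⊕ Fin r →₀ ℕ), (∀ k, β (Sum.inr k) = 0) →
      coeff β (φ0 p) = coeff β p := by
    intro p
    induction p using MvPolynomial.induction_on with
    | C a => intro β _; simp [φ0]
    | add p q hp hq => intro β hβ; rw [map_add, coeff_add, coeff_add, hp β hβ, hq β hβ]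
    | mul_X p j hp =>
      intro β hβ
      rw [map_mul, aeval_X]
      cases j with
      | inl k =>
        rw [Sum.elim_inl, coeff_mul_X', coeff_mul_X']
        split_ifs
        · exact hp _ fun k' => by rw [Finsupp.tsub_apply, hβ k', Nat.zero_sub]
        · rfl
      | inr k =>
        rw [Sum.elim_inr, mul_zero, coeff_zero, coeff_mul_X', if_neg]
        simp [hβ k]
  rw [← key _ α h, diff, map_sub, ← AlgHom.restrictScalars_apply A φ0, ← rid_rT, compat, rT_eq_rTA, map_add, map_mul]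
  have hW : rTA (φ0.restrictScalars A) B (genW g A') = 0 := by simp [genW, rTA, φ0]
  rw [hW, zero_mul, add_zero, ← rT_eq_rTA, ← compat, rid_rT, AlgHom.restrictScalars_apply, sub_self, coeff_zero]

theorem diff_smul (m : A') (x : A' ⊗[A] B) (α : Fin r ⊕ Fin r →₀ ℕ) :
    coeff α (diff F g (m • x)) = m ^ (∑ k, α (Sum.inr k)) * coeff α (diff F g x) := by
  classical
  let ψ : MvPolynomial (Fin r ⊕ Fin r) A' →ₐ[A'] MvPolynomial (Fin r ⊕ Fin r) A' :=
    MvPolynomial.aeval (Sum.elim (fun k => X (Sum.inl k)) fun k => C m * X (Sum.inr k))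
  have key : ∀ (p : MvPolynomial (Fin r ⊕ Fin r) A') (β : Fin r ⊕ Fin r →₀ ℕ),
      coeff β (ψ p) = m ^ (∑ k, β (Sum.inr k)) * coeff β p := by
    intro p
    induction p using MvPolynomial.induction_on with
    | C a =>
      intro β
      simp only [aeval_C, MvPolynomial.algebraMap_eq, coeff_C, ψ]
      split_ifs with h
      · subst h; simp
      · simp
    | add p q hp hq => intro β; rw [map_add, coeff_add, coeff_add, hp, hq, mul_add]
    | mul_X p j hp =>
      intro β
      rw [map_mul, aeval_X]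
      cases j with
      | inl k =>
        rw [Sum.elim_inl, coeff_mul_X', coeff_mul_X']
        split_ifs
        · rw [hp]; congr 2; exact Finset.sum_congr rfl fun k' _ => by simp
        · simp
      | inr k =>
        rw [Sum.elim_inr, ← mul_assoc, mul_comm (ψ p), mul_assoc, coeff_C_mul, coeff_mul_X', coeff_mul_X']
        split_ifs with hk
        · rw [hp, ← mul_assoc, ← pow_succ']
          congr 2
          have hk' : 1 ≤ β (Sum.inr k) := Nat.one_le_iff_ne_zero.mpr (Finsupp.mem_support_iff.mp hk)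
          have : ∑ k', (β - Finsupp.single (Sum.inr k) 1 : Fin r ⊕ Fin r →₀ ℕ) (Sum.inr k') + ∑ k' : Fin r, (if k' = k then 1 else 0) =
              ∑ k', β (Sum.inr k') := by
            rw [← Finset.sum_add_distrib]
            refine Finset.sum_congr rfl fun k' _ => ?_
            by_cases hkk : k' = k
            · subst hkk; simp; omega
            · simp [hkk]
          simpa using this
        · simp
  rw [← key, diff, diff, map_sub, ← AlgHom.restrictScalars_apply A ψ, ← rid_rT, compat, rT_eq_rTA, map_add, map_mul]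
  have hW : rTA (ψ.restrictScalars A) B (genW g A') = (C m : MvPolynomial (Fin r ⊕ Fin r) A') • genW g A' := by
    simp [genW, rTA, ψ, Finset.smul_sum, TensorProduct.smul_tmul']
  have hU : rTA (ψ.restrictScalars A) B (genU g A') = genU g A' := by simp [genU, rTA, ψ]
  have hc : rTA (ψ.restrictScalars A) B (rTA (constAlg r A') B x) = rTA (constAlg r A') B x := by
    rw [rTA_rTA]; congr 2; exact AlgHom.ext fun a => by simp [ψ, MvPolynomial.algebraMap_eq]
  rw [hW, hU, hc, rTA_smul, smul_mul_assoc, mul_smul_comm]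
  congr 2
  rw [← AlgHom.restrictScalars_apply A ψ, ← rid_rT, compat, rT_eq_rTA, hU]

end Diff

theorem kerBC_localization (F : B →ₚₗ[A] A) [Module.Finite A B] (M : Submonoid A) (A' : Type u) [CommRing A']
    [Algebra A A'] [IsLocalization M A'] :
    PolLaw.kerBC F A' = (PolLaw.ker F).map (Algebra.TensorProduct.includeRight : B →ₐ[A] A' ⊗[A] B) := by
  classical
  refine le_antisymm (fun x hx => ?_) (map_ker_le_kerBC F A')
  obtain ⟨r, g, hg⟩ := Submodule.fg_iff_exists_fin_generating_family.mp (Module.finite_def.mp ‹Module.Finite A B›)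
  obtain ⟨⟨b, s⟩, hb⟩ := IsLocalizedModule.surj M (TensorProduct.mk A A' B 1) x
  change (s : A) • x = (1 : A') ⊗ₜ[A] b at hb
  have hu : IsUnit (algebraMap A A' (s : A)) := IsLocalization.map_units A' s
  have hbk : (1 : A') ⊗ₜ[A] b ∈ PolLaw.kerBC F A' := hb ▸ Submodule.smul_of_tower_mem _ (s : A) hx
  have h0 := (mem_kerBC_iff_diff F g hg _).mp hbk
  rw [show (1 : A') ⊗ₜ[A] b = rTA (Algebra.ofId A A') B ((1 : A) ⊗ₜ[A] b) by simp [rTA], diff_rTA] at h0
  have hex : ∀ α, ∃ m : M, (m : A) * coeff α (diff F g ((1 : A) ⊗ₜ[A] b)) = 0 := fun α => by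
    refine (IsLocalization.map_eq_zero_iff M A' _).mp ?_
    have := congrArg (coeff α) h0
    rw [coeff_zero, mapAlgHom_apply, coeff_map] at this
    exact this
  choose m hm using hex
  let m0 : M := ∏ α ∈ (diff F g ((1 : A) ⊗ₜ[A] b)).support, m α
  have hmb : (m0 : A) • b ∈ PolLaw.ker F := by
    refine mem_ker_of_mem_kerBC_self F _ ((mem_kerBC_iff_diff F g hg _).mpr (MvPolynomial.ext _ _ fun α => ?_))
    rw [TensorProduct.tmul_smul, diff_smul, coeff_zero]
    by_cases hα : ∀ k, α (Sum.inr k) = 0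
    · rw [coeff_diff_eq_zero F g _ α hα, mul_zero]
    by_cases hs : α ∈ (diff F g ((1 : A) ⊗ₜ[A] b)).support
    · push Not at hα
      obtain ⟨k, hk⟩ := hα
      obtain ⟨n, hn⟩ : ∃ n, ∑ k, α (Sum.inr k) = n + 1 := Nat.exists_eq_succ_of_ne_zero (by
        intro h; exact hk (Finset.sum_eq_zero_iff.mp h k (Finset.mem_univ k)))
      rw [hn, pow_succ, mul_assoc]
      have : (m0 : A) * coeff α (diff F g ((1 : A) ⊗ₜ[A] b)) = 0 := by
        simp only [m0, ← Finset.mul_prod_erase _ m hs, Submonoid.coe_mul]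
        rw [mul_comm (m α : A), mul_assoc, hm, mul_zero]
      rw [this, mul_zero]
    · rw [notMem_support_iff.mp hs, mul_zero]
  have hu' : IsUnit (algebraMap A A' ((m0 : A) * s)) := by
    rw [map_mul]; exact (IsLocalization.map_units A' m0).mul hu
  have h1 : ((m0 : A) * s) • x ∈ (PolLaw.ker F).map (Algebra.TensorProduct.includeRight : B →ₐ[A] A' ⊗[A] B) := by
    rw [mul_smul, hb, ← TensorProduct.tmul_smul]
    exact Ideal.mem_map_of_mem _ hmb
  rw [Algebra.smul_def, IsScalarTower.algebraMap_apply A A' (A' ⊗[A] B)] at h1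
  exact (Ideal.unit_mul_mem_iff_mem _ (hu'.map _)).mp h1

theorem kerBC_limit (F : B →ₚₗ[A] A) [Module.Finite A B] {A' : Type u} [CommRing A'] [Algebra A A'] {ι : Type u}
    [Preorder ι] [IsDirected ι (fun i j => i ≤ j)] [Nonempty ι]
    (Ai : ι → Type u) [∀ i, CommRing (Ai i)] [∀ i, Algebra A (Ai i)]
    (t : ∀ i j : ι, i ≤ j → (Ai i →ₐ[A] Ai j)) (φ : ∀ i : ι, Ai i →ₐ[A] A')
    (hcomp : ∀ (i j : ι) (h : i ≤ j), (φ j).comp (t i j h) = φ i)
    (hsurj : ∀ a : A', ∃ (i : ι) (x : Ai i), φ i x = a)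
    (hzero : ∀ (i : ι) (x : Ai i), φ i x = 0 → ∃ (j : ι) (h : i ≤ j), t i j h x = 0)
    (htrans : ∀ (i j k : ι) (hij : i ≤ j) (hjk : j ≤ k), (t j k hjk).comp (t i j hij) = t i k (hij.trans hjk)) :
    PolLaw.kerBC F A' =
      ⨆ i : ι, (PolLaw.kerBC F (Ai i)).map (Algebra.TensorProduct.map (φ i) (AlgHom.id A B)) := by
  classical
  refine le_antisymm (fun x hx => ?_) (iSup_le fun i => Ideal.map_le_iff_le_comap.mpr fun y hy => rTA_mem_kerBC F (φ i) hy)
  obtain ⟨r, g, hg⟩ := Submodule.fg_iff_exists_fin_generating_family.mp (Module.finite_def.mp ‹Module.Finite A B›)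
  obtain ⟨s, rfl⟩ := exists_eq_sum_gen hg x
  choose i1 x1 hx1 using fun k => hsurj (s k)
  obtain ⟨i, hi⟩ := Finset.exists_le (Finset.univ.image i1)
  have hik : ∀ k, i1 k ≤ i := fun k => hi _ (Finset.mem_image_of_mem _ (Finset.mem_univ k))
  let y : Ai i ⊗[A] B := ∑ k, t _ i (hik k) (x1 k) ⊗ₜ[A] g k
  have hy : rTA (φ i) B y = ∑ k, s k ⊗ₜ[A] g k := by
    simp only [y, map_sum, rTA, Algebra.TensorProduct.map_tmul, AlgHom.id_apply]
    exact Finset.sum_congr rfl fun k _ => by rw [← AlgHom.comp_apply, hcomp, hx1]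
  have h0 := (mem_kerBC_iff_diff F g hg _).mp hx
  rw [← hy, diff_rTA] at h0
  have hex : ∀ α, ∃ (j : ι) (h : i ≤ j), t i j h (coeff α (diff F g y)) = 0 := fun α => by
    refine hzero i _ ?_
    have := congrArg (coeff α) h0
    rw [coeff_zero, mapAlgHom_apply, coeff_map] at this
    exact this
  choose j hj hj0 using hex
  obtain ⟨k0, hk0⟩ := Finset.exists_le ({i} ∪ (diff F g y).support.image j)
  have hik0 : i ≤ k0 := hk0 _ (by simp)
  have hmem : rTA (t i k0 hik0) B y ∈ PolLaw.kerBC F (Ai k0) := by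
    rw [mem_kerBC_iff_diff F g hg, diff_rTA]
    refine MvPolynomial.ext _ _ fun α => ?_
    rw [mapAlgHom_apply, coeff_map, coeff_zero]
    by_cases hs : α ∈ (diff F g y).support
    · have hjk : j α ≤ k0 := hk0 _ (Finset.mem_union_right _ (Finset.mem_image_of_mem j hs))
      change t i k0 hik0 _ = 0
      rw [← htrans i (j α) k0 (hj α) hjk, AlgHom.comp_apply, hj0, map_zero]
    · rw [notMem_support_iff.mp hs, map_zero]
  refine Ideal.mem_iSup_of_mem k0 ?_
  have := Ideal.mem_map_of_mem (Algebra.TensorProduct.map (φ k0) (AlgHom.id A B)) hmem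
  convert this using 1
  change _ = rTA (φ k0) B (rTA (t i k0 hik0) B y)
  rw [rTA_rTA, hcomp, hy]

end Groth.Agent.PolLaw95
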