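import Groth.Agent.PolLaw95.KerFin
import Mathlib.Algebra.DualNumber
import Mathlib.Algebra.Polynomial.Derivative
import Mathlib.RingTheory.TensorProduct.MvPolynomial

/-!
In characteristic zero the kernel of a law on a finite module is cut out by linear conditions.
-/

set_option linter.unusedSectionVars false

universe u

open scoped TensorProduct

namespace Groth.Agent.PolLaw95

variable {A B : Type u} [CommRing A] [CommRing B] [Algebra A B] (F : B →ₚₗ[A] A)

/-- The scalar value of a law into the base ring. -/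
noncomputable def val (S : Type u) [CommRing S] [Algebra A S] (x : S ⊗[A] B) : S :=
  TensorProduct.rid A S (F.toFun' S x)

theorem val_rTA {S S' : Type u} [CommRing S] [Algebra A S] [CommRing S'] [Algebra A S'] (ψ : S →ₐ[A] S')
    (x : S ⊗[A] B) : val F S' (rTA ψ B x) = ψ (val F S x) := by
  rw [val, val, ← rT_eq_rTA, ← compat, rid_rT]

section Delta

variable {R : Type u} [CommRing R] [Algebra A R]

/-- `R → R[ε]`. -/
noncomputable abbrev dInl (A : Type u) [CommRing A] (R : Type u) [CommRing R] [Algebra A R] (M : Type u)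
    [AddCommGroup M] [Module R M] [Module Rᵐᵒᵖ M] [IsCentralScalar R M] [Module A M]
    [IsScalarTower A R M] [IsScalarTower A Rᵐᵒᵖ M] : R →ₐ[A] TrivSqZeroExt R M :=
  (TrivSqZeroExt.inlAlgHom R R M).restrictScalars A

/-- The derivative of a law at `u` in direction `a`. -/
noncomputable def delta (u a : R ⊗[A] B) : R :=
  TrivSqZeroExt.snd (val F (DualNumber R)
    (rTA (dInl A R R) B u + (DualNumber.eps : DualNumber R) • rTA (dInl A R R) B a))

theorem rTA_eq_of_comp {S S' : Type u} [CommSemiring S] [Algebra A S] [CommSemiring S'] [Algebra A S']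
    {f g : S →ₐ[A] S'} (h : ∀ x, f x = g x) (z : S ⊗[A] B) : rTA f B z = rTA g B z := by
  rw [AlgHom.ext h]

theorem rTA_id (z : R ⊗[A] B) : rTA (AlgHom.id A R) B z = z :=
  DFunLike.congr_fun Algebra.TensorProduct.map_id z

theorem fst_val (u a : R ⊗[A] B) : TrivSqZeroExt.fst (val F (DualNumber R)
    (rTA (dInl A R R) B u + (DualNumber.eps : DualNumber R) • rTA (dInl A R R) B a)) = val F R u := by
  let f : DualNumber R →ₐ[A] R := (TrivSqZeroExt.fstHom R R R).restrictScalars A
  rw [show TrivSqZeroExt.fst (val F (DualNumber R) _) = f (val F (DualNumber R) _) from rfl, ← val_rTA, map_add, rTA_smul,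
    rTA_rTA, rTA_rTA]
  rw [rTA_eq_of_comp (g := AlgHom.id A R) (fun x => by simp [f]) u, rTA_id]
  simp [f]

theorem delta_natural {R' : Type u} [CommRing R'] [Algebra A R'] (ψ : R →ₐ[A] R') (u a : R ⊗[A] B) :
    delta F (rTA ψ B u) (rTA ψ B a) = ψ (delta F u a) := by
  let Ψ : DualNumber R →ₐ[A] DualNumber R' :=
    DualNumber.lift ⟨((dInl A R' R').comp ψ, DualNumber.eps), DualNumber.eps_mul_eps,
      fun x => DualNumber.commute_eps_left _⟩
  have hsnd : ∀ z, TrivSqZeroExt.snd (Ψ z) = ψ (TrivSqZeroExt.snd z) := fun z => by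
    simp [Ψ, DualNumber.lift_apply_apply]
  have hc : Ψ.comp (dInl A R R) = (dInl A R' R').comp ψ := AlgHom.ext fun r => by simp [Ψ]
  have he : Ψ DualNumber.eps = DualNumber.eps := by simp [Ψ, DualNumber.lift_apply_apply]
  rw [delta, delta, ← hsnd, ← val_rTA, map_add, rTA_smul, rTA_rTA, rTA_rTA, rTA_rTA, rTA_rTA, hc, he]

theorem delta_add (u a b : R ⊗[A] B) : delta F u (a + b) = delta F u a + delta F u b := by
  let S2 := TrivSqZeroExt R (R × R)
  let i2 : R →ₐ[A] S2 := dInl A R (R × R)
  let e1 : S2 := TrivSqZeroExt.inr ((1 : R), (0 : R))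
  let e2 : S2 := TrivSqZeroExt.inr ((0 : R), (1 : R))
  let z := val F S2 (rTA i2 B u + (e1 • rTA i2 B a + e2 • rTA i2 B b))
  let push : (R × R →ₗ[R] R) → (S2 →ₐ[A] DualNumber R) := fun l => (TrivSqZeroExt.map l).restrictScalars A
  have hp : ∀ l : R × R →ₗ[R] R, l (TrivSqZeroExt.snd z) = TrivSqZeroExt.snd (val F (DualNumber R)
      (rTA (dInl A R R) B u +
        ((TrivSqZeroExt.inr (l (1, 0)) : DualNumber R) • rTA (dInl A R R) B a +
         (TrivSqZeroExt.inr (l (0, 1)) : DualNumber R) • rTA (dInl A R R) B b))) := by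
    intro l
    have hc : (push l).comp i2 = dInl A R R := AlgHom.ext fun r => TrivSqZeroExt.map_inl l r
    rw [show l (TrivSqZeroExt.snd z) = TrivSqZeroExt.snd (push l z) from (TrivSqZeroExt.snd_map l z).symm, ← val_rTA,
      map_add, map_add, rTA_smul, rTA_smul, rTA_rTA, rTA_rTA, rTA_rTA, hc]
    simp only [push, e1, e2, AlgHom.restrictScalars_apply]
    rw [TrivSqZeroExt.map_inr l ((1 : R), (0 : R)), TrivSqZeroExt.map_inr l ((0 : R), (1 : R))]
  have h1 := hp (LinearMap.fst R R R)
  have h2 := hp (LinearMap.snd R R R)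
  have h3 := hp (LinearMap.fst R R R + LinearMap.snd R R R)
  simp only [LinearMap.fst_apply, LinearMap.snd_apply, LinearMap.add_apply, TrivSqZeroExt.inr_zero, zero_smul,
    add_zero, zero_add] at h1 h2 h3
  rw [delta, delta, delta, map_add, smul_add]
  exact h3.symm.trans (congrArg₂ (· + ·) h1 h2)

theorem delta_zero (u : R ⊗[A] B) : delta F u 0 = 0 :=
  (add_eq_left (a := delta F u 0)).mp (by rw [← delta_add, add_zero])

theorem delta_smul (u a : R ⊗[A] B) (c : R) : delta F u (c • a) = c * delta F u a := by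
  let S : DualNumber R →ₐ[R] DualNumber R :=
    DualNumber.lift ⟨(Algebra.ofId R (DualNumber R), c • DualNumber.eps),
      by simp [DualNumber.eps_mul_eps], fun x => Commute.all _ _⟩
  have hc : (S.restrictScalars A).comp (dInl A R R) = dInl A R R := AlgHom.ext fun r => by
    simp [S, Algebra.ofId_apply]
    rfl
  have he : S.restrictScalars A DualNumber.eps = c • DualNumber.eps := by simp [S, DualNumber.lift_apply_apply]
  have hs : ∀ z, TrivSqZeroExt.snd (S z) = c * TrivSqZeroExt.snd z := fun z => by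
    simp [S, DualNumber.lift_apply_apply, Algebra.ofId_apply, TrivSqZeroExt.algebraMap_eq_inl, mul_comm]
  rw [delta, delta, ← hs, ← AlgHom.restrictScalars_apply A S, ← val_rTA, map_add, rTA_smul, rTA_smul, rTA_rTA, rTA_rTA,
    hc, he]
  refine congrArg (fun w => TrivSqZeroExt.snd (val F (DualNumber R) (rTA (dInl A R R) B u + w))) ?_
  rw [smul_smul]
  congr 1
  ext <;> simp

theorem aeval_dual (p : Polynomial R) :
    Polynomial.aevalTower
        ((dInl A (Polynomial R) (Polynomial R)).comp (IsScalarTower.toAlgHom A R (Polynomial R)))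
        (TrivSqZeroExt.inl Polynomial.X + DualNumber.eps) p =
      TrivSqZeroExt.inl p + TrivSqZeroExt.inr (Polynomial.derivative p) := by
  induction p using Polynomial.induction_on with
  | C c =>
    rw [Polynomial.aevalTower_C, Polynomial.derivative_C, TrivSqZeroExt.inr_zero, add_zero]
    rfl
  | add p q hp hq =>
    rw [map_add, hp, hq]
    ext <;> simp
  | monomial k c ih =>
    rw [pow_succ, ← mul_assoc, map_mul, ih, Polynomial.aevalTower_X]
    ext
    · simp
    · simp only [TrivSqZeroExt.snd_mul, TrivSqZeroExt.snd_add, TrivSqZeroExt.fst_add, TrivSqZeroExt.snd_inl,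
        TrivSqZeroExt.fst_inl, TrivSqZeroExt.snd_inr, TrivSqZeroExt.fst_inr, DualNumber.snd_eps, DualNumber.fst_eps,
        smul_eq_mul, op_smul_eq_mul, Polynomial.derivative_mul, Polynomial.derivative_X, add_zero, zero_add]
      ring

end Delta

section Rat

variable {r : ℕ} (g : Fin r → B) (A' : Type u) [CommRing A'] [Algebra A A']

/-- The linear conditions cutting out the kernel. -/
noncomputable def lin : A' ⊗[A] B →ₗ[A] MvPolynomial (Fin r ⊕ Fin r) A' where
  toFun x := delta F (genU g A') (genW g A' * rTA (constAlg r A') B x)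
  map_add' x y := by rw [map_add, mul_add, delta_add]
  map_smul' c x := by
    rw [map_smul, mul_smul_comm, RingHom.id_apply, ← algebraMap_smul (MvPolynomial (Fin r ⊕ Fin r) A') c
      (genW g A' * rTA (constAlg r A') B x), delta_smul, Algebra.smul_def]

theorem lin_smul (a : A') (x : A' ⊗[A] B) :
    lin F g A' (a • x) = MvPolynomial.C a * lin F g A' x := by
  change delta F _ _ = _ * delta F _ _
  rw [rTA_smul, mul_smul_comm, delta_smul]
  rfl

theorem lin_rTA {A'' : Type u} [CommRing A''] [Algebra A A''] (ψ : A' →ₐ[A] A'') (x : A' ⊗[A] B) :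
    lin F g A'' (rTA ψ B x) = MvPolynomial.mapAlgHom ψ (lin F g A' x) := by
  change delta F _ _ = MvPolynomial.mapAlgHom ψ (delta F _ _)
  set Ψ : MvPolynomial (Fin r ⊕ Fin r) A' →ₐ[A] MvPolynomial (Fin r ⊕ Fin r) A'' := MvPolynomial.mapAlgHom ψ
  have hU : rTA Ψ B (genU g A') = genU g A'' := by simp [genU, rTA, Ψ]
  have hW : rTA Ψ B (genW g A') = genW g A'' := by simp [genW, rTA, Ψ]
  have hc : Ψ.comp (constAlg r A') = (constAlg r A'').comp ψ := AlgHom.ext fun a => by
    simp [Ψ, constAlg, MvPolynomial.algebraMap_eq]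
  rw [← delta_natural, map_mul, hU, hW, rTA_rTA, rTA_rTA, hc]

theorem lin_eq_zero_of_mem (x : A' ⊗[A] B) (hx : x ∈ PolLaw.kerBC F A') : lin F g A' x = 0 := by
  change delta F _ _ = 0
  set R0 := MvPolynomial (Fin r ⊕ Fin r) A'
  have h := (mem_kerBC_iff F x).mp hx (DualNumber R0) ((dInl A R0 R0).comp (constAlg r A'))
    (rTA (dInl A R0 R0) B (genU g A')) ((DualNumber.eps : DualNumber R0) • rTA (dInl A R0 R0) B (genW g A'))
  rw [← rTA_rTA, smul_mul_assoc, ← map_mul] at h
  rw [delta, val, h, ← rT_eq_rTA, ← compat, rid_rT]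
  simp

theorem mem_kerBC_iff_lin [Algebra ℚ A] (hg : Submodule.span A (Set.range g) = ⊤) (x : A' ⊗[A] B) :
    x ∈ PolLaw.kerBC F A' ↔ lin F g A' x = 0 := by
  classical
  refine ⟨lin_eq_zero_of_mem F g A' x, fun h0 => ?_⟩
  rw [mem_kerBC_iff_diff F g hg]
  change delta F _ _ = 0 at h0
  set R0 := MvPolynomial (Fin r ⊕ Fin r) A'
  set c := rTA (constAlg r A') B x
  let iP : R0 →ₐ[A] Polynomial R0 := IsScalarTower.toAlgHom A R0 (Polynomial R0)
  let a := rTA iP B (genW g A' * c)
  let z := rTA iP B (genU g A') + (Polynomial.X : Polynomial R0) • a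
  let G : Polynomial R0 := val F (Polynomial R0) z
  obtain ⟨q, hq⟩ := exists_eq_sum_gen hg a
  let ψ : R0 →ₐ[A] Polynomial R0 :=
    MvPolynomial.aevalTower ((iP.comp (constAlg r A')) : A' →ₐ[A] Polynomial R0)
      (Sum.elim (fun k => iP (MvPolynomial.X (Sum.inl k)) + Polynomial.X * q k) fun k => iP (MvPolynomial.X (Sum.inr k)))
  have hψc : rTA ψ B c = rTA iP B c := by
    simp only [c, rTA_rTA]
    exact rTA_eq_of_comp (fun b => MvPolynomial.aevalTower_C _ _ b) x
  have hψX : ∀ j, ψ (MvPolynomial.X j) = Sum.elim (fun k => iP (MvPolynomial.X (Sum.inl k)) + Polynomial.X * q k)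
      (fun k => iP (MvPolynomial.X (Sum.inr k))) j := fun j => MvPolynomial.aevalTower_X _ _ j
  have hψW : rTA ψ B (genW g A') = rTA iP B (genW g A') := by simp [genW, rTA, hψX]
  have hψU : rTA ψ B (genU g A') = z := by
    simp only [z, hq, genU, map_sum, Finset.smul_sum, ← Finset.sum_add_distrib]
    refine Finset.sum_congr rfl fun k _ => ?_
    simp [rTA, hψX, TensorProduct.add_tmul, TensorProduct.smul_tmul']
  have hd : Polynomial.derivative G = delta F z a := by
    let E : Polynomial R0 →ₐ[A] DualNumber (Polynomial R0) :=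
      Polynomial.aevalTower (S := A) (R := R0) (A' := DualNumber (Polynomial R0))
        ((dInl A (Polynomial R0) (Polynomial R0)).comp iP)
        (TrivSqZeroExt.inl Polynomial.X + DualNumber.eps)
    have h1 : E (val F (Polynomial R0) z) = val F _ (rTA (dInl A (Polynomial R0) (Polynomial R0)) B z +
        (DualNumber.eps : DualNumber (Polynomial R0)) • rTA (dInl A (Polynomial R0) (Polynomial R0)) B a) := by
      refine (val_rTA F (S' := DualNumber (Polynomial R0)) E z).symm.trans ?_
      congr 1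
      have hE : E.comp iP = (dInl A (Polynomial R0) (Polynomial R0)).comp iP := AlgHom.ext fun b => by simp [E, iP]
      simp only [z, a, map_add, rTA_smul (S' := DualNumber (Polynomial R0)), rTA_rTA, hE]
      simp only [E, Polynomial.aevalTower_X]
      rw [add_smul, add_assoc]
      rfl
    rw [delta, ← h1, show E G = _ from aeval_dual G]
    simp
  have hz : Polynomial.derivative G = 0 := by
    rw [hd, show a = rTA ψ B (genW g A' * c) by rw [map_mul, hψc, hψW, ← map_mul], ← hψU, delta_natural, h0, map_zero]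
  let _ : Algebra ℚ R0 := ((algebraMap A R0).comp (algebraMap ℚ A)).toAlgebra
  have : IsAddTorsionFree R0 := IsAddTorsionFree.of_module_rat R0
  have hG := Polynomial.eq_C_of_natDegree_eq_zero (Polynomial.derivative_eq_zero.mp hz)
  let ev : A → (Polynomial R0 →ₐ[A] R0) := fun t => (Polynomial.aeval (algebraMap A R0 t)).restrictScalars A
  have hev : ∀ t, ev t G = G.coeff 0 := fun t => by
    conv_lhs => rw [hG]
    simp [ev]
  have h2 : ∀ t, ev t G = val F R0 (genU g A' + t • (genW g A' * c)) := fun t => by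
    rw [← val_rTA]
    congr 1
    have hc : (ev t).comp iP = AlgHom.id A R0 := AlgHom.ext fun b => by simp [ev, iP]
    simp only [z, a, map_add, rTA_smul, rTA_rTA, hc, rTA_id]
    simp only [ev, AlgHom.restrictScalars_apply, Polynomial.aeval_X, algebraMap_smul]
  have h3 : val F R0 (genU g A' + genW g A' * c) = val F R0 (genU g A') := by
    have e1 := (h2 1).symm.trans ((hev 1).trans ((hev 0).symm.trans (h2 0)))
    simpa using e1
  exact sub_eq_zero.mpr h3

end Rat

theorem kerBC_flat_rat [Algebra ℚ A] [Module.Finite A B] (A' : Type u) [CommRing A'] [Algebra A A']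
    [Module.Flat A A'] :
    PolLaw.kerBC F A' = (PolLaw.ker F).map (Algebra.TensorProduct.includeRight : B →ₐ[A] A' ⊗[A] B) := by
  refine le_antisymm (fun x hx => ?_) (map_ker_le_kerBC F A')
  obtain ⟨r, g, hg⟩ := Submodule.fg_iff_exists_fin_generating_family.mp (Module.finite_def.mp ‹Module.Finite A B›)
  let Λ : B →ₗ[A] MvPolynomial (Fin r ⊕ Fin r) A := (lin F g A).comp (TensorProduct.mk A A B 1)
  let E := MvPolynomial.algebraTensorAlgEquiv (σ := Fin r ⊕ Fin r) A A'
  have hkey : ∀ y : A' ⊗[A] B, lin F g A' y = E (Λ.lTensor A' y) := by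
    intro y
    induction y using TensorProduct.induction_on with
    | zero => simp
    | add a b ha hb => simp only [map_add, ha, hb]
    | tmul a b =>
      have e : a ⊗ₜ[A] b = a • rTA (Algebra.ofId A A') B ((1 : A) ⊗ₜ[A] b) := by
        simp [rTA, TensorProduct.smul_tmul']
      rw [e, lin_smul, lin_rTA, ← e]
      simp [E, Λ, MvPolynomial.algebraTensorAlgEquiv_tmul, MvPolynomial.smul_eq_C_mul, MvPolynomial.mapAlgHom_apply]
  have h0 : Λ.lTensor A' x = 0 := E.injective (by rw [← hkey, lin_eq_zero_of_mem F g A' x hx, map_zero])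
  obtain ⟨y, rfl⟩ := (Module.Flat.lTensor_exact A' (LinearMap.exact_subtype_ker_map Λ) x).mp h0
  clear hx h0
  induction y using TensorProduct.induction_on with
  | zero => simp
  | add a b ha hb =>
    rw [map_add]
    exact Ideal.add_mem _ ha hb
  | tmul a k =>
    rw [LinearMap.lTensor_tmul, Submodule.subtype_apply, show a ⊗ₜ[A] (k : B) = (a ⊗ₜ[A] (1 : B)) *
      (Algebra.TensorProduct.includeRight : B →ₐ[A] A' ⊗[A] B) (k : B) by simp]
    refine Ideal.mul_mem_left _ _ (Ideal.mem_map_of_mem _ ?_)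
    refine mem_ker_of_mem_kerBC_self F _ ((mem_kerBC_iff_lin F g A hg _).mpr ?_)
    exact k.2

end Groth.Agent.PolLaw95
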