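import Groth.Agent.PolLaw95.FlatTS
import Groth.Agent.PolLaw95.TensorKer

/-!
The norm law from the tensor power into divided powers.
-/

set_option linter.unusedSectionVars false

universe u

open scoped TensorProduct

open MvPolynomial

namespace Groth.Agent.PolLaw95

variable (A B : Type u) [CommRing A] [CommRing B] [Algebra A B] (d : ℕ)

/-- The product over all permutations of the factors. -/
noncomputable def norm0 : PolLaw.MulLaw A (⨂[A] _ : Fin d, B) (⨂[A] _ : Fin d, B) d.factorial where
  law :=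
    { toFun' := fun S _ _ x => ∏ σ : Equiv.Perm (Fin d), (SymTen.perm A B d σ).toLinearMap.lTensor S x
      isCompat' := fun {S} _ _ {S'} _ _ φ => by
        funext x
        simp only [Function.comp_apply]
        rw [show φ.toLinearMap.rTensor (⨂[A] _ : Fin d, B) = rT φ (⨂[A] _ : Fin d, B) from rfl, rT_eq_rTA, map_prod]
        refine Finset.prod_congr rfl fun i _ => ?_
        rw [lTensor_rTA, ← rT_eq_rTA] }
  homog S _ _ s x := by
    simp only [PolLaw.lTensor_algHom_apply, map_smul]
    rw [Finset.prod_smul, Finset.prod_const, Finset.card_univ, Fintype.card_perm, Fintype.card_fin]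
  mult S _ _ := by
    simp only [PolLaw.lTensor_algHom_apply, map_one, map_mul]
    exact ⟨Finset.prod_const_one, fun x y => Finset.prod_mul_distrib⟩

theorem norm0_apply (S : Type u) [CommSemiring S] [Algebra A S] (x : S ⊗[A] (⨂[A] _ : Fin d, B)) :
    (norm0 A B d).law.toFun' S x = ∏ σ : Equiv.Perm (Fin d), (SymTen.perm A B d σ).toLinearMap.lTensor S x :=
  rfl

theorem perm_perm (τ σ : Equiv.Perm (Fin d)) (t : ⨂[A] _ : Fin d, B) :
    SymTen.perm A B d τ (SymTen.perm A B d σ t) = SymTen.perm A B d (τ * σ) t := by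
  induction t using PiTensorProduct.induction_on with
  | smul_tprod r v => simp only [map_smul, SymTen.perm_tprod]; rfl
  | add x y hx hy => simp only [map_add, hx, hy]

theorem coefSpan_norm0_le : coefSpan (norm0 A B d).law ≤ (SymTen.TS A B d).toSubmodule := by
  intro c hc τ
  rw [← SymTen.perm_apply]
  refine eq_on_coefSpan (norm0 A B d).law (g := (SymTen.perm A B d τ).toLinearMap) (h := LinearMap.id)
    (fun n z => ?_) c hc
  rw [LinearMap.lTensor_id, LinearMap.id_apply, norm0_apply, PolLaw.lTensor_algHom_apply, map_prod]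
  refine Fintype.prod_equiv (Equiv.mulLeft τ) _ _ fun σ => ?_
  rw [← PolLaw.lTensor_algHom_apply, ← LinearMap.comp_apply, ← LinearMap.lTensor_comp]
  congr 2
  exact LinearMap.ext fun t => perm_perm A B d τ σ t

/-- The product over all permutations, into symmetric tensors. -/
noncomputable def normLaw : PolLaw.MulLaw A (⨂[A] _ : Fin d, B) (SymTen.TS A B d) d.factorial :=
  (exists_restrict_mulLaw (norm0 A B d) (SymTen.TS A B d) (coefSpan_norm0_le A B d)).choose

theorem val_normLaw (S : Type u) [CommSemiring S] [Algebra A S] (x : S ⊗[A] (⨂[A] _ : Fin d, B)) :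
    (SymTen.TS A B d).val.toLinearMap.lTensor S ((normLaw A B d).law.toFun' S x) =
      (norm0 A B d).law.toFun' S x :=
  congrFun (congrArg (fun L : (⨂[A] _ : Fin d, B) →ₚₗ[A] (⨂[A] _ : Fin d, B) => L.toFun' S)
    (exists_restrict_mulLaw (norm0 A B d) (SymTen.TS A B d) (coefSpan_norm0_le A B d)).choose_spec) x

variable {A B d}

theorem perm_comp_val (σ : Equiv.Perm (Fin d)) :
    (SymTen.perm A B d σ).comp (SymTen.TS A B d).val = (SymTen.TS A B d).val :=
  AlgHom.ext fun t => (SymTen.perm_apply A B d σ t.1).trans (t.2 σ)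

theorem norm0_val (S : Type u) [CommSemiring S] [Algebra A S] (y : S ⊗[A] SymTen.TS A B d) :
    (norm0 A B d).law.toFun' S ((SymTen.TS A B d).val.toLinearMap.lTensor S y) =
      ((SymTen.TS A B d).val.toLinearMap.lTensor S y) ^ d.factorial := by
  rw [norm0_apply]
  rw [Finset.prod_congr rfl (fun σ _ => ?_), Finset.prod_const, Finset.card_univ, Fintype.card_perm,
    Fintype.card_fin]
  rw [← LinearMap.comp_apply, ← LinearMap.lTensor_comp, ← AlgHom.comp_toLinearMap, perm_comp_val]

theorem normLaw_val (n : ℕ) (y : MvPolynomial (Fin n) A ⊗[A] SymTen.TS A B d) :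
    (normLaw A B d).law.toFun' _ ((SymTen.TS A B d).val.toLinearMap.lTensor _ y) = y ^ d.factorial := by
  apply lTensor_val_injective_poly (SymTen.TS A B d)
  rw [val_normLaw, norm0_val, PolLaw.lTensor_algHom_apply, PolLaw.lTensor_algHom_apply, map_pow]

variable {P : Type u} [CommRing P] [Algebra A P]

theorem tmap_toLinearMap (f : P →ₐ[A] B) :
    (SymTen.tmap A d f).toLinearMap = PiTensorProduct.map (fun _ : Fin d => f.toLinearMap) := by
  refine PiTensorProduct.ext (MultilinearMap.ext fun v => ?_)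
  simp [PiTensorProduct.map_tprod]

theorem val_comp_TSmap (f : P →ₐ[A] B) :
    (SymTen.TS A B d).val.comp (SymTen.TSmap A d f) = (SymTen.tmap A d f).comp (SymTen.TS A P d).val :=
  AlgHom.ext fun _ => rfl

theorem perm_comp_tmap (f : P →ₐ[A] B) (σ : Equiv.Perm (Fin d)) :
    (SymTen.perm A B d σ).comp (SymTen.tmap A d f) = (SymTen.tmap A d f).comp (SymTen.perm A P d σ) :=
  AlgHom.ext fun t => by
    simp only [AlgHom.comp_apply, SymTen.perm_apply, SymTen.tmap_reindex]

theorem tmap_norm0 (f : P →ₐ[A] B) (S : Type u) [CommSemiring S] [Algebra A S]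
    (z : S ⊗[A] (⨂[A] _ : Fin d, P)) :
    (SymTen.tmap A d f).toLinearMap.lTensor S ((norm0 A P d).law.toFun' S z) =
      (norm0 A B d).law.toFun' S ((SymTen.tmap A d f).toLinearMap.lTensor S z) := by
  rw [norm0_apply, norm0_apply, PolLaw.lTensor_algHom_apply, map_prod]
  refine Finset.prod_congr rfl fun σ _ => ?_
  rw [← PolLaw.lTensor_algHom_apply, ← LinearMap.comp_apply, ← LinearMap.lTensor_comp,
    ← AlgHom.comp_toLinearMap, ← perm_comp_tmap, AlgHom.comp_toLinearMap, LinearMap.lTensor_comp,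
    LinearMap.comp_apply]

theorem normLaw_natural (f : P →ₐ[A] B) (n : ℕ) (z : MvPolynomial (Fin n) A ⊗[A] (⨂[A] _ : Fin d, P)) :
    (SymTen.TSmap A d f).toLinearMap.lTensor _ ((normLaw A P d).law.toFun' _ z) =
      (normLaw A B d).law.toFun' _ ((SymTen.tmap A d f).toLinearMap.lTensor _ z) := by
  apply lTensor_val_injective_poly (SymTen.TS A B d)
  rw [val_normLaw, ← tmap_norm0, ← val_normLaw A P d, ← LinearMap.comp_apply, ← LinearMap.lTensor_comp,
    ← AlgHom.comp_toLinearMap, val_comp_TSmap, AlgHom.comp_toLinearMap, LinearMap.lTensor_comp,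
    LinearMap.comp_apply]

theorem postcomp_TSmap_sym (f : P →ₐ[A] B) :
    PolLaw.postcomp (SymTen.TSmap A d f).toLinearMap (sym A P d).law = ((sym A B d).precomp f).law := by
  refine law_ext fun n z => ?_
  change (SymTen.TSmap A d f).toLinearMap.lTensor _ ((sym A P d).law.toFun' _ z) =
    (sym A B d).law.toFun' _ (f.toLinearMap.lTensor _ z)
  apply lTensor_val_injective_poly (SymTen.TS A B d)
  rw [val_sym, ← map_sym0 f.toLinearMap, ← val_sym A P d, ← tmap_toLinearMap, ← LinearMap.comp_apply,
    ← LinearMap.lTensor_comp, ← AlgHom.comp_toLinearMap, val_comp_TSmap, AlgHom.comp_toLinearMap,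
    LinearMap.lTensor_comp, LinearMap.comp_apply]

section Universal

variable {C : Type u} [CommRing C] [Algebra A C] {γ : PolLaw.MulLaw A B C d} {φ : C →ₐ[A] SymTen.TS A B d}

theorem postcomp_eq_sym
    (hφ : ∀ (S : Type u) [CommSemiring S] [Algebra A S] (n : ℕ) (s : Fin n → S) (b : Fin n → B),
      ((SymTen.TS A B d).val.comp φ).toLinearMap.lTensor S (γ.law.toFun' S (∑ j, s j ⊗ₜ[A] b j)) =
        ∑ c : Fin d → Fin n, (∏ i, s (c i)) ⊗ₜ[A] PiTensorProduct.tprod A (fun i => b (c i))) :
    PolLaw.postcomp φ.toLinearMap γ.law = (sym A B d).law := by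
  refine law_ext fun n z => ?_
  obtain ⟨m, s, b, rfl⟩ := exists_eq_sum z
  change φ.toLinearMap.lTensor _ (γ.law.toFun' _ _) = _
  apply lTensor_val_injective_poly (SymTen.TS A B d)
  rw [← LinearMap.comp_apply, ← LinearMap.lTensor_comp, ← AlgHom.comp_toLinearMap, hφ, val_sym_sum]

/-- Every symmetric tensor of a polynomial presentation maps onto divided powers. -/
theorem exists_presentation (hγ : PolLaw.IsGammaD γ) (hφ : PolLaw.postcomp φ.toLinearMap γ.law = (sym A B d).law)
    {ι : Type u} (e : Module.Basis ι A P) (π : P →ₐ[A] B) (hπ : Function.Surjective π) :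
    ∃ Ψ : SymTen.TS A P d →ₐ[A] C, Function.Surjective Ψ ∧
      PolLaw.postcomp Ψ.toLinearMap (sym A P d).law = (γ.precomp π).law ∧
      φ.comp Ψ = SymTen.TSmap A d π := by
  obtain ⟨Ψ, hΨ, -⟩ := isGammaD_sym e C (γ.precomp π)
  refine ⟨Ψ, surjective_of_surjective (sym A P d) γ hγ π hπ Ψ hΨ, hΨ, ?_⟩
  refine (isGammaD_sym e _ ((sym A B d).precomp π)).unique ?_ (postcomp_TSmap_sym π)
  rw [postcomp_postcomp, hΨ]
  refine law_ext fun n z => ?_
  exact congrFun (congrArg (fun L : B →ₚₗ[A] SymTen.TS A B d => L.toFun' _) hφ) (π.toLinearMap.lTensor _ z)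

/-- The norm law from the tensor power to divided powers. -/
theorem exists_norm (hγ : PolLaw.IsGammaD γ) (hφ : PolLaw.postcomp φ.toLinearMap γ.law = (sym A B d).law) :
    ∃ F : PolLaw.MulLaw A (⨂[A] _ : Fin d, B) C d.factorial,
      (∀ (S : Type u) [CommSemiring S] [Algebra A S] (z : S ⊗[A] (⨂[A] _ : Fin d, B)),
        ((SymTen.TS A B d).val.comp φ).toLinearMap.lTensor S (F.law.toFun' S z) =
          (norm0 A B d).law.toFun' S z) ∧
      (F.precomp (SymTen.TS A B d).val).precomp φ = PolLaw.MulLaw.pow A C d.factorial := by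
  classical
  let π : (MvPolynomial B A) →ₐ[A] B := aeval id
  have hπ : Function.Surjective π := fun b => ⟨X b, aeval_X _ b⟩
  obtain ⟨Ψ, hΨs, hΨ, hΨπ⟩ := exists_presentation hγ hφ (basisMonomials B A) π hπ
  let tπ := SymTen.tmap A d π
  have htπ : Function.Surjective tπ.toLinearMap := by
    rw [show tπ.toLinearMap = _ from tmap_toLinearMap π]
    exact map_pow_surjective _ hπ
  -- two lifts have the same value
  let K := RingHom.ker π.toRingHom
  let i0 : (MvPolynomial B A) →ₐ[A] (MvPolynomial (B ⊕ K) A) := rename Sum.inl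
  let f : (MvPolynomial (B ⊕ K) A) →ₐ[A] (MvPolynomial B A) := aeval (Sum.elim X fun _ => 0)
  let g : (MvPolynomial (B ⊕ K) A) →ₐ[A] (MvPolynomial B A) := aeval (Sum.elim X fun k => k.1)
  have hf : f.comp i0 = AlgHom.id A (MvPolynomial B A) := algHom_ext fun b => by simp [f, i0]
  have hg : g.comp i0 = AlgHom.id A (MvPolynomial B A) := algHom_ext fun b => by simp [g, i0]
  have hfg : π.comp f = π.comp g := algHom_ext fun b => by
    cases b with
    | inl b => simp [f, g, π]
    | inr k => simpa [f, g, π] using (RingHom.mem_ker.mp k.2).symm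
  have hΨfg : Ψ.comp (SymTen.TSmap A d f) = Ψ.comp (SymTen.TSmap A d g) := by
    have key : ∀ f : (MvPolynomial (B ⊕ K) A) →ₐ[A] (MvPolynomial B A), PolLaw.postcomp (Ψ.comp (SymTen.TSmap A d f)).toLinearMap (sym A (MvPolynomial (B ⊕ K) A) d).law =
        (γ.precomp (π.comp f)).law := fun f => by
      rw [postcomp_postcomp, postcomp_TSmap_sym]
      refine law_ext fun n z => ?_
      refine (congrFun (congrArg (fun L : (MvPolynomial B A) →ₚₗ[A] C => L.toFun' _) hΨ) (f.toLinearMap.lTensor _ z)).trans ?_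
      change γ.law.toFun' _ (π.toLinearMap.lTensor _ _) = γ.law.toFun' _ ((π.comp f).toLinearMap.lTensor _ z)
      rw [AlgHom.comp_toLinearMap, LinearMap.lTensor_comp, LinearMap.comp_apply]
    exact (isGammaD_sym (basisMonomials _ A) C (γ.precomp (π.comp f))).unique (key f) (hfg ▸ key g)
  have hker : ∀ t ∈ slotKer (ι := Fin d) π.toLinearMap,
      ∃ w, SymTen.tmap A d f w = 0 ∧ SymTen.tmap A d g w = t := by
    intro t ht
    induction ht using Submodule.span_induction with
    | mem t ht =>
      obtain ⟨v, ⟨i, hi⟩, rfl⟩ := ht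
      let k : RingHom.ker π.toRingHom := ⟨v i, hi⟩
      refine ⟨PiTensorProduct.tprod A (Function.update (fun j => i0 (v j)) i (X (Sum.inr k))), ?_, ?_⟩
      · rw [SymTen.tmap_tprod]
        exact (PiTensorProduct.tprod A).map_coord_zero i (by simp [f])
      · rw [SymTen.tmap_tprod]
        congr 1
        funext j
        by_cases hj : j = i
        · subst hj; simp [g, k]
        · rw [Function.update_of_ne hj]
          exact DFunLike.congr_fun hg (v j)
    | zero => exact ⟨0, map_zero _, map_zero _⟩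
    | add x y _ _ hx hy =>
      obtain ⟨a, ha, ha'⟩ := hx
      obtain ⟨b, hb, hb'⟩ := hy
      exact ⟨a + b, by simp [ha, hb], by simp [ha', hb']⟩
    | smul r x _ hx =>
      obtain ⟨a, ha, ha'⟩ := hx
      exact ⟨r • a, by simp [ha], by simp [ha']⟩
  let V : ∀ n : ℕ, MvPolynomial (Fin n) A ⊗[A] (⨂[A] _ : Fin d, (MvPolynomial B A)) → MvPolynomial (Fin n) A ⊗[A] C :=
    fun n u => Ψ.toLinearMap.lTensor _ ((normLaw A (MvPolynomial B A) d).law.toFun' _ u)
  have hV : ∀ (n : ℕ) (u u' : MvPolynomial (Fin n) A ⊗[A] (⨂[A] _ : Fin d, (MvPolynomial B A))),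
      tπ.toLinearMap.lTensor _ u = tπ.toLinearMap.lTensor _ u' → V n u = V n u' := by
    intro n u u' h
    have hmem : ∀ α, coefL (u' - u) α ∈ slotKer (ι := Fin d) π.toLinearMap := fun α => by
      refine mem_slotKer_of_map_eq_zero _ hπ _ ?_
      rw [← tmap_toLinearMap, ← coefL_lTensor, map_sub, sub_eq_zero.mpr h.symm, map_zero, Finsupp.zero_apply]
    choose w hw hw' using fun α => hker _ (hmem α)
    let Z := (SymTen.tmap A d i0).toLinearMap.lTensor _ u +
      ∑ α ∈ (coefL (u' - u)).support, monomial α (1 : A) ⊗ₜ[A] w α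
    have hcomp : ∀ f : (MvPolynomial (B ⊕ K) A) →ₐ[A] (MvPolynomial B A), f.comp i0 = AlgHom.id A (MvPolynomial B A) →
        (SymTen.tmap A d f).toLinearMap.lTensor _ ((SymTen.tmap A d i0).toLinearMap.lTensor _ u) = u := by
      intro f hf
      rw [← LinearMap.comp_apply, ← LinearMap.lTensor_comp,
        show (SymTen.tmap A d f).toLinearMap ∘ₗ (SymTen.tmap A d i0).toLinearMap = LinearMap.id from
          PiTensorProduct.ext (MultilinearMap.ext fun v => by
            simp [show ∀ x, f (i0 x) = x from fun x => DFunLike.congr_fun hf x]),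
        LinearMap.lTensor_id, LinearMap.id_apply]
    have h1 : (SymTen.tmap A d f).toLinearMap.lTensor _ Z = u := by
      simp [Z, hcomp f hf, hw]
    have h2 : (SymTen.tmap A d g).toLinearMap.lTensor _ Z = u' := by
      simp only [Z, map_add, hcomp g hg, map_sum, LinearMap.lTensor_tmul, AlgHom.toLinearMap_apply, hw']
      rw [← eq_sum_coef (u' - u)]
      abel
    simp only [V]
    rw [← h1, ← h2, ← normLaw_natural, ← normLaw_natural, ← LinearMap.comp_apply, ← LinearMap.lTensor_comp,
      ← AlgHom.comp_toLinearMap, hΨfg, AlgHom.comp_toLinearMap, LinearMap.lTensor_comp, LinearMap.comp_apply]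
  -- descend
  choose lift hlift using fun n : ℕ => LinearMap.lTensor_surjective (MvPolynomial (Fin n) A) htπ
  let T : ∀ n : ℕ, MvPolynomial (Fin n) A ⊗[A] (⨂[A] _ : Fin d, B) → MvPolynomial (Fin n) A ⊗[A] C :=
    fun n z => V n (lift n z)
  have hT : ∀ (n m : ℕ) (ψ : MvPolynomial (Fin n) A →ₐ[A] MvPolynomial (Fin m) A),
      ψ.toLinearMap.rTensor C ∘ T n = T m ∘ ψ.toLinearMap.rTensor _ := by
    intro n m ψ
    funext z
    simp only [Function.comp_apply, T]
    have e1 : rT ψ C (V n (lift n z)) = V m (rT ψ _ (lift n z)) := by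
      simp only [V]
      rw [← compat, rT, rT, ← LinearMap.comp_apply, LinearMap.rTensor_comp_lTensor,
        ← LinearMap.lTensor_comp_rTensor, LinearMap.comp_apply]
    refine e1.trans (hV m _ _ ?_)
    rw [rT, ← LinearMap.comp_apply, LinearMap.lTensor_comp_rTensor, ← LinearMap.rTensor_comp_lTensor,
      LinearMap.comp_apply, hlift n z, hlift]
  let F₀ := ofPoly T hT
  have key : PolLaw.precomp F₀ tπ.toLinearMap = PolLaw.postcomp Ψ.toLinearMap (normLaw A (MvPolynomial B A) d).law := by
    refine law_ext fun n u => ?_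
    change (ofPoly T hT).toFun' _ (tπ.toLinearMap.lTensor _ u) = V n u
    rw [ofPoly_poly]
    exact hV n _ _ (hlift n _)
  have keyS : ∀ (S : Type u) [CommSemiring S] [Algebra A S] (u : S ⊗[A] (⨂[A] _ : Fin d, (MvPolynomial B A))),
      F₀.toFun' S (tπ.toLinearMap.lTensor S u) = ((normLaw A (MvPolynomial B A) d).postcomp Ψ).law.toFun' S u := fun S _ _ u =>
    congrFun (congrArg (fun L : (⨂[A] _ : Fin d, (MvPolynomial B A)) →ₚₗ[A] C => L.toFun' S) key) u
  let F : PolLaw.MulLaw A (⨂[A] _ : Fin d, B) C d.factorial :=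
    { law := F₀
      homog := fun S _ _ s x => by
        obtain ⟨u, rfl⟩ := LinearMap.lTensor_surjective S htπ x
        rw [keyS, ← ((normLaw A (MvPolynomial B A) d).postcomp Ψ).homog, ← keyS, PolLaw.lTensor_algHom_apply,
          PolLaw.lTensor_algHom_apply, map_smul]
      mult := fun S _ _ => by
        refine ⟨?_, fun x y => ?_⟩
        · have := keyS S 1
          rw [PolLaw.lTensor_algHom_apply, map_one, (((normLaw A (MvPolynomial B A) d).postcomp Ψ).mult S).1] at this
          exact this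
        · obtain ⟨u, rfl⟩ := LinearMap.lTensor_surjective S htπ x
          obtain ⟨v, rfl⟩ := LinearMap.lTensor_surjective S htπ y
          rw [keyS, keyS, ← (((normLaw A (MvPolynomial B A) d).postcomp Ψ).mult S).2, ← keyS, PolLaw.lTensor_algHom_apply,
            PolLaw.lTensor_algHom_apply, PolLaw.lTensor_algHom_apply, map_mul] }
  have hval : ((SymTen.TS A B d).val.comp φ).comp Ψ = tπ.comp (SymTen.TS A (MvPolynomial B A) d).val := by
    rw [AlgHom.comp_assoc, hΨπ, val_comp_TSmap]
  refine ⟨F, fun S _ _ z => ?_, ?_⟩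
  · obtain ⟨u, rfl⟩ := LinearMap.lTensor_surjective S htπ z
    change ((SymTen.TS A B d).val.comp φ).toLinearMap.lTensor S (F₀.toFun' S (tπ.toLinearMap.lTensor S u)) = _
    rw [keyS]
    change ((SymTen.TS A B d).val.comp φ).toLinearMap.lTensor S
      (Ψ.toLinearMap.lTensor S ((normLaw A (MvPolynomial B A) d).law.toFun' S u)) = _
    rw [← LinearMap.comp_apply, ← LinearMap.lTensor_comp, ← AlgHom.comp_toLinearMap, hval,
      AlgHom.comp_toLinearMap, LinearMap.lTensor_comp, LinearMap.comp_apply, val_normLaw, tmap_norm0]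
  · refine PolLaw.MulLaw.ext (law_ext fun n c => ?_)
    obtain ⟨y, rfl⟩ := LinearMap.lTensor_surjective (MvPolynomial (Fin n) A) (g := Ψ.toLinearMap) hΨs c
    change F₀.toFun' _ ((SymTen.TS A B d).val.toLinearMap.lTensor _ (φ.toLinearMap.lTensor _
      (Ψ.toLinearMap.lTensor _ y))) = (Ψ.toLinearMap.lTensor _ y) ^ d.factorial
    rw [← LinearMap.comp_apply, ← LinearMap.lTensor_comp, ← AlgHom.comp_toLinearMap,
      ← LinearMap.comp_apply, ← LinearMap.lTensor_comp, ← AlgHom.comp_toLinearMap, hval,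
      AlgHom.comp_toLinearMap, LinearMap.lTensor_comp, LinearMap.comp_apply, keyS]
    change Ψ.toLinearMap.lTensor _ _ = _
    rw [normLaw_val, PolLaw.lTensor_algHom_apply, PolLaw.lTensor_algHom_apply, map_pow]

end Universal

end Groth.Agent.PolLaw95
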