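import Groth.Agent.PolLaw95.KerRat
import Groth.Agent.PolLaw95.ChiBase
import Groth.Agent.Unr55.TraceEtale
import Mathlib.RingTheory.TotallySplit
import Mathlib.LinearAlgebra.Matrix.Charpoly.Coeff
import Mathlib.Algebra.DualNumber

/-!
Laws on finite étale algebras with full support.
-/

set_option linter.unusedSectionVars false
set_option autoImplicit false

universe u

open scoped TensorProduct
open Polynomial

namespace Groth.Agent.PolLaw95

theorem coeff_of_mult {T : Type u} [CommRing T] (p : T[X])
    (hmul : ∀ (R : Type u) [CommRing R] [Algebra T R] (a b : R),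
      Polynomial.aeval a p * Polynomial.aeval b p = Polynomial.aeval (a * b) p) (k : ℕ) :
    p * C (p.coeff k) = C (p.coeff k) * X ^ k := by
  classical
  have h := congrArg (fun q => Polynomial.coeff q k) (hmul T[X][X] (C X) X)
  have e1 : Polynomial.aeval (C X : T[X][X]) p = C p := by
    rw [show (C X : T[X][X]) = IsScalarTower.toAlgHom T T[X] T[X][X] X from rfl, Polynomial.aeval_algHom_apply,
      Polynomial.aeval_X_left_apply]
    rfl
  have e2 : ∀ y : T[X], Polynomial.aeval ((C y) * X : T[X][X]) p =
      ∑ j ∈ p.support, C (C (p.coeff j) * y ^ j) * X ^ j := by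
    intro y
    rw [Polynomial.aeval_eq_sum_range' (n := p.natDegree + 1) (by omega),
      ← Finset.sum_subset (s₁ := p.support) (fun j hj => Finset.mem_range.mpr
        (Nat.lt_succ_of_le (le_natDegree_of_mem_supp j hj))) (fun j _ hj => by simp [notMem_support_iff.mp hj])]
    refine Finset.sum_congr rfl fun j _ => ?_
    rw [Algebra.smul_def, mul_pow, map_mul, map_pow, mul_assoc]
    rfl
  have e3 : Polynomial.aeval (X : T[X][X]) p = ∑ j ∈ p.support, C (C (p.coeff j)) * X ^ j := by
    simpa using e2 1
  rw [e1, e2, e3, coeff_C_mul] at h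
  simp only [finsetSum_coeff, coeff_C_mul, coeff_X_pow, mul_ite, mul_one, mul_zero, Finset.sum_ite_eq] at h
  split_ifs at h with hk
  · exact h
  · simp [notMem_support_iff.mp hk]

variable {A B : Type u} [CommRing A] [CommRing B] [Algebra A B] {d : ℕ}

theorem val_mul (F : PolLaw.MulLaw A B A d) {S : Type u} [CommRing S] [Algebra A S] (x y : S ⊗[A] B) :
    val F.law S (x * y) = val F.law S x * val F.law S y := by
  simp only [val, (F.mult S).2]
  show Algebra.TensorProduct.rid A S S _ = Algebra.TensorProduct.rid A S S _ * Algebra.TensorProduct.rid A S S _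
  exact map_mul _ _ _

theorem val_one (F : PolLaw.MulLaw A B A d) {S : Type u} [CommRing S] [Algebra A S] :
    val F.law S (1 : S ⊗[A] B) = 1 := by
  simp only [val, (F.mult S).1]
  show Algebra.TensorProduct.rid A S S 1 = 1
  exact map_one _

theorem val_smul (F : PolLaw.MulLaw A B A d) {S : Type u} [CommRing S] [Algebra A S] (c : S) (x : S ⊗[A] B) :
    val F.law S (c • x) = c ^ d * val F.law S x := by
  simp only [val, F.homog S c x]
  show Algebra.TensorProduct.rid A S S _ = c ^ d * Algebra.TensorProduct.rid A S S _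
  rw [map_smul, smul_eq_mul]

theorem prod_one_add_orth {R : Type*} [CommRing R] {ι : Type*} (s : Finset ι) (e : ι → R) (c : ι → R)
    (ho : ∀ i j, i ≠ j → e i * e j = 0) : ∏ i ∈ s, (1 + c i * e i) = 1 + ∑ i ∈ s, c i * e i := by
  classical
  induction s using Finset.induction with
  | empty => simp
  | @insert j s hj ih =>
    rw [Finset.prod_insert hj, Finset.sum_insert hj, ih, mul_add, mul_one, add_mul, one_mul]
    have h0 : c j * e j * ∑ i ∈ s, c i * e i = 0 := by
      rw [Finset.mul_sum]
      refine Finset.sum_eq_zero fun i hi => ?_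
      rw [mul_mul_mul_comm, ho j i (fun h => hj (h ▸ hi)), mul_zero]
    rw [h0, add_zero, add_assoc]

section Split

variable {T : Type u} [CommRing T] [Algebra A T] {n : ℕ} (ψ : T ⊗[A] B ≃ₐ[T] (Fin n → T))
  (F : PolLaw.MulLaw A B A d)

/-- The idempotents of a splitting. -/
noncomputable def sE (i : Fin n) : T ⊗[A] B := ψ.symm (Pi.single i 1)

variable (R : Type u) [CommRing R] [Algebra A R] [Algebra T R] [IsScalarTower A T R]

/-- The idempotents over an extension. -/
noncomputable def sER (i : Fin n) : R ⊗[A] B := rTA (IsScalarTower.toAlgHom A T R) B (sE ψ i)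

theorem sER_orth (i j : Fin n) (h : i ≠ j) : sER ψ R i * sER ψ R j = 0 := by
  rw [sER, sER, ← map_mul, sE, sE, ← map_mul, show (Pi.single i (1 : T) : Fin n → T) * Pi.single j 1 = 0 from funext fun l => by
    rcases eq_or_ne l i with rfl | hl <;> simp [*], map_zero, map_zero]

theorem sum_sER : ∑ i, sER ψ R i = 1 := by
  simp only [sER, sE, ← map_sum]
  rw [show ∑ i : Fin n, Pi.single i (1 : T) = 1 from Finset.univ_sum_single _, map_one, map_one]

theorem exists_coords (y : R ⊗[A] B) : ∃ s : Fin n → R, y = ∑ i, s i • sER ψ R i := by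
  induction y using TensorProduct.induction_on with
  | zero => exact ⟨0, by simp⟩
  | add a b ha hb =>
    obtain ⟨s, rfl⟩ := ha
    obtain ⟨t, rfl⟩ := hb
    exact ⟨s + t, by simp [add_smul, Finset.sum_add_distrib]⟩
  | tmul r b =>
    refine ⟨fun i => r * algebraMap T R (ψ ((1 : T) ⊗ₜ[A] b) i), ?_⟩
    have hb : (1 : T) ⊗ₜ[A] b = ∑ i, ψ ((1 : T) ⊗ₜ[A] b) i • sE ψ i := by
      apply ψ.injective
      simp only [sE, map_sum, map_smul, AlgEquiv.apply_symm_apply]
      conv_lhs => rw [← Finset.univ_sum_single (ψ ((1 : T) ⊗ₜ[A] b))]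
      exact Finset.sum_congr rfl fun i _ => by rw [← Pi.single_smul, smul_eq_mul, mul_one]
    have hs : ∀ (t : T) (z : T ⊗[A] B), rTA (IsScalarTower.toAlgHom A T R) B (t • z) =
        algebraMap T R t • rTA (IsScalarTower.toAlgHom A T R) B z := fun t z => rTA_smul _ t z
    calc r ⊗ₜ[A] b = r • rTA (IsScalarTower.toAlgHom A T R) B ((1 : T) ⊗ₜ[A] b) := by
          simp [rTA, TensorProduct.smul_tmul']
      _ = _ := by
          rw [hb, map_sum, Finset.smul_sum]
          refine Finset.sum_congr rfl fun i _ => ?_
          rw [hs, smul_smul, ← hb]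
          rfl

/-- The polynomial of one sheet. -/
noncomputable def sP (i : Fin n) : T[X] :=
  val F.law T[X] ((X - 1 : T[X]) • sER ψ T[X] i + 1)

theorem val_sheet (i : Fin n) (s : R) :
    val F.law R ((s - 1) • sER ψ R i + 1) = Polynomial.aeval s (sP ψ F i) := by
  let φ : T[X] →ₐ[A] R := (Polynomial.aeval s).restrictScalars A
  show _ = φ (sP ψ F i)
  rw [sP, ← val_rTA, map_add, map_one, rTA_smul, sER, sER, rTA_rTA]
  have hc : φ.comp (IsScalarTower.toAlgHom A T T[X]) = IsScalarTower.toAlgHom A T R :=
    AlgHom.ext fun t => by simp [φ]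
  rw [hc, map_sub, map_one, show φ X = s by simp [φ]]

theorem val_coords (s : Fin n → R) :
    val F.law R (∑ i, s i • sER ψ R i) = ∏ i, Polynomial.aeval (s i) (sP ψ F i) := by
  classical
  have h : ∑ i, s i • sER ψ R i = ∏ i, ((s i - 1) • sER ψ R i + 1) := by
    simp only [Algebra.smul_def (R := R) (A := R ⊗[A] B)]
    rw [show (∏ i, (algebraMap R (R ⊗[A] B) (s i - 1) * sER ψ R i + 1)) =
      ∏ i, (1 + algebraMap R (R ⊗[A] B) (s i - 1) * sER ψ R i) from
      Finset.prod_congr rfl fun i _ => add_comm _ _,
      prod_one_add_orth _ _ _ (sER_orth ψ R)]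
    simp only [map_sub, map_one, sub_mul, one_mul, Finset.sum_sub_distrib, sum_sER]
    abel
  rw [h]
  simp only [← val_sheet]
  induction (Finset.univ : Finset (Fin n)) using Finset.induction with
  | empty => simp [val_one]
  | @insert j S hj ih => rw [Finset.prod_insert hj, Finset.prod_insert hj, val_mul, ih]

theorem sP_mul (i : Fin n) (R : Type u) [CommRing R] [Algebra T R] (a b : R) :
    Polynomial.aeval a (sP ψ F i) * Polynomial.aeval b (sP ψ F i) = Polynomial.aeval (a * b) (sP ψ F i) := by
  letI : Algebra A R := Algebra.compHom R (algebraMap A T)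
  haveI : IsScalarTower A T R := IsScalarTower.of_algebraMap_eq fun _ => rfl
  rw [← val_sheet, ← val_sheet, ← val_sheet, ← val_mul]
  congr 1
  have he : sER ψ R i * sER ψ R i = sER ψ R i := by
    rw [sER, ← map_mul, sE, ← map_mul, ← Pi.single_mul, one_mul]
  rw [add_mul, mul_add, mul_one, one_mul, smul_mul_smul_comm, he, ← add_assoc, ← add_smul, ← add_smul]
  congr 2
  ring

theorem sP_eval_one (i : Fin n) : (sP ψ F i).eval 1 = 1 := by
  have h := val_sheet ψ F T i (1 : T)
  rw [sub_self, zero_smul, zero_add, val_one, Polynomial.coe_aeval_eq_eval] at h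
  exact h.symm

theorem sP_eq_X (hd : n = d) (hF : PolLaw.ker F.law ≤ nilradical B) (i : Fin n) : sP ψ F i = X := by
  classical
  have hidem : IsIdempotentElem ((sP ψ F i).coeff 1) := by
    have h := congrArg (fun q => Polynomial.coeff q 1) (coeff_of_mult _ (sP_mul ψ F i) 1)
    simpa [IsIdempotentElem, coeff_mul_C, coeff_C_mul, coeff_X_pow] using h
  suffices hu : IsUnit ((sP ψ F i).coeff 1) by
    have h1 : (sP ψ F i).coeff 1 = 1 := hu.mul_left_cancel (by rw [hidem.eq, mul_one])
    simpa [h1] using coeff_of_mult _ (sP_mul ψ F i) 1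
  by_contra hu
  obtain ⟨P, hP, hPi⟩ := exists_max_ideal_of_mem_nonunits hu
  letI := Ideal.Quotient.field P
  let L := T ⧸ P
  -- all sheets are monomials at the point
  have hpow : ∀ j, ∃ a, (sP ψ F j).map (algebraMap T L) = X ^ a := by
    intro j
    have hne : (sP ψ F j).map (algebraMap T L) ≠ 0 := fun h0 => by
      have := congrArg (Polynomial.eval (1 : L)) h0
      rw [← map_one (algebraMap T L), Polynomial.eval_map_algebraMap, Polynomial.aeval_algebraMap_apply,
        Polynomial.coe_aeval_eq_eval, sP_eval_one, map_one, Polynomial.eval_zero] at this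
      exact one_ne_zero this
    obtain ⟨k, hk⟩ : ∃ k, algebraMap T L ((sP ψ F j).coeff k) ≠ 0 := by
      by_contra! h
      exact hne (Polynomial.ext fun k => by simpa using h k)
    refine ⟨k, ?_⟩
    have h := congrArg (Polynomial.map (algebraMap T L)) (coeff_of_mult _ (sP_mul ψ F j) k)
    have hid : algebraMap T L ((sP ψ F j).coeff k) = 1 := by
      have h2 := congrArg (fun q => Polynomial.coeff q k) (coeff_of_mult _ (sP_mul ψ F j) k)
      simp only [coeff_mul_C, coeff_C_mul, coeff_X_pow, if_true, mul_one] at h2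
      exact mul_left_cancel₀ hk (by rw [← map_mul, h2, mul_one])
    simpa [Polynomial.map_mul, Polynomial.map_pow, hid] using h
  choose a ha using hpow
  have hsum : ∑ j, a j = d := by
    have h := val_coords ψ F T[X] fun _ => (X : T[X])
    rw [← Finset.smul_sum, sum_sER, val_smul, val_one, mul_one] at h
    have h' := congrArg (fun q => (Polynomial.map (algebraMap T L) q).natDegree) h
    simp only [Polynomial.map_prod, Polynomial.map_pow, Polynomial.map_X, Polynomial.aeval_X_left_apply, ha,
      Polynomial.natDegree_X_pow, Finset.prod_pow_eq_pow_sum] at h'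
    exact h'.symm
  have hpos : ∀ j, 1 ≤ a j := by
    intro j
    by_contra hj
    have hj0 : a j = 0 := by omega
    have hmem : sER ψ L j ∈ PolLaw.kerBC F.law L := by
      rw [mem_kerBC_iff]
      intro R _ _ σ x w
      letI : CommRing R := { Algebra.semiringToRing A (A := R) with mul_comm := mul_comm }
      letI : Algebra T R := (σ.toRingHom.comp (algebraMap T L)).toAlgebra
      haveI : IsScalarTower A T R := IsScalarTower.of_algebraMap_eq fun r => by
        show algebraMap A R r = σ (algebraMap T L (algebraMap A T r))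
        rw [← IsScalarTower.algebraMap_apply A T L, σ.commutes]
      have he : rTA σ B (sER ψ L j) = sER ψ R j := by
        rw [sER, sER, rTA_rTA]
        exact rTA_eq_of_comp (fun t => rfl) _
      obtain ⟨s, rfl⟩ := exists_coords ψ R x
      obtain ⟨t, rfl⟩ := exists_coords ψ R w
      rw [he]
      have hsw : (∑ i, t i • sER ψ R i) * sER ψ R j = t j • sER ψ R j := by
        rw [Finset.sum_mul, Finset.sum_eq_single j]
        · rw [smul_mul_assoc, sER, ← map_mul, sE, ← map_mul, ← Pi.single_mul, one_mul]
        · intro i _ hij; rw [smul_mul_assoc, sER_orth ψ R i j hij, smul_zero]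
        · simp
      rw [hsw]
      have hxw : (∑ i, s i • sER ψ R i) + t j • sER ψ R j = ∑ i, Function.update s j (s j + t j) i • sER ψ R i := by
        rw [← Finset.add_sum_erase _ _ (Finset.mem_univ j),
          ← Finset.add_sum_erase _ (fun i => Function.update s j (s j + t j) i • sER ψ R i) (Finset.mem_univ j),
          Function.update_self, add_smul, Finset.sum_congr rfl (g := fun i => Function.update s j (s j + t j) i • sER ψ R i)
          (fun i hi => by rw [Function.update_of_ne (Finset.ne_of_mem_erase hi)])]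
        abel
      apply (TensorProduct.rid A R).injective
      show val F.law R _ = val F.law R _
      rw [hxw, val_coords, val_coords]
      refine Finset.prod_congr rfl fun i _ => ?_
      rcases eq_or_ne i j with rfl | hij
      · have hone : ∀ c : R, Polynomial.aeval c (sP ψ F i) = 1 := fun c => by
          rw [Polynomial.aeval_def, show algebraMap T R = σ.toRingHom.comp (algebraMap T L) from rfl,
            ← Polynomial.eval₂_map, ha, hj0, pow_zero, Polynomial.eval₂_one]
        rw [hone, hone]
      · rw [Function.update_of_ne hij]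
    have hrad : sER ψ L j ∈ ((PolLaw.ker F.law).map
        (Algebra.TensorProduct.includeRight : B →ₐ[A] L ⊗[A] B)).radical := by
      rw [← radical_kerBC]; exact Ideal.le_radical hmem
    have hle : (PolLaw.ker F.law).map (Algebra.TensorProduct.includeRight : B →ₐ[A] L ⊗[A] B) ≤
        nilradical (L ⊗[A] B) :=
      Ideal.map_le_iff_le_comap.mpr fun b hb => Ideal.mem_comap.mpr
        (mem_nilradical.mpr ((mem_nilradical.mp (hF hb)).map _))
    obtain ⟨m, hm⟩ := hrad
    have hnil : IsNilpotent (sER ψ L j) := by
      obtain ⟨k, hk⟩ := mem_nilradical.mp (hle hm)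
      exact ⟨m * k, by rw [pow_mul, hk]⟩
    let χ : L ⊗[A] B →ₐ[A] L := Algebra.TensorProduct.lift (AlgHom.id A L)
      (((IsScalarTower.toAlgHom A T L).comp ((Pi.evalAlgHom T (fun _ => T) j).comp ψ.toAlgHom |>.restrictScalars A)).comp
        Algebra.TensorProduct.includeRight) fun _ _ => Commute.all _ _
    have hχ : ∀ z : T ⊗[A] B, χ (rTA (IsScalarTower.toAlgHom A T L) B z) = algebraMap T L (ψ z j) := by
      intro z
      induction z using TensorProduct.induction_on with
      | zero => simp
      | tmul t b =>
        conv_rhs => rw [show t ⊗ₜ[A] b = t • ((1 : T) ⊗ₜ[A] b) by simp [TensorProduct.smul_tmul'], map_smul,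
          Pi.smul_apply, smul_eq_mul, map_mul]
        simp [χ, rTA]
      | add p q hp hq => rw [map_add, map_add, hp, hq, map_add, Pi.add_apply, map_add]
    have h1 := hnil.map χ
    rw [sER, hχ, sE, AlgEquiv.apply_symm_apply, Pi.single_eq_same, map_one] at h1
    exact not_isNilpotent_one h1
  have hone : a i = 1 := by
    have h1 : ∑ _j : Fin n, 1 ≤ ∑ j, a j := Finset.sum_le_sum fun j _ => hpos j
    have h2 : ∑ j, (a j - 1) = 0 := by
      rw [Finset.sum_tsub_distrib _ fun j _ => hpos j, hsum]
      simp [hd]
    have := Finset.sum_eq_zero_iff.mp h2 i (Finset.mem_univ i)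
    have := hpos i
    omega
  have hc := congrArg (fun q => Polynomial.coeff q 1) (ha i)
  simp only [Polynomial.coeff_map, hone, pow_one, coeff_X_one] at hc
  rw [show algebraMap T L ((sP ψ F i).coeff 1) = 0 from Ideal.Quotient.eq_zero_iff_mem.mpr hPi] at hc
  exact zero_ne_one hc

end Split

variable [Module.Free A B] [Module.Finite A B] [Algebra.Etale A B]

theorem law_unique_of_etale (hd : Module.finrank A B = d) (F G : PolLaw.MulLaw A B A d)
    (hF : PolLaw.ker F.law ≤ nilradical B) (hG : PolLaw.ker G.law ≤ nilradical B) : F = G := by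
  rcases subsingleton_or_nontrivial A with hA | hA
  · refine PolLaw.MulLaw.ext (law_ext fun m z => ?_)
    haveI := Module.subsingleton A (MvPolynomial (Fin m) A ⊗[A] A)
    exact Subsingleton.elim _ _
  obtain ⟨T, _, _, _, _, _, hT⟩ := Algebra.IsFiniteSplit.exists_tensorProduct_of_etale (R := A) (S := B) (n := d)
    (by rw [Module.rankAtStalk_eq_finrank_of_free, hd])
  obtain ⟨n, ⟨ψ⟩⟩ := hT.nonempty_algEquiv_fun
  have hTinj : Function.Injective (algebraMap A T) := FaithfulSMul.algebraMap_injective A T
  haveI : Nontrivial T := hTinj.nontrivial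
  have hn : n = d := by
    have := ψ.toLinearEquiv.finrank_eq
    rw [Module.finrank_baseChange, hd, Module.finrank_fin_fun] at this
    exact this.symm
  refine PolLaw.MulLaw.ext (law_ext fun m z => (TensorProduct.rid A _).injective ?_)
  let ι : MvPolynomial (Fin m) A →ₐ[A] MvPolynomial (Fin m) T := MvPolynomial.mapAlgHom (Algebra.ofId A T)
  refine (MvPolynomial.map_injective _ hTinj : Function.Injective ι) ?_
  show ι (val F.law _ z) = ι (val G.law _ z)
  rw [← val_rTA, ← val_rTA]
  obtain ⟨s, hs⟩ := exists_coords ψ (MvPolynomial (Fin m) T) (rTA ι B z)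
  rw [hs, val_coords, val_coords]
  refine Finset.prod_congr rfl fun i _ => ?_
  rw [sP_eq_X ψ F hn hF, sP_eq_X ψ G hn hG]

theorem normLaw_ker_eq_bot (N : PolLaw.MulLaw A B A d)
    (hN : ∀ (S : Type u) [CommRing S] [Algebra A S] (x : S ⊗[A] B),
      N.law.toFun' S x = Algebra.norm S x ⊗ₜ[A] (1 : A)) : PolLaw.ker N.law = ⊥ := by
  classical
  rw [eq_bot_iff]
  intro b hb
  have htr : ∀ c : B, Algebra.trace A B (b * c) = 0 := by
    intro c
    let e := Module.Free.chooseBasis A B
    have h := hb (DualNumber A) 1 ((DualNumber.eps : DualNumber A) ⊗ₜ[A] c)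
    rw [hN, hN, map_one, Algebra.TensorProduct.tmul_mul_tmul, mul_one] at h
    have h' := congrArg (TensorProduct.rid A (DualNumber A)) h
    simp only [TensorProduct.rid_tmul, one_smul] at h'
    rw [Algebra.norm_eq_matrix_det (e.baseChange (DualNumber A))] at h'
    have hmat : Algebra.leftMulMatrix (e.baseChange (DualNumber A))
        (1 + (DualNumber.eps : DualNumber A) ⊗ₜ[A] (c * b)) =
        1 + (DualNumber.eps : DualNumber A) • (Algebra.leftMulMatrix e (c * b)).map (algebraMap A (DualNumber A)) := by
      rw [map_add, map_one, show (DualNumber.eps : DualNumber A) ⊗ₜ[A] (c * b) =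
        (DualNumber.eps : DualNumber A) • ((1 : DualNumber A) ⊗ₜ[A] (c * b)) by simp [TensorProduct.smul_tmul'],
        map_smul]
      congr 2
      ext p q <;>
        rw [Matrix.map_apply, Algebra.leftMulMatrix_eq_repr_mul, Algebra.leftMulMatrix_eq_repr_mul,
          Module.Basis.baseChange_apply, Algebra.TensorProduct.tmul_mul_tmul, one_mul,
          Module.Basis.baseChange_repr_tmul, Algebra.algebraMap_eq_smul_one]
    rw [hmat, Matrix.det_one_add_smul] at h'
    rw [Algebra.trace_eq_matrix_trace e, mul_comm b c]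
    generalize Algebra.leftMulMatrix e (c * b) = M at h' ⊢
    rw [show (M.map (algebraMap A (DualNumber A))).trace = algebraMap A (DualNumber A) M.trace from
      (AddMonoidHom.map_trace (algebraMap A (DualNumber A)).toAddMonoidHom M).symm] at h'
    have h'' := congrArg TrivSqZeroExt.snd h'
    simpa [pow_two, DualNumber.eps_mul_eps, TrivSqZeroExt.algebraMap_eq_inl] using h''
  have h0 : Algebra.traceForm A B b = 0 := LinearMap.ext fun c => by
    rw [Algebra.traceForm_apply]; exact htr c
  exact Submodule.mem_bot B |>.mpr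
    (((Groth.Agent.Unr55.etale_iff_bijective_traceForm A B).mp inferInstance).injective (h0.trans (map_zero _).symm))

end Groth.Agent.PolLaw95
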