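import Groth.Agent.PolLaw95.Gen
import Mathlib.Algebra.BigOperators.Finsupp.Fin
import Mathlib.LinearAlgebra.Multilinear.Basic
import Mathlib.Algebra.BigOperators.Ring.Finset
import Mathlib.GroupTheory.Perm.Basic
import Mathlib.Data.Fintype.Perm
import Mathlib.Data.Nat.Factorial.Basic

/-!
Polarisation of a homogeneous law.
-/

set_option linter.unusedSectionVars false

universe u

open scoped TensorProduct

open MvPolynomial

namespace Groth.Agent.PolLaw95

variable {A : Type u} [CommRing A] {B C : Type u} [AddCommGroup B] [Module A B] [AddCommGroup C] [Module A C]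
  {d : ℕ} (F : B →ₚₗ[A] C)

theorem coef_subst {σ τ : Type} [Fintype σ] (b : σ → B) (φ : MvPolynomial σ A →ₐ[A] MvPolynomial τ A)
    (α : τ →₀ ℕ) :
    coefL (F.toFun' _ (rT φ B (uni A b))) α =
      ∑ β ∈ (coefL (F.toFun' _ (uni A b))).support, coeff α (φ (monomial β 1)) • coef F b β := by
  rw [← compat]
  conv_lhs => rw [eq_sum_coef (F.toFun' _ (uni A b))]
  simp only [map_sum, Finsupp.finsetSum_apply, rT_tmul, coefL_tmul]
  rfl

theorem coef_mapDomain {σ τ : Type} [Fintype σ] [Fintype τ] [DecidableEq σ] (f : σ → τ)
    (hf : Function.Injective f) (b : τ → B) (α : σ →₀ ℕ) :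
    coef F b (α.mapDomain f) = coef F (b ∘ f) α := by
  classical
  let φ : MvPolynomial τ A →ₐ[A] MvPolynomial σ A := aeval fun t => if h : ∃ i, f i = t then X h.choose else 0
  have hφ : ∀ i, φ (X (f i)) = X i := fun i => by
    have h : ∃ j, f j = f i := ⟨i, rfl⟩
    simp only [φ, aeval_X, dif_pos h]
    rw [hf h.choose_spec]
  have hφ0 : ∀ t, (¬ ∃ i, f i = t) → φ (X t) = 0 := fun t h => by simp only [φ, aeval_X, dif_neg h]
  have e : rT φ B (uni A b) = uni A (b ∘ f) := by
    simp only [uni, map_sum, rT_tmul]
    rw [← Finset.sum_subset (Finset.subset_univ (Finset.univ.image f))]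
    · rw [Finset.sum_image fun x _ y _ h => hf h]
      exact Finset.sum_congr rfl fun i _ => by rw [hφ]; rfl
    · intro t _ ht
      rw [hφ0 t (by simpa using ht), TensorProduct.zero_tmul]
  have h := coef_subst F b φ α
  rw [e] at h
  rw [show coef F (b ∘ f) α = coefL (F.toFun' _ (uni A (b ∘ f))) α from rfl, h,
    Finset.sum_eq_single (α.mapDomain f)]
  · have : φ (monomial (α.mapDomain f) 1) = monomial α 1 := by
      rw [← rename_monomial, ← AlgHom.comp_apply, show φ.comp (rename f) = AlgHom.id A _ from
        algHom_ext fun i => by simp only [AlgHom.comp_apply, rename_X]; exact hφ i, AlgHom.id_apply]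
    rw [this, coeff_monomial, if_pos rfl, one_smul]
  · intro β _ hβ
    by_cases hs : ∀ t ∈ β.support, ∃ i, f i = t
    · obtain ⟨γ, rfl⟩ : ∃ γ : σ →₀ ℕ, γ.mapDomain f = β :=
        ⟨β.comapDomain f hf.injOn, Finsupp.mapDomain_comapDomain f hf β fun t ht => hs t ht⟩
      rw [← rename_monomial, ← AlgHom.comp_apply, show φ.comp (rename f) = AlgHom.id A _ from
        algHom_ext fun i => by simp only [AlgHom.comp_apply, rename_X]; exact hφ i, AlgHom.id_apply,
        coeff_monomial, if_neg fun e => hβ (by rw [e]), zero_smul]
    · push Not at hs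
      obtain ⟨t, ht, hne⟩ := hs
      rw [monomial_eq, map_mul, Finsupp.prod, map_prod, Finset.prod_eq_zero ht (by
        rw [map_pow, hφ0 t (by simpa using hne), zero_pow (Finsupp.mem_support_iff.mp ht)]), mul_zero,
        coeff_zero, zero_smul]
  · intro hα
    rw [coef, Finsupp.notMem_support_iff.mp hα, smul_zero]

/-- The exponent with all entries one. -/
noncomputable def onesE (σ : Type) [Fintype σ] : σ →₀ ℕ := Finsupp.equivFunOnFinite.symm fun _ => 1

/-- The polar form. -/
noncomputable def polar {σ : Type} [Fintype σ] (b : σ → B) : C := coef F b (onesE σ)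

theorem polar_update_smul {σ : Type} [Fintype σ] [DecidableEq σ] (b : σ → B) (i : σ) (c : A) (a : B) :
    polar F (Function.update b i (c • a)) = c • polar F (Function.update b i a) := by
  classical
  set b' := Function.update b i a
  let φ : MvPolynomial σ A →ₐ[A] MvPolynomial σ A := aeval fun j => if j = i then c • X i else X j
  have hb : Function.update b i (c • a) = fun j => if j = i then c • b' j else b' j := by
    funext j; by_cases h : j = i <;> simp [b', h]
  have e : uni A (Function.update b i (c • a)) = rT φ B (uni A b') := by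
    simp only [uni, map_sum, rT_tmul, φ, aeval_X, hb]
    refine Finset.sum_congr rfl fun j _ => ?_
    by_cases h : j = i
    · subst h; simp [TensorProduct.smul_tmul]
    · simp [h]
  have h := coef_subst F b' φ (onesE σ)
  rw [← e] at h
  change coef F _ _ = c • coef F _ _
  rw [show coef F (Function.update b i (c • a)) (onesE σ) = coefL (F.toFun' _ (uni A (Function.update b i (c • a)))) (onesE σ) from rfl, h]
  have hm : ∀ β : σ →₀ ℕ, φ (monomial β 1) = c ^ β i • monomial β (1 : A) := by
    intro β
    induction β using Finsupp.induction with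
    | zero => simp
    | single_add j e g hj _ ih =>
      rw [← one_mul (1 : A), ← monomial_mul, map_mul, ih, ← X_pow_eq_monomial, map_pow]
      simp only [φ, aeval_X, Finsupp.add_apply, Finsupp.single_apply]
      by_cases h : j = i
      · subst h; simp [smul_pow, smul_smul, pow_add, mul_comm]
      · simp [h]
  rw [Finset.sum_eq_single (onesE σ)]
  · rw [hm, coeff_smul, coeff_monomial, if_pos rfl]
    simp [onesE, coef]
  · intro β _ hβ
    rw [hm, coeff_smul, coeff_monomial, if_neg hβ, smul_zero, zero_smul]
  · intro hα
    rw [coef, Finsupp.notMem_support_iff.mp hα, smul_zero]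

theorem polar_update_add {σ : Type} [Fintype σ] [DecidableEq σ] (b : σ → B) (i : σ) (a a' : B) :
    polar F (Function.update b i (a + a')) =
      polar F (Function.update b i a) + polar F (Function.update b i a') := by
  classical
  let bb : Option σ → B := fun o => o.elim a' (Function.update b i a)
  let φ : MvPolynomial (Option σ) A →ₐ[A] MvPolynomial σ A := aeval fun o => X (o.getD i)
  have e : uni A (Function.update b i (a + a')) = rT φ B (uni A bb) := by
    simp only [uni, Fintype.sum_option]
    simp only [map_add, map_sum, rT_tmul, φ, aeval_X, bb, Option.getD_none, Option.getD_some,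
      Option.elim_none, Option.elim_some]
    rw [← Finset.add_sum_erase _ _ (Finset.mem_univ i),
      ← Finset.add_sum_erase Finset.univ (fun j => (X j : MvPolynomial σ A) ⊗ₜ[A] Function.update b i a j) (Finset.mem_univ i),
      Function.update_self, Function.update_self, TensorProduct.tmul_add]
    rw [Finset.sum_congr rfl fun j hj => by rw [Function.update_of_ne (Finset.ne_of_mem_erase hj)],
      Finset.sum_congr rfl fun j hj => (by rw [Function.update_of_ne (Finset.ne_of_mem_erase hj)] :
        (X j : MvPolynomial σ A) ⊗ₜ[A] Function.update b i a j = X j ⊗ₜ[A] b j)]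
    abel
  have h := coef_subst F bb φ (onesE σ)
  rw [← e] at h
  change coef F _ _ = coef F _ _ + coef F _ _
  rw [show coef F (Function.update b i (a + a')) (onesE σ) = coefL (F.toFun' _ (uni A (Function.update b i (a + a')))) (onesE σ) from rfl, h]
  have hm : ∀ β : Option σ →₀ ℕ, φ (monomial β 1) = monomial (β.mapDomain fun o => o.getD i) 1 := by
    intro β
    rw [show φ = rename (fun o => o.getD i) from algHom_ext fun o => by simp [φ], rename_monomial]
  simp only [hm, coeff_monomial, ite_smul, one_smul, zero_smul]
  let f1 : σ → Option σ := some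
  let f2 : σ → Option σ := fun j => if j = i then none else some j
  have hf2 : Function.Injective f2 := fun x y hxy => by
    simp only [f2] at hxy; split_ifs at hxy with h1 h2 <;> simp_all
  have c1 := coef_mapDomain F f1 (Option.some_injective σ) bb (onesE σ)
  have c2 := coef_mapDomain F f2 hf2 bb (onesE σ)
  rw [show bb ∘ f1 = Function.update b i a from rfl] at c1
  rw [show bb ∘ f2 = Function.update b i a' from funext fun j => by
    by_cases hj : j = i <;> simp [bb, f2, hj]] at c2
  rw [← c1, ← c2]
  set β1 := (onesE σ).mapDomain f1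
  set β2 := (onesE σ).mapDomain f2
  have g1 : β1 none = 0 := Finsupp.mapDomain_of_notMem_range _ _ (by simp [f1])
  have g1' : ∀ j, β1 (some j) = 1 := fun j =>
    (Finsupp.mapDomain_apply (Option.some_injective σ) _ j).trans (by simp [onesE])
  have g2 : β2 none = 1 := by
    have := Finsupp.mapDomain_apply hf2 (onesE σ) i
    simpa [f2, β2, onesE] using this
  have g2' : ∀ j, β2 (some j) = if j = i then 0 else 1 := fun j => by
    split_ifs with hj
    · subst hj
      exact Finsupp.mapDomain_of_notMem_range _ _ (fun ⟨k, hk⟩ => by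
        simp only [f2] at hk; split_ifs at hk with hki; exact hki (Option.some_injective _ hk))
    · have := Finsupp.mapDomain_apply hf2 (onesE σ) j
      simpa [f2, hj, β2, onesE] using this
  have hne : β1 ≠ β2 := fun hh => by
    have := DFunLike.congr_fun hh none
    omega
  have p1 : β1.mapDomain (fun o => o.getD i) = onesE σ := by
    rw [← Finsupp.mapDomain_comp]
    exact Finsupp.mapDomain_id
  have p2 : β2.mapDomain (fun o => o.getD i) = onesE σ := by
    rw [← Finsupp.mapDomain_comp, show (fun o => Option.getD o i) ∘ f2 = id from funext fun j => by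
      by_cases hj : j = i <;> simp [f2, hj]]
    exact Finsupp.mapDomain_id
  have char : ∀ β : Option σ →₀ ℕ, β.mapDomain (fun o => o.getD i) = onesE σ → β = β1 ∨ β = β2 := by
    intro β hβ
    have val : ∀ j, (if j = i then β none else 0) + β (some j) = 1 := by
      intro j
      have h1 := DFunLike.congr_fun hβ j
      rw [Finsupp.mapDomain, Finsupp.sum_apply, Finsupp.sum_fintype _ _ (by simp), Fintype.sum_option] at h1
      simp only [Finsupp.single_apply, Option.getD_none, Option.getD_some, Finset.sum_ite_eq', Finset.mem_univ,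
        if_true, eq_comm (a := i)] at h1
      simpa [onesE] using h1
    have hi := val i
    rw [if_pos rfl] at hi
    rcases Nat.eq_zero_or_pos (β none) with h0 | h0
    · refine Or.inl (Finsupp.ext fun o => ?_)
      cases o with
      | none => rw [g1, h0]
      | some j => rw [g1']; have := val j; split_ifs at this <;> omega
    · refine Or.inr (Finsupp.ext fun o => ?_)
      cases o with
      | none => rw [g2]; omega
      | some j =>
        rw [g2']
        have := val j
        by_cases hj : j = i
        · subst hj; simp at this ⊢; omega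
        · simp only [if_neg hj] at this ⊢; omega
  rw [← Finset.sum_filter]
  rw [Finset.sum_subset (s₁ := _) (s₂ := {β1, β2}) (fun β hβ => by
    simpa using char β (Finset.mem_filter.mp hβ).2) (fun β hβ hβ' => ?_), Finset.sum_pair hne]
  simp only [Finset.mem_filter, Finsupp.mem_support_iff, not_and] at hβ'
  by_contra hc
  rcases Finset.mem_insert.mp hβ with rfl | hβ
  · exact hβ' hc p1
  · obtain rfl := Finset.mem_singleton.mp hβ; exact hβ' hc p2

open Classical in
/-- The polar form as a multilinear map. -/
noncomputable def polarM (σ : Type) [Fintype σ] : MultilinearMap A (fun _ : σ => B) C :=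
  MultilinearMap.mk' (fun b => polar F b)
    (fun b i x y => by classical convert! polar_update_add F b i x y)
    (fun b i c x => by classical convert! polar_update_smul F b i c x)

theorem polarM_apply {σ : Type} [Fintype σ] (b : σ → B) : polarM F σ b = polar F b := rfl

/-- Exponent of the monomial `∏ k, X (c k)`. -/
noncomputable def counts {σ τ : Type} [Fintype σ] (c : σ → τ) : τ →₀ ℕ := (onesE σ).mapDomain c

theorem monomial_counts {σ τ : Type} [Fintype σ] (c : σ → τ) :
    monomial (counts c) (1 : A) = ∏ k, X (c k) := by
  classical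
  unfold counts
  rw [← rename_monomial, monomial_eq, C_1, one_mul, map_finsuppProd, Finsupp.prod_fintype _ _ (by simp)]
  simp [onesE]

theorem sum_polar_eq {n : ℕ} (hF : PolLaw.IsHomog F d) (b : Fin n → B) (β : Fin n →₀ ℕ) :
    ∑ c : Fin d → Fin n, (if counts c = β then polar F (b ∘ c) else 0) = d.factorial • coef F b β := by
  classical
  let φ : MvPolynomial (Fin d × Fin n) A →ₐ[A] MvPolynomial (Fin d ⊕ Fin n) A :=
    aeval fun p => X (Sum.inl p.1) * X (Sum.inr p.2)
  let ι' : MvPolynomial (Fin n) A →ₐ[A] MvPolynomial (Fin d ⊕ Fin n) A := rename Sum.inr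
  set Y : MvPolynomial (Fin d ⊕ Fin n) A := ∑ k : Fin d, X (Sum.inl k)
  have e : rT φ B (uni A fun p : Fin d × Fin n => b p.2) = Y • rT ι' B (uni A b) := by
    simp only [uni, map_sum, rT_tmul, φ, ι', aeval_X, rename_X, Y, Finset.smul_sum,
      TensorProduct.smul_tmul', smul_eq_mul, Finset.sum_mul, Fintype.sum_prod_type, TensorProduct.sum_tmul]
    rw [Finset.sum_comm]
  set t : (Fin d ⊕ Fin n) →₀ ℕ := (onesE (Fin d)).mapDomain Sum.inl + β.mapDomain Sum.inr
  have tl : ∀ k, t (Sum.inl k) = 1 := fun k => by
    simp [t, Finsupp.mapDomain_apply Sum.inl_injective, Finsupp.mapDomain_of_notMem_range, onesE]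
  have tr : ∀ j, t (Sum.inr j) = β j := fun j => by
    simp [t, Finsupp.mapDomain_apply Sum.inr_injective, Finsupp.mapDomain_of_notMem_range]
  have h := coef_subst F (fun p : Fin d × Fin n => b p.2) φ t
  rw [e, hF, ← compat, eq_sum_coef (F.toFun' _ (uni A b)), map_sum, Finset.smul_sum, map_sum,
    Finsupp.finsetSum_apply] at h
  simp only [rT_tmul, TensorProduct.smul_tmul', smul_eq_mul, coefL_tmul] at h
  have hY : ∀ γ : Fin n →₀ ℕ, coeff t (Y ^ d * ι' (monomial γ 1)) = if γ = β then (d.factorial : A) else 0 := by
    intro γ
    rw [Fintype.sum_pow, show ι' (monomial γ 1) = monomial (γ.mapDomain Sum.inr) 1 from rename_monomial _ _ _,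
      Finset.sum_mul, coeff_sum]
    have hterm : ∀ g : Fin d → Fin d, coeff t ((∏ i, (X (Sum.inl (g i)) : MvPolynomial (Fin d ⊕ Fin n) A)) *
        monomial (γ.mapDomain Sum.inr) 1) = if Function.Bijective g ∧ γ = β then 1 else 0 := by
      intro g
      rw [← monomial_counts (fun i => Sum.inl (g i)), monomial_mul, one_mul, coeff_monomial]
      refine if_congr ⟨fun hh => ?_, fun hh => ?_⟩ rfl rfl
      · have hl : ∀ k, counts g k = 1 := fun k => by
          have := DFunLike.congr_fun hh (Sum.inl k)
          rw [Finsupp.add_apply, tl, show counts (fun i => (Sum.inl (g i) : Fin d ⊕ Fin n)) = (counts g).mapDomain Sum.inl from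
            Finsupp.mapDomain_comp, Finsupp.mapDomain_apply Sum.inl_injective,
            Finsupp.mapDomain_of_notMem_range _ _ (by simp), add_zero] at this
          exact this
        refine ⟨Finite.surjective_iff_bijective.mp fun k => ?_, Finsupp.ext fun j => ?_⟩
        · by_contra hk
          exact absurd ((Finsupp.mapDomain_of_notMem_range _ _ fun ⟨a, ha⟩ => hk ⟨a, ha⟩).symm.trans (hl k)) zero_ne_one
        · have := DFunLike.congr_fun hh (Sum.inr j)
          rw [Finsupp.add_apply, tr, counts, Finsupp.mapDomain_of_notMem_range _ _ (by simp),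
            Finsupp.mapDomain_apply Sum.inr_injective, zero_add] at this
          exact this
      · obtain ⟨hg, rfl⟩ := hh
        rw [show counts (fun i => (Sum.inl (g i) : Fin d ⊕ Fin n)) = (counts g).mapDomain Sum.inl from
          Finsupp.mapDomain_comp]
        congr 2
        ext k
        obtain ⟨a, rfl⟩ := hg.2 k
        rw [counts, Finsupp.mapDomain_apply hg.1]
        simp [onesE]
    simp only [hterm, ite_and]
    split_ifs with hγ
    · rw [Finset.sum_boole]
      congr 1
      rw [← Fintype.card_perm.trans (congrArg _ (Fintype.card_fin d))]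
      refine Finset.card_bij (fun g hg => Equiv.ofBijective g (Finset.mem_filter.mp hg).2) (fun _ _ => Finset.mem_univ _)
        (fun a _ b _ hab => funext fun i => DFunLike.congr_fun hab i) fun σ _ => ⟨σ, Finset.mem_filter.mpr ⟨Finset.mem_univ _, σ.bijective⟩, by ext; simp⟩
    · simp
  simp only [hY, ite_smul, zero_smul, Nat.cast_smul_eq_nsmul, Finset.sum_ite_eq'] at h
  have lhs : (if β ∈ (coefL (F.toFun' _ (uni A b))).support then d.factorial • coef F b β else 0) =
      d.factorial • coef F b β := by
    split_ifs with hs
    · rfl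
    · rw [coef, Finsupp.notMem_support_iff.mp hs, smul_zero]
  change (if _ then d.factorial • coef F b β else 0) = _ at h
  rw [lhs] at h
  rw [h]
  set D := fun c : Fin d → Fin n => counts fun k => (k, c k)
  have hD : ∀ c, coef F (fun p : Fin d × Fin n => b p.2) (D c) = polar F (b ∘ c) := fun c =>
    coef_mapDomain F (fun k => (k, c k)) (fun x y hxy => congrArg Prod.fst hxy) _ _
  have hφ : ∀ γ : Fin d × Fin n →₀ ℕ, φ (monomial γ 1) =
      monomial ((γ.mapDomain Prod.fst).mapDomain Sum.inl + (γ.mapDomain Prod.snd).mapDomain Sum.inr) (1 : A) := by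
    intro γ
    rw [← one_mul (1 : A), ← monomial_mul, one_mul, ← Finsupp.mapDomain_comp, ← Finsupp.mapDomain_comp,
      ← rename_monomial, ← rename_monomial, monomial_eq, C_1, one_mul, map_finsuppProd, map_finsuppProd,
      map_finsuppProd, ← Finsupp.prod_mul]
    refine Finsupp.prod_congr fun p _ => ?_
    simp [φ, mul_pow]
  have hsupp : ∀ γ : Fin d × Fin n →₀ ℕ,
      ((γ.mapDomain Prod.fst).mapDomain Sum.inl + (γ.mapDomain Prod.snd).mapDomain Sum.inr = t) ↔
        ∃ c, counts c = β ∧ D c = γ := by
    intro γ
    constructor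
    · intro hh
      have h1 : ∀ k, ∑ j, γ (k, j) = 1 := fun k => by
        have := DFunLike.congr_fun hh (Sum.inl k)
        rw [Finsupp.add_apply, tl, Finsupp.mapDomain_apply Sum.inl_injective,
          Finsupp.mapDomain_of_notMem_range (f := Sum.inr) _ _ (by simp), add_zero] at this
        rw [← this, Finsupp.mapDomain, Finsupp.sum_apply, Finsupp.sum_fintype _ _ (by simp), Fintype.sum_prod_type]
        simp [Finsupp.single_apply, Finset.sum_ite_eq']
      have ex : ∀ k, ∃ j, γ (k, j) = 1 ∧ ∀ j', j' ≠ j → γ (k, j') = 0 := fun k => by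
        obtain ⟨j, hj⟩ : ∃ j, γ (k, j) ≠ 0 := by
          by_contra hc; push Not at hc
          simpa [hc] using h1 k
        have hle := Finset.single_le_sum (f := fun j => γ (k, j)) (fun _ _ => Nat.zero_le _) (Finset.mem_univ j)
        refine ⟨j, by have := h1 k; omega, fun j' hne => ?_⟩
        have h2 := Finset.add_le_sum (f := fun j => γ (k, j)) (fun _ _ => Nat.zero_le _) (Finset.mem_univ j) (Finset.mem_univ j') hne.symm
        have := h1 k
        omega
      choose c hc hc' using ex
      have hDc : D c = γ := by
        ext ⟨k, j⟩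
        by_cases hj : j = c k
        · subst hj
          rw [hc, show D c (k, c k) = _ from Finsupp.mapDomain_apply (fun x y hxy => congrArg Prod.fst hxy) _ k]
          simp [onesE]
        · rw [hc' k j hj]
          exact Finsupp.mapDomain_of_notMem_range _ _ fun ⟨a, ha⟩ => hj (by
            obtain ⟨rfl, rfl⟩ := Prod.mk.inj ha; rfl)
      refine ⟨c, ?_, hDc⟩
      ext j
      have := DFunLike.congr_fun hh (Sum.inr j)
      rw [Finsupp.add_apply, tr, Finsupp.mapDomain_of_notMem_range _ _ (by simp),
        Finsupp.mapDomain_apply Sum.inr_injective, zero_add, ← hDc] at this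
      rw [← this]
      simp only [D, counts, ← Finsupp.mapDomain_comp]
      rfl
    · rintro ⟨c, rfl, rfl⟩
      simp only [t, D, counts, ← Finsupp.mapDomain_comp]
      congr 1
  simp only [hφ, coeff_monomial, ite_smul, one_smul, zero_smul, hsupp]
  rw [← Finset.sum_filter, ← Finset.sum_filter]
  refine Eq.trans ?_ (Finset.sum_subset (s₂ := (Finset.univ.filter fun c => counts c = β).image D) ?_ ?_).symm
  · rw [Finset.sum_image]
    · exact Finset.sum_congr rfl fun c _ => (hD c).symm
    · intro c _ c' _ hcc
      funext k
      by_contra hne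
      have h0 := DFunLike.congr_fun hcc (k, c k)
      rw [show D c (k, c k) = _ from Finsupp.mapDomain_apply (fun x y hxy => congrArg Prod.fst hxy) _ k,
        show D c' (k, c k) = 0 from Finsupp.mapDomain_of_notMem_range _ _ fun ⟨a, ha⟩ => by
          obtain ⟨rfl, ha⟩ := Prod.mk.inj ha; exact hne ha.symm] at h0
      simp [onesE] at h0
  · intro γ hγ
    obtain ⟨c, h1, h2⟩ := (Finset.mem_filter.mp hγ).2
    exact Finset.mem_image.mpr ⟨c, Finset.mem_filter.mpr ⟨Finset.mem_univ _, h1⟩, h2⟩
  · intro γ hγ hγ'
    obtain ⟨c, hc, rfl⟩ := Finset.mem_image.mp hγ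
    simp only [Finset.mem_filter, Finsupp.mem_support_iff, not_and] at hγ'
    by_contra hne
    exact hγ' hne ⟨c, (Finset.mem_filter.mp hc).2, rfl⟩

end Groth.Agent.PolLaw95
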