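import Groth.Agent.PolLaw95.Laws
import Mathlib.RingTheory.Spectrum.Prime.Topology
import Mathlib.RingTheory.PolynomialAlgebra

/-!
Multiplicative laws on a product over a connected base.
-/

set_option linter.unusedSectionVars false
set_option autoImplicit false

universe u

open scoped TensorProduct
open Polynomial

namespace Groth.Agent.PolLaw95

theorem idem_zero_or_one {A : Type u} [CommRing A] [ConnectedSpace (PrimeSpectrum A)] {e : A}
    (he : IsIdempotentElem e) : e = 0 ∨ e = 1 := by
  have hclop : IsClopen (PrimeSpectrum.basicOpen e : Set (PrimeSpectrum A)) :=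
    PrimeSpectrum.isClopen_iff.mpr ⟨e, he, rfl⟩
  rcases isClopen_iff.mp hclop with h | h
  · refine Or.inl (PrimeSpectrum.basicOpen_injOn_isIdempotentElem he IsIdempotentElem.zero ?_)
    exact TopologicalSpace.Opens.ext (h.trans (by simp))
  · refine Or.inr (PrimeSpectrum.basicOpen_injOn_isIdempotentElem he IsIdempotentElem.one ?_)
    exact TopologicalSpace.Opens.ext (h.trans (by simp))

variable {A B₁ B₂ : Type u} [CommRing A] [CommRing B₁] [Algebra A B₁] [CommRing B₂] [Algebra A B₂]

variable {S : Type u} [CommSemiring S] [Algebra A S]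

/-- The first component. -/
noncomputable abbrev J1 (S : Type u) [CommSemiring S] [Algebra A S] : S ⊗[A] B₁ →ₗ[A] S ⊗[A] (B₁ × B₂) :=
  (LinearMap.inl A B₁ B₂).lTensor S

/-- The second component. -/
noncomputable abbrev J2 (S : Type u) [CommSemiring S] [Algebra A S] : S ⊗[A] B₂ →ₗ[A] S ⊗[A] (B₁ × B₂) :=
  (LinearMap.inr A B₁ B₂).lTensor S

theorem lTensor_smul' {M N : Type u} [AddCommGroup M] [Module A M] [AddCommGroup N] [Module A N]
    (f : M →ₗ[A] N) (s : S) (x : S ⊗[A] M) : f.lTensor S (s • x) = s • f.lTensor S x := by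
  induction x using TensorProduct.induction_on with
  | zero => simp
  | tmul a b => simp [TensorProduct.smul_tmul']
  | add a b ha hb => simp [smul_add, ha, hb]

theorem J_decomp (x : S ⊗[A] (B₁ × B₂)) :
    x = J1 S ((LinearMap.fst A B₁ B₂).lTensor S x) + J2 S ((LinearMap.snd A B₁ B₂).lTensor S x) := by
  induction x using TensorProduct.induction_on with
  | zero => simp
  | tmul a b => simp [← TensorProduct.tmul_add]
  | add a b ha hb =>
    simp only [map_add]
    exact (congrArg₂ (· + ·) ha hb).trans (add_add_add_comm _ _ _ _)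

theorem J1_mul (a b : S ⊗[A] B₁) : (J1 S a : S ⊗[A] (B₁ × B₂)) * J1 S b = J1 S (a * b) := by
  induction a using TensorProduct.induction_on with
  | zero => simp
  | tmul s x =>
    induction b using TensorProduct.induction_on with
    | zero => simp
    | tmul t y => simp [Algebra.TensorProduct.tmul_mul_tmul, Prod.mk_mul_mk, Prod.mk_zero_zero]
    | add p q hp hq => simp only [mul_add, map_add, hp, hq, add_zero]
  | add p q hp hq => simp only [add_mul, map_add, hp, hq, add_zero]

theorem J2_mul (a b : S ⊗[A] B₂) : (J2 S a : S ⊗[A] (B₁ × B₂)) * J2 S b = J2 S (a * b) := by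
  induction a using TensorProduct.induction_on with
  | zero => simp
  | tmul s x =>
    induction b using TensorProduct.induction_on with
    | zero => simp
    | tmul t y => simp [Algebra.TensorProduct.tmul_mul_tmul, Prod.mk_mul_mk, Prod.mk_zero_zero]
    | add p q hp hq => simp only [mul_add, map_add, hp, hq, add_zero]
  | add p q hp hq => simp only [add_mul, map_add, hp, hq, add_zero]

theorem J1_mul_J2 (a : S ⊗[A] B₁) (b : S ⊗[A] B₂) : (J1 S a : S ⊗[A] (B₁ × B₂)) * J2 S b = 0 := by
  induction a using TensorProduct.induction_on with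
  | zero => simp
  | tmul s x =>
    induction b using TensorProduct.induction_on with
    | zero => simp
    | tmul t y => simp [Algebra.TensorProduct.tmul_mul_tmul, Prod.mk_mul_mk, Prod.mk_zero_zero]
    | add p q hp hq => simp only [mul_add, map_add, hp, hq, add_zero]
  | add p q hp hq => simp only [add_mul, map_add, hp, hq, add_zero]

theorem J_mul (a a' : S ⊗[A] B₁) (b b' : S ⊗[A] B₂) :
    (J1 S a + J2 S b) * (J1 S a' + J2 S b') = J1 S (a * a') + J2 S (b * b') := by
  rw [add_mul, mul_add, mul_add, J1_mul, J2_mul, J1_mul_J2, mul_comm (J2 S b) (J1 S a'), J1_mul_J2]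
  abel

theorem J_one : (J1 S 1 + J2 S 1 : S ⊗[A] (B₁ × B₂)) = 1 := by
  simp [Algebra.TensorProduct.one_def, ← TensorProduct.tmul_add]
  rfl

variable {d : ℕ} (F : PolLaw.MulLaw A (B₁ × B₂) A d)

theorem lTensor_rT {M N : Type u} [AddCommGroup M] [Module A M] [AddCommGroup N] [Module A N] (f : M →ₗ[A] N)
    {S' : Type u} [CommSemiring S'] [Algebra A S'] (φ : S →ₐ[A] S') (x : S ⊗[A] M) :
    f.lTensor S' (rT φ M x) = rT φ N (f.lTensor S x) := by
  induction x using TensorProduct.induction_on with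
  | zero => simp
  | tmul a b => simp
  | add a b ha hb => simp [ha, hb]

theorem rT_one {S' : Type u} [CommSemiring S'] [Algebra A S'] (φ : S →ₐ[A] S') (B : Type u) [CommRing B]
    [Algebra A B] : rT φ B 1 = 1 := by rw [rT_eq_rTA, map_one]

/-- The value on the idempotent line. -/
theorem exists_degree [ConnectedSpace (PrimeSpectrum A)] :
    ∃ k : ℕ, ∀ (S : Type u) [CommSemiring S] [Algebra A S] (s : S),
      F.law.toFun' S (J1 S 1 + J2 S (s • 1)) = (s ^ k) ⊗ₜ[A] (1 : A) := by
  classical
  let p : A[X] := TensorProduct.rid A _ (F.law.toFun' A[X] (J1 A[X] 1 + J2 A[X] ((X : A[X]) • 1)))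
  have hp : F.law.toFun' A[X] (J1 A[X] 1 + J2 A[X] ((X : A[X]) • 1)) = p ⊗ₜ[A] (1 : A) := by
    apply (TensorProduct.rid A A[X]).injective
    simp [p]
  have hev : ∀ (S : Type u) [CommSemiring S] [Algebra A S] (s : S),
      F.law.toFun' S (J1 S 1 + J2 S (s • 1)) = (Polynomial.aeval s p) ⊗ₜ[A] (1 : A) := by
    intro S _ _ s
    have h := compat F.law (Polynomial.aeval s) (J1 A[X] 1 + J2 A[X] ((X : A[X]) • 1))
    rw [hp, rT_tmul] at h
    refine Eq.trans (congrArg _ ?_) h.symm
    simp only [map_add, J1, J2, ← lTensor_rT, rT_one]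
    congr 2
    simp [Algebra.TensorProduct.one_def, TensorProduct.smul_tmul']
  have hmul : ∀ (S : Type u) [CommSemiring S] [Algebra A S] (a b : S),
      Polynomial.aeval a p * Polynomial.aeval b p = Polynomial.aeval (a * b) p := by
    intro S _ _ a b
    have h := (F.mult S).2 (J1 S 1 + J2 S (a • 1)) (J1 S 1 + J2 S (b • 1))
    rw [J_mul, one_mul, smul_mul_smul_comm, one_mul, hev, hev, hev, Algebra.TensorProduct.tmul_mul_tmul,
      one_mul] at h
    simpa using congrArg (TensorProduct.rid A S) h.symm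
  have hone : p.eval 1 = 1 := by
    have h := hev A 1
    rw [one_smul, J_one, (F.mult A).1, Algebra.TensorProduct.one_def] at h
    simpa using (congrArg (TensorProduct.rid A A) h).symm
  have hcoef : ∀ k, p * C (p.coeff k) = C (p.coeff k) * X ^ k := by
    intro k
    have h := congrArg (fun q => Polynomial.coeff q k) (hmul A[X][X] (C X) X)
    have e1 : Polynomial.aeval (C X : A[X][X]) p = C p := by
      rw [show (C X : A[X][X]) = IsScalarTower.toAlgHom A A[X] A[X][X] X from rfl, Polynomial.aeval_algHom_apply,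
        Polynomial.aeval_X_left_apply]
      rfl
    have e2 : ∀ y : A[X], Polynomial.aeval ((C y) * X : A[X][X]) p =
        ∑ j ∈ p.support, C (C (p.coeff j) * y ^ j) * X ^ j := by
      intro y
      rw [Polynomial.aeval_eq_sum_range' (n := p.natDegree + 1) (by omega),
        ← Finset.sum_subset (s₁ := p.support) (fun j hj => Finset.mem_range.mpr
          (Nat.lt_succ_of_le (le_natDegree_of_mem_supp j hj))) (fun j _ hj => by simp [notMem_support_iff.mp hj])]
      refine Finset.sum_congr rfl fun j _ => ?_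
      rw [Algebra.smul_def, mul_pow, map_mul, map_pow, mul_assoc]
      rfl
    have e3 : Polynomial.aeval (X : A[X][X]) p = ∑ j ∈ p.support, C (C (p.coeff j)) * X ^ j := by
      have := e2 1
      simpa using this
    rw [e1, e2, e3, coeff_C_mul] at h
    simp only [finset_sum_coeff, coeff_C_mul, coeff_X_pow, mul_ite, mul_one, mul_zero, Finset.sum_ite_eq] at h
    split_ifs at h with hk
    · exact h
    · simp [notMem_support_iff.mp hk]
  have : Nontrivial A := by
    obtain ⟨P⟩ := (inferInstance : Nonempty (PrimeSpectrum A))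
    exact nontrivial_of_ne 0 1 fun h => P.isPrime.ne_top ((Ideal.eq_top_iff_one _).mpr (h ▸ zero_mem _))
  obtain ⟨k, hk⟩ : ∃ k, p.coeff k ≠ 0 := by
    by_contra! h
    have : p = 0 := Polynomial.ext fun k => by simp [h k]
    simp [this] at hone
  have hidem : IsIdempotentElem (p.coeff k) := by
    have h := congrArg (fun q => Polynomial.coeff q k) (hcoef k)
    simpa [IsIdempotentElem, coeff_mul_C, coeff_C_mul, coeff_X_pow] using h
  have hk1 : p.coeff k = 1 := (idem_zero_or_one hidem).resolve_left hk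
  have hpk : p = X ^ k := by simpa [hk1] using hcoef k
  exact ⟨k, fun S _ _ s => by rw [hev, hpk, map_pow, Polynomial.aeval_X]⟩

/-- The law on the first piece. -/
noncomputable def pieceFst : B₁ →ₚₗ[A] A where
  toFun' S _ _ := fun x => F.law.toFun' S (J1 S x + J2 S 1)
  isCompat' {S} _ _ {S'} _ _ φ := by
    funext x
    change rT φ A (F.law.toFun' S (J1 S x + J2 S 1)) = F.law.toFun' S' (J1 S' (rT φ B₁ x) + J2 S' 1)
    rw [compat, map_add, J1, J2, J1, J2, lTensor_rT, ← lTensor_rT _ φ 1, rT_one]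

/-- The law on the second piece. -/
noncomputable def pieceSnd : B₂ →ₚₗ[A] A where
  toFun' S _ _ := fun x => F.law.toFun' S (J1 S 1 + J2 S x)
  isCompat' {S} _ _ {S'} _ _ φ := by
    funext x
    change rT φ A (F.law.toFun' S (J1 S 1 + J2 S x)) = F.law.toFun' S' (J1 S' 1 + J2 S' (rT φ B₂ x))
    rw [compat, map_add, J1, J2, J1, J2, lTensor_rT, ← lTensor_rT _ φ 1, rT_one]

theorem law_pieces (x : S ⊗[A] (B₁ × B₂)) :
    F.law.toFun' S x = (pieceFst F).toFun' S ((LinearMap.fst A B₁ B₂).lTensor S x) *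
      (pieceSnd F).toFun' S ((LinearMap.snd A B₁ B₂).lTensor S x) := by
  conv_lhs => rw [J_decomp x]
  show _ = F.law.toFun' S (_ + _) * F.law.toFun' S (_ + _)
  rw [← (F.mult S).2, J_mul, mul_one, one_mul]

theorem smul_eq_tmul_mul (c : S) (z : S ⊗[A] A) : c • z = (c ⊗ₜ[A] (1 : A)) * z := by
  induction z using TensorProduct.induction_on with
  | zero => simp
  | tmul a b => simp [TensorProduct.smul_tmul', Algebra.TensorProduct.tmul_mul_tmul]
  | add a b ha hb => simp [smul_add, mul_add, ha, hb]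

theorem product_decomposition [ConnectedSpace (PrimeSpectrum A)] :
    ∃ d₁ d₂ : ℕ, d₁ + d₂ = d ∧
      (∃ (F₁ : PolLaw.MulLaw A B₁ A d₁) (F₂ : PolLaw.MulLaw A B₂ A d₂),
        ∀ (S : Type u) [CommSemiring S] [Algebra A S] (x : S ⊗[A] (B₁ × B₂)),
          F.law.toFun' S x = F₁.law.toFun' S (LinearMap.lTensor S (LinearMap.fst A B₁ B₂) x) *
            F₂.law.toFun' S (LinearMap.lTensor S (LinearMap.snd A B₁ B₂) x)) ∧
      ∀ (e₁ e₂ : ℕ) (G₁ : PolLaw.MulLaw A B₁ A e₁) (G₂ : PolLaw.MulLaw A B₂ A e₂),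
        (∀ (S : Type u) [CommSemiring S] [Algebra A S] (x : S ⊗[A] (B₁ × B₂)),
          F.law.toFun' S x = G₁.law.toFun' S (LinearMap.lTensor S (LinearMap.fst A B₁ B₂) x) *
            G₂.law.toFun' S (LinearMap.lTensor S (LinearMap.snd A B₁ B₂) x)) → e₁ = d₁ ∧ e₂ = d₂ := by
  have : Nontrivial A := by
    obtain ⟨P⟩ := (inferInstance : Nonempty (PrimeSpectrum A))
    exact nontrivial_of_ne 0 1 fun h => P.isPrime.ne_top ((Ideal.eq_top_iff_one _).mpr (h ▸ zero_mem _))
  obtain ⟨k, hk⟩ := exists_degree F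
  have hkd : k ≤ d ∧ ∀ (S : Type u) [CommSemiring S] [Algebra A S] (s : S),
      F.law.toFun' S (J1 S (s • 1) + J2 S 1) = (s ^ (d - k)) ⊗ₜ[A] (1 : A) := by
    -- the swapped line
    let F' : PolLaw.MulLaw A (B₂ × B₁) A d :=
      F.precomp (AlgHom.prod (AlgHom.snd A B₂ B₁) (AlgHom.fst A B₂ B₁))
    obtain ⟨l, hl⟩ := exists_degree F'
    have hl' : ∀ (S : Type u) [CommSemiring S] [Algebra A S] (s : S),
        F.law.toFun' S (J1 S (s • 1) + J2 S 1) = (s ^ l) ⊗ₜ[A] (1 : A) := by
      intro S _ _ s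
      refine Eq.trans ?_ (hl S s)
      show _ = F.law.toFun' S ((AlgHom.prod (AlgHom.snd A B₂ B₁) (AlgHom.fst A B₂ B₁)).toLinearMap.lTensor S _)
      congr 1
      simp [Algebra.TensorProduct.one_def, TensorProduct.smul_tmul', add_comm]
    have hsum : l + k = d := by
      have h := (F.mult A[X]).2 (J1 A[X] ((X : A[X]) • 1) + J2 A[X] 1) (J1 A[X] 1 + J2 A[X] ((X : A[X]) • 1))
      rw [J_mul, mul_one, one_mul, hl', hk, J1, J2, lTensor_smul', lTensor_smul', ← smul_add] at h
      change F.law.toFun' A[X] ((X : A[X]) • (J1 A[X] 1 + J2 A[X] 1)) = _ at h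
      rw [J_one, F.homog, (F.mult _).1, Algebra.TensorProduct.tmul_mul_tmul, one_mul, ← pow_add,
        Algebra.TensorProduct.one_def, TensorProduct.smul_tmul', smul_eq_mul, mul_one] at h
      simpa using (congrArg (fun z => (TensorProduct.rid A A[X] z).natDegree) h).symm
    exact ⟨by omega, fun S _ _ s => by rw [hl', show l = d - k by omega]⟩
  obtain ⟨hkd, hk'⟩ := hkd
  refine ⟨d - k, k, by omega, ?_, ?_⟩
  · refine ⟨⟨pieceFst F, fun S _ _ s x => ?_, fun S _ _ => ⟨?_, fun x y => ?_⟩⟩,
      ⟨pieceSnd F, fun S _ _ s x => ?_, fun S _ _ => ⟨?_, fun x y => ?_⟩⟩, fun S _ _ x => law_pieces F x⟩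
    · show F.law.toFun' S _ = _ • F.law.toFun' S _
      rw [show s • x = (s • 1) * x by rw [smul_mul_assoc, one_mul]]
      rw [show J1 S ((s • 1) * x) + J2 S 1 = (J1 S (s • 1) + J2 S 1) * (J1 S x + J2 S 1) by
        rw [J_mul, one_mul], (F.mult S).2, hk', ← smul_eq_tmul_mul]
    · show F.law.toFun' S _ = 1
      rw [J_one, (F.mult S).1]
    · show F.law.toFun' S _ = F.law.toFun' S _ * F.law.toFun' S _
      rw [← (F.mult S).2, J_mul, one_mul]
    · show F.law.toFun' S _ = _ • F.law.toFun' S _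
      rw [show s • x = (s • 1) * x by rw [smul_mul_assoc, one_mul]]
      rw [show J1 S 1 + J2 S ((s • 1) * x) = (J1 S 1 + J2 S (s • 1)) * (J1 S 1 + J2 S x) by
        rw [J_mul, one_mul], (F.mult S).2, hk, ← smul_eq_tmul_mul]
    · show F.law.toFun' S _ = 1
      rw [J_one, (F.mult S).1]
    · show F.law.toFun' S _ = F.law.toFun' S _ * F.law.toFun' S _
      rw [← (F.mult S).2, J_mul, one_mul]
  · intro e₁ e₂ G₁ G₂ hG
    have hf1 : ∀ (a : A[X] ⊗[A] B₁) (b : A[X] ⊗[A] B₂),
        (LinearMap.fst A B₁ B₂).lTensor _ (J1 _ a + J2 _ b) = a ∧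
          (LinearMap.snd A B₁ B₂).lTensor _ (J1 _ a + J2 _ b) = b := fun a b => by
      constructor <;>
        simp [J1, J2, ← LinearMap.lTensor_comp_apply, LinearMap.fst_comp_inl, LinearMap.fst_comp_inr,
          LinearMap.snd_comp_inl, LinearMap.snd_comp_inr]
    constructor
    · have h := hG A[X] (J1 _ ((X : A[X]) • 1) + J2 _ 1)
      rw [hk', (hf1 _ _).1, (hf1 _ _).2, G₁.homog, (G₁.mult _).1, (G₂.mult _).1, mul_one,
        Algebra.TensorProduct.one_def, TensorProduct.smul_tmul', smul_eq_mul, mul_one] at h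
      simpa using (congrArg (fun z => (TensorProduct.rid A A[X] z).natDegree) h).symm
    · have h := hG A[X] (J1 _ 1 + J2 _ ((X : A[X]) • 1))
      rw [hk, (hf1 _ _).1, (hf1 _ _).2, G₂.homog, (G₁.mult _).1, (G₂.mult _).1, one_mul,
        Algebra.TensorProduct.one_def, TensorProduct.smul_tmul', smul_eq_mul, mul_one] at h
      simpa using (congrArg (fun z => (TensorProduct.rid A A[X] z).natDegree) h).symm

end Groth.Agent.PolLaw95
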