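import Groth.Agent.PolLaw95.Laws
import Groth.Agent.PolLaw95.Polar
import Groth.Prelude.Def_SymTen

/-!
The law `x ↦ x ⊗ ⋯ ⊗ x` into symmetric tensors.
-/

set_option linter.unusedSectionVars false

universe u

open scoped TensorProduct

open MvPolynomial

namespace Groth.Agent.PolLaw95

variable (A B : Type u) [CommRing A] [CommRing B] [Algebra A B] (d : ℕ)

theorem lTensor_rTA {C : Type u} [CommRing C] [Algebra A C] (g : B →ₐ[A] C) {S S' : Type u} [CommSemiring S]
    [Algebra A S] [CommSemiring S'] [Algebra A S'] (φ : S →ₐ[A] S') (x : S ⊗[A] B) :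
    rTA φ C (g.toLinearMap.lTensor S x) = g.toLinearMap.lTensor S' (rTA φ B x) := by
  induction x using TensorProduct.induction_on with
  | zero => simp
  | tmul s b => rfl
  | add x y hx hy => simp [hx, hy]

/-- The product of the `d` slot maps. -/
noncomputable def sym0 : PolLaw.MulLaw A B (⨂[A] _ : Fin d, B) d where
  law :=
    { toFun' := fun S _ _ x =>
        ∏ i : Fin d, (PiTensorProduct.singleAlgHom (R := A) (A := fun _ : Fin d => B) i).toLinearMap.lTensor S x
      isCompat' := fun {S} _ _ {S'} _ _ φ => by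
        funext x
        simp only [Function.comp_apply]
        rw [show φ.toLinearMap.rTensor (⨂[A] _ : Fin d, B) = rT φ (⨂[A] _ : Fin d, B) from rfl, rT_eq_rTA, map_prod]
        refine Finset.prod_congr rfl fun i _ => ?_
        rw [lTensor_rTA, ← rT_eq_rTA]
        rfl }
  homog S _ _ s x := by
    simp only [PolLaw.lTensor_algHom_apply, map_smul]
    rw [Finset.prod_smul, Finset.prod_const, Finset.card_univ, Fintype.card_fin]
  mult S _ _ := by
    simp only [PolLaw.lTensor_algHom_apply, map_one, map_mul]
    exact ⟨Finset.prod_const_one, fun x y => Finset.prod_mul_distrib⟩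

theorem prod_singleAlgHom (c : Fin d → B) :
    ∏ i, PiTensorProduct.singleAlgHom (R := A) (A := fun _ : Fin d => B) i (c i) = PiTensorProduct.tprod A c := by
  have h : ∀ s : Finset (Fin d), ∏ i ∈ s, PiTensorProduct.singleAlgHom (R := A) (A := fun _ : Fin d => B) i (c i) =
      PiTensorProduct.tprod A (fun j => if j ∈ s then c j else 1) := by
    intro s
    induction s using Finset.induction with
    | empty => simp [PiTensorProduct.one_def]; rfl
    | insert a s ha ih =>
      rw [Finset.prod_insert ha, ih]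
      change PiTensorProduct.tprod A _ * _ = _
      rw [PiTensorProduct.tprod_mul_tprod]
      congr 1
      funext j
      by_cases hj : j = a
      · subst hj; simp [ha]
      · simp [hj, Pi.mulSingle]
  simpa using h Finset.univ

theorem sym0_sum (S : Type u) [CommSemiring S] [Algebra A S] {n : ℕ} (s : Fin n → S) (b : Fin n → B) :
    (sym0 A B d).law.toFun' S (∑ j, s j ⊗ₜ[A] b j) =
      ∑ c : Fin d → Fin n, (∏ i, s (c i)) ⊗ₜ[A] PiTensorProduct.tprod A (fun i => b (c i)) := by
  classical
  change ∏ i : Fin d, _ = _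
  simp only [map_sum, LinearMap.lTensor_tmul, AlgHom.toLinearMap_apply]
  rw [Finset.prod_univ_sum, Fintype.piFinset_univ]
  refine Finset.sum_congr rfl fun c _ => ?_
  rw [← prod_singleAlgHom A B d]
  induction (Finset.univ : Finset (Fin d)) using Finset.induction with
  | empty => simp [Algebra.TensorProduct.one_def]
  | insert a t ha ih => rw [Finset.prod_insert ha, Finset.prod_insert ha, Finset.prod_insert ha, ih,
      Algebra.TensorProduct.tmul_mul_tmul]

theorem sym0_coef {n : ℕ} (b : Fin n → B) (β : Fin n →₀ ℕ) :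
    coef (sym0 A B d).law b β =
      ∑ c : Fin d → Fin n, if counts c = β then PiTensorProduct.tprod A (fun i => b (c i)) else 0 := by
  classical
  rw [coef, uni, sym0_sum]
  simp only [map_sum, Finsupp.finsetSum_apply, coefL_tmul, ← monomial_counts, coeff_monomial, ite_smul,
    one_smul, zero_smul]

theorem coefSpan_sym0_le : coefSpan (sym0 A B d).law ≤ (SymTen.TS A B d).toSubmodule := by
  classical
  rw [coefSpan, Submodule.span_le]
  rintro _ ⟨n, b, β, rfl⟩ σ
  rw [sym0_coef, map_sum]
  refine Fintype.sum_equiv ((σ.arrowCongr (Equiv.refl (Fin n)))) _ _ fun c => ?_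
  have hc : counts ((σ.arrowCongr (Equiv.refl (Fin n))) c) = counts c := by
    rw [counts, counts]
    change Finsupp.mapDomain (c ∘ σ.symm) _ = _
    rw [Finsupp.mapDomain_comp]
    congr 1
    ext k
    obtain ⟨a, rfl⟩ := σ.symm.surjective k
    rw [Finsupp.mapDomain_apply σ.symm.injective]
    simp [onesE]
  rw [hc]
  split_ifs
  · rw [PiTensorProduct.reindex_tprod]
    rfl
  · exact map_zero _

/-- The law `x ↦ x ⊗ ⋯ ⊗ x` into symmetric tensors. -/
noncomputable def sym : PolLaw.MulLaw A B (SymTen.TS A B d) d :=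
  (exists_restrict_mulLaw (sym0 A B d) (SymTen.TS A B d) (coefSpan_sym0_le A B d)).choose

theorem postcomp_sym : PolLaw.postcomp (SymTen.TS A B d).val.toLinearMap (sym A B d).law = (sym0 A B d).law :=
  (exists_restrict_mulLaw (sym0 A B d) (SymTen.TS A B d) (coefSpan_sym0_le A B d)).choose_spec

theorem val_sym (S : Type u) [CommSemiring S] [Algebra A S] (x : S ⊗[A] B) :
    (SymTen.TS A B d).val.toLinearMap.lTensor S ((sym A B d).law.toFun' S x) = (sym0 A B d).law.toFun' S x :=
  congrFun (congrArg (fun L : B →ₚₗ[A] ⨂[A] _ : Fin d, B => L.toFun' S) (postcomp_sym A B d)) x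

theorem val_sym_sum (S : Type u) [CommSemiring S] [Algebra A S] (n : ℕ) (s : Fin n → S) (b : Fin n → B) :
    (SymTen.TS A B d).val.toLinearMap.lTensor S ((sym A B d).law.toFun' S (∑ j, s j ⊗ₜ[A] b j)) =
      ∑ c : Fin d → Fin n, (∏ i, s (c i)) ⊗ₜ[A] PiTensorProduct.tprod A (fun i => b (c i)) := by
  rw [val_sym, sym0_sum]

theorem val_sym_coef {n : ℕ} (b : Fin n → B) (β : Fin n →₀ ℕ) :
    ((coef (sym A B d).law b β : SymTen.TS A B d) : ⨂[A] _ : Fin d, B) = coef (sym0 A B d).law b β := by
  conv_rhs => rw [← postcomp_sym]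
  have h : ∀ z : MvPolynomial (Fin n) A ⊗[A] SymTen.TS A B d,
      ((coefL z β : SymTen.TS A B d) : ⨂[A] _ : Fin d, B) =
        coefL ((SymTen.TS A B d).val.toLinearMap.lTensor _ z) β := fun z => by
    induction z using TensorProduct.induction_on with
    | zero => simp
    | tmul p m => simp
    | add x y hx hy => simp [map_add, hx, hy]
  exact h _

end Groth.Agent.PolLaw95
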